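import Groth.Agent.Mum71.BaseChange
import Groth.Agent.Serre71.Finite

/-! The finite free complex computing cohomology after every base change. -/

set_option autoImplicit false
set_option maxSynthPendingDepth 6
set_option synthInstance.maxHeartbeats 200000
set_option linter.style.haveILetI false
set_option backward.isDefEq.respectTransparency.types false

universe u

noncomputable section

open CategoryTheory CategoryTheory.Limits AlgebraicGeometry TopologicalSpace Opposite TensorProduct
open CohIII (T tensorObj)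

namespace Groth.Agent.Mum71

open Coh69 CechComp71 QC70 FF71

variable {A : Type u} [CommRing A] {X : Scheme.{u}} [X.Over (Spec (CommRingCat.of A))]
  {ι : Type u} (U : ι → X.Opens) (F : X.Modules) [F.IsQuasicoherent]

omit [F.IsQuasicoherent] in
/-- The tautological comparison. -/
def idCoef : Coef (A := A) U F U F A where
  θ p i := (TensorProduct.rid A Γ(F, cOpen U i)).toAddEquiv
  θ_res p k j x a := by
    show a • res F (cOpen_comp_le U k j.succAbove) x = res F (cOpen_comp_le U k j.succAbove) (a • x)
    rw [modSec_smul, modSec_smul, QC70.res_smul, resO_rA]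

variable [Finite ι]

omit [F.IsQuasicoherent] in
lemma idCoef_Φ_smul (p : ℕ) (a : A) (x : Ch U F p ⊗[A] A) :
    (idCoef (A := A) U F).Φ p (a • x) = smulC U F p a ((idCoef (A := A) U F).Φ p x) := by
  induction x using TensorProduct.induction_on with
  | zero => simp only [smul_zero, map_zero]
  | add x y hx hy => simp only [smul_add, map_add, hx, hy]
  | tmul c b =>
    funext i
    rw [TensorProduct.smul_tmul', Coef.Φ_tmul, smulC_apply, Coef.Φ_tmul]
    show b • (a • c i) = rA A X (cOpen U i) a • (b • c i)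
    rw [← modSec_smul, smul_comm]

variable {U} (hU : ⨆ i, U i = ⊤) (hU' : ∀ (n : ℕ) (i : Fin (n + 1) → ι), IsAffineOpen (cOpen U i))

/-- The tensor product with the base ring. -/
def tensorSelfIso (K : CochainComplex (ModuleCat.{u} A) ℤ) :
    tensorObj K (ModuleCat.of A A) ≅ K :=
  HomologicalComplex.Hom.isoOfComponents (fun i => (TensorProduct.rid A (K.X i)).toModuleIso)
    (fun i j _ => by
      refine ModuleCat.hom_ext (TensorProduct.ext' fun y a => ?_)
      show (K.d i j).hom (a • y) = a • (K.d i j).hom y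
      rw [map_smul])

include hU hU' in
theorem finite_homology_chCx [IsNoetherianRing A] [IsProper (X ↘ Spec (CommRingCat.of A))]
    (hF : Coh.IsCoh F) : ∀ i, Module.Finite A ((chCx A U F).homology i)
  | .negSucc n => by
    have : IsZero ((chCx A U F).homology (Int.negSucc n)) :=
      HomologicalComplex.ExactAt.isZero_homology ((HomologicalComplex.exactAt_iff _ _).2
        (ShortComplex.exact_of_isZero_X₂ _ (isZero_chX_neg U F _ (Int.negSucc_lt_zero n))))
    haveI := ModuleCat.subsingleton_of_isZero this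
    infer_instance
  | .ofNat p => by
    obtain ⟨e, he⟩ := (idCoef (A := A) U F).exists_equiv hU (acyclicOn_of_isAffineOpen _ F hU') p
    let e' : T (chCx A U F) (p : ℤ) (ModuleCat.of A A) ≃ₗ[A] Coh.HH X F p :=
      { e with
        map_smul' := fun a t => by
          obtain ⟨z, rfl⟩ := FCx40.hcls_surjective
            (CochainComplex.next ℤ (p : ℤ)) t
          change e (a • _) = a • e _
          rw [← map_smul, he, he]
          show toHH U hU F p _ = a • toHH U hU F p _
          rw [← FF71.toHH_smulZ]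
          congr 1
          exact Subtype.ext ((idCoef_Φ_smul U F p a z.1).trans
            (smulZ_val U F p a ((idCoef (A := A) U F).cyc p z)).symm) }
    haveI := Serre71.finite_hh_of_isProper A F hF p
    exact Module.Finite.equiv
      (e'.symm.trans ((HomologicalComplex.homologyMapIso (tensorSelfIso (chCx A U F)) (p : ℤ)).toLinearEquiv))

include hU' in
theorem flat_chCx (hfl : FlatMod.IsFlatOver (X ↘ Spec (CommRingCat.of A)) F) :
    ∀ i, Module.Flat A ((chCx A U F).X i)
  | .negSucc _ => inferInstanceAs (Module.Flat A PUnit.{u + 1})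
  | .ofNat p => by
    have h : ∀ i : Fin (p + 1) → ι, Module.Flat A Γ(F, cOpen U i) := fun i => by
      have h := FlatMor68.FlatSections.flat_sections (X ↘ Spec (CommRingCat.of A))
        (U := cOpen U i) (V := ⊤) le_top (hU' p i) (isAffineOpen_top _)
        (isLocAt_of_isQuasicoherent F (hU' p i)) (fun x _ => hfl x)
      letI : Algebra A Γ(Spec (CommRingCat.of A), ⊤) := (Scheme.ΓSpecIso (CommRingCat.of A)).inv.hom.toAlgebra
      letI : Module Γ(Spec (CommRingCat.of A), ⊤) Γ(F, cOpen U i) := Module.compHom _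
        ((X ↘ Spec (CommRingCat.of A)).appLE ⊤ (cOpen U i) le_top).hom
      haveI : Module.Flat A Γ(Spec (CommRingCat.of A), ⊤) := Module.Flat.of_linearEquiv
        (LinearEquiv.ofBijective (Algebra.linearMap A Γ(Spec (CommRingCat.of A), ⊤))
          (ConcreteCategory.bijective_of_isIso (Scheme.ΓSpecIso (CommRingCat.of A)).inv)).symm
      haveI : IsScalarTower A Γ(Spec (CommRingCat.of A), ⊤) Γ(F, cOpen U i) :=
        IsScalarTower.of_algebraMap_smul fun a m =>
          (congrArg (· • m) (congrArg (fun φ => φ a) (rA_eq_appLE A X (cOpen U i)))).symm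
      haveI : Module.Flat Γ(Spec (CommRingCat.of A), ⊤) Γ(F, cOpen U i) := h
      exact Module.Flat.trans A Γ(Spec (CommRingCat.of A), ⊤) _
    show Module.Flat A (Ch U F p)
    letI := Classical.decEq (Fin (p + 1) → ι)
    letI := Fintype.ofFinite (Fin (p + 1) → ι)
    exact Module.Flat.of_linearEquiv
      (DirectSum.linearEquivFunOnFintype A (Fin (p + 1) → ι) (fun i => Γ(F, cOpen U i))).symm

include hU hU' in
theorem uexact_chCx [IsSeparated (X ↘ Spec (CommRingCat.of A))] (hA : ∀ i, IsAffineOpen (U i))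
    (i : ℤ) (hi : ((Nat.card ι : ℕ) : ℤ) < i) : UExact (chCx A U F) i := by
  obtain ⟨q, rfl⟩ : ∃ q : ℕ, i = (q : ℤ) + 1 := ⟨(i - 1).toNat, by omega⟩
  intro M _ _ x hx
  letI : Module Aᵐᵒᵖ M := Module.compHom M ((RingHom.id A).fromOpposite mul_comm)
  haveI : IsCentralScalar A M := ⟨fun _ _ => rfl⟩
  let B := TrivSqZeroExt A M
  let r : M →ₗ[A] B := TrivSqZeroExt.inrHom A M
  let s : B →ₗ[A] M := TrivSqZeroExt.sndHom A M
  have hx' : (cdL A U F (q + 1)).rTensor B (r.lTensor (Ch U F (q + 1)) x) = 0 := by
    have h : (cdL A U F (q + 1)).rTensor M x = 0 := by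
      rw [chCx_d] at hx
      exact hx
    rw [FCx40.comm_rTensor_lTensor, h, map_zero]
  obtain ⟨w, hw⟩ := (bcCoef F B hU').mem_range_of_subsingleton (iSup_bcCover U B hU)
    (acyclicOn_bc F B hU') q (subsingleton_hh_bc F B hU hA (by omega)) _ hx'
  rw [show (q : ℤ) + 1 - 1 = (q : ℤ) by omega, chCx_d_ofNat]
  refine ⟨s.lTensor (Ch U F q) w, ?_⟩
  refine (FCx40.comm_rTensor_lTensor (cdL A U F q) s w).trans ?_
  rw [hw]
  show s.lTensor (Ch U F (q + 1)) (r.lTensor (Ch U F (q + 1)) x) = x
  rw [← LinearMap.comp_apply, ← LinearMap.lTensor_comp,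
    show s ∘ₗ r = LinearMap.id from LinearMap.ext fun m => TrivSqZeroExt.snd_inr A m,
    LinearMap.lTensor_id]
  rfl

omit [Finite ι] [F.IsQuasicoherent] in
/-- A finite free complex mapping to the Čech complex, inducing isomorphisms with all coefficients. -/
theorem exists_model (A : Type u) [CommRing A] [IsNoetherianRing A] {X : Scheme.{u}}
    [X.Over (Spec (CommRingCat.of A))]
    [IsProper (X ↘ Spec (CommRingCat.of A))] (F : X.Modules) (hF : Coh.IsCoh F)
    (hfl : FlatMod.IsFlatOver (X ↘ Spec (CommRingCat.of A)) F) :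
    ∃ (ι : Type u) (_ : Finite ι) (U : ι → X.Opens) (L : CochainComplex (ModuleCat.{u} A) ℤ)
      (φ : L ⟶ chCx A U F) (N : ℤ),
      (⨆ i, U i = ⊤) ∧ (∀ (n : ℕ) (i : Fin (n + 1) → ι), IsAffineOpen (cOpen U i)) ∧
      (∀ i, Module.Finite A (L.X i) ∧ Module.Free A (L.X i)) ∧ (∀ i, N < i → IsZero (L.X i)) ∧
      ∀ M : ModuleCat.{u} A, QuasiIso
        (((MonoidalCategory.tensorRight M).mapHomologicalComplex (ComplexShape.up ℤ)).map φ) := by
  haveI := hF.1
  obtain ⟨ι, hι, U, hU, hU'⟩ := FF71.exists_cover (A := A) (X := X)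
  have hA : ∀ i, IsAffineOpen (U i) := fun i => by
    have h := hU' 0 (fun _ => i)
    rwa [show cOpen U (fun _ : Fin 1 => i) = U i from
      le_antisymm (cOpen_le U _ 0) (le_cOpen U fun _ => le_rfl)] at h
  obtain ⟨L, φ, h1, h2, h3⟩ := exists_finite_free (flat_chCx F hU' hfl)
    (finite_homology_chCx F hU hU' hF) (uexact_chCx F hU hU' hA)
  exact ⟨ι, hι, U, L, φ, _, hU, hU', h1, h2, h3⟩

variable {F}
  {L : CochainComplex (ModuleCat.{u} A) ℤ} {φ : L ⟶ chCx A U F}
  (hφ : ∀ M : ModuleCat.{u} A, QuasiIso
    (((MonoidalCategory.tensorRight M).mapHomologicalComplex (ComplexShape.up ℤ)).map φ))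

include hφ in
omit [F.IsQuasicoherent] [Finite ι] in
theorem isZero_T_of_neg (M : ModuleCat.{u} A) (i : ℤ) (hi : i < 0) : IsZero (T L i M) := by
  haveI := hφ M
  have h0 : IsZero ((tensorObj (chCx A U F) M).X i) :=
    Functor.map_isZero (MonoidalCategory.tensorRight M) (isZero_chX_neg U F i hi)
  have key : IsZero ((tensorObj (chCx A U F) M).homology i) :=
    HomologicalComplex.ExactAt.isZero_homology ((HomologicalComplex.exactAt_iff _ _).2
      (ShortComplex.exact_of_isZero_X₂ _ h0))
  let f : T L i M ⟶ T (chCx A U F) i M := HomologicalComplex.homologyMap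
    (((MonoidalCategory.tensorRight M).mapHomologicalComplex (ComplexShape.up ℤ)).map φ) i
  haveI : IsIso f := (quasiIsoAt_iff_isIso_homologyMap _ i).1 ((hφ M).quasiIsoAt i)
  exact key.of_iso (asIso f)

include hφ hU hU' in
/-- Cohomology of every base change is computed by the finite free complex. -/
theorem nonempty_hh_bc (B : Type u) [CommRing B] [Algebra A B] (p : ℕ) :
    Nonempty (Coh.HH (bc A X B) (bcMod (A := A) F B) p ≃+ T L (p : ℤ) (ModuleCat.of A B)) := by
  haveI := hφ (ModuleCat.of A B)
  obtain ⟨e, -⟩ := (bcCoef (A := A) F B hU').exists_equiv (iSup_bcCover U B hU)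
    (acyclicOn_bc F B hU') p
  exact ⟨e.symm.trans (asIso (HomologicalComplex.homologyMap
    (((MonoidalCategory.tensorRight (ModuleCat.of A B)).mapHomologicalComplex (ComplexShape.up ℤ)).map φ)
      (p : ℤ))).symm.toLinearEquiv.toAddEquiv⟩

end Groth.Agent.Mum71
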