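import Groth.Agent.QCTens72.Basic
import Groth.Agent.Mero90.TensorLift
import Groth.Prelude.Def_DDual2

/-! `tmul` is a bijection on sections of quasi-coherent modules over affine opens. -/

set_option autoImplicit false
set_option backward.isDefEq.respectTransparency.types false

noncomputable section

universe u

open CategoryTheory Limits AlgebraicGeometry TopologicalSpace Opposite TensorProduct MonoidalCategory
open Groth.Agent.QC70 Groth.Agent.QCPull72 Groth.Agent.QCTens72

namespace Groth.Agent.Mum71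

variable {X : Scheme.{u}}

lemma lift_app_tmul {L M H : X.Modules} (φ : CohB1.tensorPre L M ⟶ Mod48.pre (O := X.sheaf) H)
    (U : X.Opens) (m : Γ(L, U)) (n : Γ(M, U)) :
    (show CohB1.tensorMod L M ⟶ H from
      (Mod48.shf (O := X.sheaf)).map φ ≫ ((Mod48.shfCounitIso (O := X.sheaf)).app H).hom).app U
        (SecTwist.tmul L M U m n) = φ.app (op U) (Mero90.tq m n) := by
  have h : Mod48.shfU (O := X.sheaf) (CohB1.tensorPre L M) ≫
      Mod48.fgt.map ((Mod48.shf (O := X.sheaf)).map φ ≫ ((Mod48.shfCounitIso (O := X.sheaf)).app H).hom) = φ := by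
    change Mod48.shfU (O := X.sheaf) _ ≫ Mod48.fgt.map ((Mod48.shf).map φ ≫
      (Mod48.shfAdj (O := X.sheaf)).counit.app H) = _
    rw [Functor.map_comp, ← Category.assoc, ← Mod48.shfU_naturality, Category.assoc]
    refine (congrArg (φ ≫ ·) ((Mod48.shfAdj (O := X.sheaf)).right_triangle_components H)).trans ?_
    exact Category.comp_id _
  exact congrArg (fun q : CohB1.tensorPre L M ⟶ Mod48.pre (O := X.sheaf) H =>
    q.app (op U) (Mero90.tq m n)) h

lemma tensIso_app_tmul {L L' M M' : X.Modules} (a : L ≅ L') (b : M ≅ M')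
    (U : X.Opens) (m : Γ(L, U)) (n : Γ(M, U)) :
    (EGA73.tensIso a b).hom.app U (SecTwist.tmul L M U m n) =
      SecTwist.tmul L' M' U (a.hom.app U m) (b.hom.app U n) := by
  let g := ((Mod48.fgt (O := X.sheaf)).mapIso a ⊗ᵢ (Mod48.fgt (O := X.sheaf)).mapIso b).hom
  exact congrArg (fun q => q.app (op U) (Mero90.tq m n))
    (Mod48.shfU_naturality (O := X.sheaf) g).symm

lemma tensorTildeIso_app_tmul {R : CommRingCat.{u}} (M N : ModuleCat.{u} R)
    (U : (Spec R).Opens) (s : Γ(tilde M, U)) (t : Γ(tilde N, U)) :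
    (tensorTildeIso M N).hom.app U (SecTwist.tmul (tilde M) (tilde N) U s t) = secMul s t :=
  lift_app_tmul (L := tilde M) (M := tilde N) (H := tilde (tensObj M N)) (mulPre M N) U s t

lemma tensorRestrictIso_app_tmul {Y : Scheme.{u}} (f : X ⟶ Y) [IsOpenImmersion f] (M N : Y.Modules)
    (U : X.Opens) (m : Γ(M, f ''ᵁ U)) (n : Γ(N, f ''ᵁ U)) :
    (EGA73.tensorRestrictIso f M N).hom.app U
        (SecTwist.tmul (M.restrict f) (N.restrict f) U m n) =
      SecTwist.tmul M N (f ''ᵁ U) m n :=
  lift_app_tmul (X := X) (L := M.restrict f) (M := N.restrict f) (H := (CohB1.tensorMod M N).restrict f) _ U m n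

lemma hom_inv_app {M N : X.Modules} (e : M ≅ N) (U : X.Opens) (x : Γ(M, U)) :
    e.inv.app U (e.hom.app U x) = x :=
  congr($(congrArg (fun q : M ⟶ M => q.app U) e.hom_inv_id) x)

/-- `tensorRightMod` on a pure tensor. -/
lemma tensorRightMod_map_tmul (F : X.Modules) {N N' : X.Modules} (g : N ⟶ N') (U : X.Opens) (m : Γ(N, U))
    (x : Γ(F, U)) :
    ((DCoh.tensorRightMod F).map g).app U (SecTwist.tmul N F U m x) = SecTwist.tmul N' F U (g.app U m) x :=
  (congrArg (fun q => q.app (op U) (Mero90.tq m x))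
    (Mod48.shfU_naturality (O := X.sheaf) ((Mod48.fgt (O := X.sheaf)).map g ▷ CohB1.toPMod F)).symm :)

namespace SecTwistTmul

variable (L M : X.Modules) (U : X.Opens)

lemma zero_left (n : Γ(M, U)) : SecTwist.tmul L M U 0 n = 0 := by
  exact (congrArg (fun t => ((SecTwist.toTensor L M).app (op U)).hom t) (TensorProduct.zero_tmul _ _)).trans (map_zero ((SecTwist.toTensor L M).app (op U)).hom)

lemma zero_right (m : Γ(L, U)) : SecTwist.tmul L M U m 0 = 0 := by
  exact (congrArg (fun t => ((SecTwist.toTensor L M).app (op U)).hom t) (TensorProduct.tmul_zero _ _)).trans (map_zero ((SecTwist.toTensor L M).app (op U)).hom)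

lemma add_left (m m' : Γ(L, U)) (n : Γ(M, U)) :
    SecTwist.tmul L M U (m + m') n = SecTwist.tmul L M U m n + SecTwist.tmul L M U m' n := by
  exact (congrArg (fun t => ((SecTwist.toTensor L M).app (op U)).hom t) (TensorProduct.add_tmul _ _ _)).trans (map_add ((SecTwist.toTensor L M).app (op U)).hom _ _)

lemma add_right (m : Γ(L, U)) (n n' : Γ(M, U)) :
    SecTwist.tmul L M U m (n + n') = SecTwist.tmul L M U m n + SecTwist.tmul L M U m n' := by
  exact (congrArg (fun t => ((SecTwist.toTensor L M).app (op U)).hom t) (TensorProduct.tmul_add _ _ _)).trans (map_add ((SecTwist.toTensor L M).app (op U)).hom _ _)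

lemma smul_comm (r : Γ(X, U)) (m : Γ(L, U)) (n : Γ(M, U)) :
    SecTwist.tmul L M U m (r • n) = SecTwist.tmul L M U (r • m) n := by
  exact congrArg (fun t => ((SecTwist.toTensor L M).app (op U)).hom t)
    ((Mod48.tp_smul_right (O := X.sheaf) (M := CohB1.toPMod L) (N := CohB1.toPMod M) (X := op U) r m n).trans
      (Mod48.tp_smul_left (O := X.sheaf) (M := CohB1.toPMod L) (N := CohB1.toPMod M) (X := op U) r m n).symm)

end SecTwistTmul

variable (F G : X.Modules) [F.IsQuasicoherent] [G.IsQuasicoherent] {U : X.Opens} (hU : IsAffineOpen U)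

/-- A section over `U` as a global section of `F|fromSpec`. -/
abbrev topSec (F : X.Modules) (x : Γ(F, U)) : Γ(specRes F hU, ⊤) := res F (fromSpec_image_top hU).le x

omit [F.IsQuasicoherent] in
lemma specTopIso_inv_apply (x : Γ(F, U)) : (specTopIso F hU).inv x = topSec hU F x := by
  have h1 : (specTopIso F hU).hom (topSec hU F x) = x :=
    show res F (fromSpec_image_top hU).ge (res F (fromSpec_image_top hU).le x) = x by
      rw [res_res, res_self]
  exact (congrArg (specTopIso F hU).inv h1).symm.trans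
    congr($((specTopIso F hU).hom_inv_id) (topSec hU F x))

lemma specResTilde_app_topSec (x : Γ(F, U)) :
    (specResTilde F hU).hom.app ⊤ (topSec hU F x) = tilde.toOpen (secMod F U) ⊤ x := by
  let w : Γ(specRes F hU, ⊤) := topSec hU F x
  have hw : (specTopIso F hU).hom w = x :=
    show res F (fromSpec_image_top hU).ge (res F (fromSpec_image_top hU).le x) = x by
      rw [res_res, res_self]
  let A := moduleSpecΓFunctor.obj (specRes F hU)
  let ti := tildeIsoSpecRes F hU
  have h1 : (moduleSpecΓFunctor.map ti.inv) w = tilde.toOpen A ⊤ w := by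
    have h : (moduleSpecΓFunctor.map ti.hom) (tilde.toOpen A ⊤ w) = w :=
      congr($((tilde.adjunction (R := Γ(X, U))).right_triangle_components (specRes F hU)) w)
    have h' : (moduleSpecΓFunctor.map ti.hom) ((moduleSpecΓFunctor.map ti.inv) w) = w :=
      (congr($((moduleSpecΓFunctor.mapIso ti).inv_hom_id) w) :)
    exact (ConcreteCategory.bijective_of_isIso (moduleSpecΓFunctor.map ti.hom)).1 (h'.trans h.symm)
  have h2 : (moduleSpecΓFunctor.map (tilde.map (specTopIso F hU).hom)) (tilde.toOpen A ⊤ w) =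
      tilde.toOpen (secMod F U) ⊤ ((specTopIso F hU).hom w) :=
    congr($(tilde.toOpen_map_app (specTopIso F hU).hom ⊤) w)
  show (moduleSpecΓFunctor.map (ti.inv ≫ tilde.map (specTopIso F hU).hom)) w = _
  rw [Functor.map_comp]
  exact (congrArg (moduleSpecΓFunctor.map (tilde.map (specTopIso F hU).hom)) h1).trans
    (h2.trans (congrArg (fun t => tilde.toOpen (secMod F U) ⊤ t) hw))

lemma sectionsTensorEquiv_tmul (a : Γ(F, U)) (b : Γ(G, U)) :
    sectionsTensorEquiv F G hU (SecTwist.tmul F G U a b) = a ⊗ₜ b := by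
  let j := hU.fromSpec
  have h0 : (specTopIso (CohB1.tensorMod F G) hU).inv (SecTwist.tmul F G U a b) =
      SecTwist.tmul F G (j ''ᵁ ⊤) (topSec hU F a) (topSec hU G b) :=
    (specTopIso_inv_apply (CohB1.tensorMod F G) hU _).trans
      (SecTwist.map_tmul F G (homOfLE (fromSpec_image_top hU).le) a b)
  have h1 : (EGA73.tensorRestrictIso j F G).inv.app ⊤
      (SecTwist.tmul F G (j ''ᵁ ⊤) (topSec hU F a) (topSec hU G b)) =
        SecTwist.tmul (specRes F hU) (specRes G hU) ⊤ (topSec hU F a) (topSec hU G b) := by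
    rw [← tensorRestrictIso_app_tmul j F G ⊤ (topSec hU F a) (topSec hU G b)]
    exact hom_inv_app _ _ _
  have h2 : (specResTensorIso F G hU).hom.app ⊤
      (SecTwist.tmul F G (j ''ᵁ ⊤) (topSec hU F a) (topSec hU G b)) =
        tilde.toOpen (tensObj (secMod F U) (secMod G U)) ⊤ (a ⊗ₜ b) := by
    show (tensorTildeIso (secMod F U) (secMod G U)).hom.app ⊤
      ((EGA73.tensIso (specResTilde F hU) (specResTilde G hU)).hom.app ⊤
        ((EGA73.tensorRestrictIso j F G).inv.app ⊤ _)) = _
    rw [h1, tensIso_app_tmul, specResTilde_app_topSec, specResTilde_app_topSec,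
      tensorTildeIso_app_tmul, secMul_toOpen]
  show (tilde.isoTop (tensObj (secMod F U) (secMod G U))).inv
    ((specResTensorIso F G hU).hom.app ⊤
      ((specTopIso (CohB1.tensorMod F G) hU).inv (SecTwist.tmul F G U a b))) = _
  rw [h0, h2]
  exact congr($((tilde.isoTop (tensObj (secMod F U) (secMod G U))).hom_inv_id) (a ⊗ₜ b))

include hU in
/-- Sections of a tensor product over an affine open are the tensor product, through `tmul`. -/
theorem exists_tensor_equiv :
    ∃ E : Γ(F, U) ⊗[Γ(X, U)] Γ(G, U) ≃ₗ[Γ(X, U)] Γ(CohB1.tensorMod F G, U),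
      ∀ a b, E (a ⊗ₜ b) = SecTwist.tmul F G U a b :=
  ⟨(sectionsTensorEquiv F G hU).symm, fun a b => by
    rw [LinearEquiv.symm_apply_eq, sectionsTensorEquiv_tmul]⟩

end Groth.Agent.Mum71
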