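import Groth.Agent.Mum71.SchemeModel
import Groth.Agent.FlatMor68.LocFree
import Groth.Agent.LimTop61.LocFreeStage

/-! Neighbourhoods on which a quasi-coherent module is zero or free, and points of an affine open. -/

set_option autoImplicit false
set_option maxSynthPendingDepth 6
set_option synthInstance.maxHeartbeats 200000
set_option linter.style.haveILetI false
set_option backward.isDefEq.respectTransparency.types false

universe u

noncomputable section

open CategoryTheory CategoryTheory.Limits AlgebraicGeometry TopologicalSpace Opposite TensorProduct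

namespace Groth.Agent.Mum71

open QC70 FlatMor68.LocFree

variable {Y : Scheme.{u}} {V : Y.Opens} (hV : IsAffineOpen V)

theorem mem_of_fromSpec' (x : PrimeSpectrum Γ(Y, V)) : hV.fromSpec x ∈ V :=
  hV.range_fromSpec.subset ⟨_, rfl⟩

theorem primeIdealOf_fromSpec (x : PrimeSpectrum Γ(Y, V)) :
    hV.primeIdealOf ⟨hV.fromSpec x, mem_of_fromSpec' hV x⟩ = x :=
  hV.fromSpec.isOpenEmbedding.injective (hV.fromSpec_primeIdealOf _)

theorem continuous_primeIdealOf : Continuous (fun y : V => hV.primeIdealOf y) := by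
  have h : (fun y : V => hV.primeIdealOf y) = fun y => hV.isoSpec.hom y := rfl
  rw [h]
  exact hV.isoSpec.hom.continuous

/-- A function given on every affine open by a locally constant function on its spectrum. -/
theorem isLocallyConstant_of_affine {T : Type*} (r : Y → T)
    (h : ∀ (V : Y.Opens) (hV : IsAffineOpen V), ∃ d : PrimeSpectrum Γ(Y, V) → T,
      IsLocallyConstant d ∧ ∀ (y : Y) (hy : y ∈ V), r y = d (hV.primeIdealOf ⟨y, hy⟩)) :
    IsLocallyConstant r := by
  rw [IsLocallyConstant.iff_exists_open]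
  intro y
  obtain ⟨V, hV, hy, -⟩ := exists_isAffineOpen_mem_and_subset (X := Y) (x := y) (U := ⊤) trivial
  obtain ⟨d, hd, hr⟩ := h V hV
  obtain ⟨O, hO, hyO, hc⟩ := (IsLocallyConstant.iff_exists_open _).1
    (hd.comp_continuous (continuous_primeIdealOf hV)) ⟨y, hy⟩
  refine ⟨Subtype.val '' O, V.2.isOpenMap_subtype_val _ hO, ⟨_, hyO, rfl⟩, ?_⟩
  rintro _ ⟨⟨z, hz⟩, hzO, rfl⟩
  rw [hr z hz, hr y hy]
  exact hc _ hzO

theorem isLocallyConstant_on_affine {r : Y → ℕ} (hr : IsLocallyConstant r)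
    {d : PrimeSpectrum Γ(Y, V) → ℕ} (h : ∀ (y : Y) (hy : y ∈ V), r y = d (hV.primeIdealOf ⟨y, hy⟩)) :
    IsLocallyConstant d := by
  have h' : d = r ∘ (fun x : PrimeSpectrum Γ(Y, V) => hV.fromSpec x) := funext fun x => by
    rw [Function.comp_apply, h _ (mem_of_fromSpec' hV x), primeIdealOf_fromSpec]
  rw [h']
  exact hr.comp_continuous hV.fromSpec.continuous

variable (M : Y.Modules) [M.IsQuasicoherent]

omit [M.IsQuasicoherent] in
theorem subsingleton_of_isZero' (h : IsZero M) : Subsingleton Γ(M, V) := by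
  refine subsingleton_of_forall_eq 0 fun s => ?_
  have e : s = (𝟙 M : M ⟶ M).app V s := rfl
  rw [e, h.eq_of_src (𝟙 M) 0]
  rfl

include hV in
theorem exists_isZero_nhd {y : Y} (hy : y ∈ V) {a : Γ(Y, V)}
    (ha : a ∉ (hV.primeIdealOf ⟨y, hy⟩).asIdeal) (h : ∀ s : Γ(M, V), a • s = 0) :
    ∃ U : Y.Opens, y ∈ U ∧ IsZero (M.restrict U.ι) := by
  refine ⟨Y.basicOpen a, (mem_basicOpen_iff_primeCompl hV hy a).mpr ha, ?_⟩
  have hM := isLocAt_of_isQuasicoherent M hV
  haveI : Subsingleton Γ(M, Y.basicOpen a) := by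
    refine subsingleton_of_forall_eq 0 fun s => ?_
    obtain ⟨n, t, ht⟩ := hM.exists_of a s
    have hu : IsUnit (resO Y (Y.basicOpen_le a) a) := RingedSpace.isUnit_res_basicOpen _ a
    apply (hu.pow (n + 1)).smul_left_cancel.mp
    rw [pow_succ', mul_smul, ← ht, ← res_smul, h, smul_zero]
    exact map_zero _
  obtain ⟨e⟩ := restrict_iso_free M (hV.basicOpen a) 0 (LinearEquiv.ofSubsingleton _ _)
  refine IsZero.of_iso ?_ e
  rw [IsZero.iff_id_eq_zero]
  exact Sigma.hom_ext _ _ fun i => i.elim0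

include hV in
/-- Free neighbourhoods of the rank of the fibre, for finite projective sections. -/
theorem exists_free_nhd [Module.Finite Γ(Y, V) Γ(M, V)] [Module.Projective Γ(Y, V) Γ(M, V)]
    {y : Y} (hy : y ∈ V) :
    ∃ U : Y.Opens, y ∈ U ∧ Nonempty (M.restrict U.ι ≅
      FlatMod.freeMod (↑U : Scheme.{u}) (FCx40.fib Γ(M, V) (hV.primeIdealOf ⟨y, hy⟩))) := by
  let p := (hV.primeIdealOf ⟨y, hy⟩).asIdeal
  haveI : Module.FinitePresentation Γ(Y, V) Γ(M, V) := Module.finitePresentation_of_projective _ _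
  haveI : Module.Free (Localization.AtPrime p) (LocalizedModule p.primeCompl Γ(M, V)) :=
    Module.free_of_flat_of_isLocalRing
  obtain ⟨r, hr, hfree, hrk⟩ := Module.FinitePresentation.exists_free_localizedModule_powers
    p.primeCompl (LocalizedModule.mkLinearMap p.primeCompl Γ(M, V)) (Localization.AtPrime p)
  refine ⟨Y.basicOpen r, (mem_basicOpen_iff_primeCompl hV hy r).mpr hr, ?_⟩
  haveI := hfree
  let R := Γ(Y, V)
  letI := basicModule M r
  letI : Algebra R Γ(Y, Y.basicOpen r) := (Y.presheaf.map (homOfLE (Y.basicOpen_le r)).op).hom.toAlgebra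
  haveI : IsScalarTower R Γ(Y, Y.basicOpen r) Γ(M, Y.basicOpen r) :=
    IsScalarTower.of_algebraMap_smul fun a m => rfl
  haveI : IsLocalization.Away r Γ(Y, Y.basicOpen r) := hV.isLocalization_basicOpen r
  haveI : IsLocalizedModule.Away r (resLinear M r) :=
    isLocalizedModule_res M (isLocAt_of_isQuasicoherent M hV) r
  let L := Localization (Submonoid.powers r)
  haveI : Module.Finite L (LocalizedModule.Away r Γ(M, V)) :=
    Module.Finite.of_isLocalizedModule (Submonoid.powers r) (Rₚ := L)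
      (LocalizedModule.mkLinearMap (Submonoid.powers r) Γ(M, V))
  let e : Γ(M, Y.basicOpen r) ≃ₗ[R] LocalizedModule.Away r Γ(M, V) :=
    (IsLocalizedModule.iso (Submonoid.powers r) (resLinear M r)).symm
  haveI : Nontrivial L := (IsLocalization.map (Localization.AtPrime p) (RingHom.id R)
    (show Submonoid.powers r ≤ p.primeCompl.comap (RingHom.id R) from Submonoid.powers_le.mpr hr) :
      L →+* Localization.AtPrime p).domain_nontrivial
  let n := FCx40.fib Γ(M, V) (hV.primeIdealOf ⟨y, hy⟩)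
  have hn : Module.finrank L (LocalizedModule.Away r Γ(M, V)) = n := by
    rw [hrk]
    exact (FCx40.fib_eq_rankAtStalk Γ(M, V) (hV.primeIdealOf ⟨y, hy⟩)).symm
  let b := ((Module.finBasisOfFinrankEq L (LocalizedModule.Away r Γ(M, V)) hn).equivFun).restrictScalars R
  let g : L ≃ₗ[R] Γ(Y, Y.basicOpen r) :=
    (IsLocalization.algEquiv (Submonoid.powers r) L Γ(Y, Y.basicOpen r)).toLinearEquiv
  let E : Γ(M, Y.basicOpen r) ≃ₗ[Γ(Y, Y.basicOpen r)] (Fin n → Γ(Y, Y.basicOpen r)) :=
    (e ≪≫ₗ b ≪≫ₗ LinearEquiv.piCongrRight fun _ => g).extendScalarsOfIsLocalization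
      (Submonoid.powers r) Γ(Y, Y.basicOpen r)
  exact restrict_iso_free M (hV.basicOpen r) n E

include hV in
theorem exists_free_nhd_of_equiv {y : Y} (hy : y ∈ V) (H : Type u) [AddCommGroup H] [Module Γ(Y, V) H]
    [Module.Finite Γ(Y, V) H] [Module.Flat Γ(Y, V) H] [IsNoetherianRing Γ(Y, V)]
    (e : Γ(M, V) ≃ₗ[Γ(Y, V)] H) {n : ℕ} (hn : FCx40.fib H (hV.primeIdealOf ⟨y, hy⟩) = n) :
    ∃ U : Y.Opens, y ∈ U ∧ Nonempty (M.restrict U.ι ≅ FlatMod.freeMod (↑U : Scheme.{u}) n) := by
  haveI : Module.FinitePresentation Γ(Y, V) H := Module.finitePresentation_of_finite _ H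
  haveI : Module.Projective Γ(Y, V) H := Module.Flat.projective_of_finitePresentation
  haveI : Module.Projective Γ(Y, V) Γ(M, V) := Module.Projective.of_equiv e.symm
  haveI : Module.Finite Γ(Y, V) Γ(M, V) := Module.Finite.equiv e.symm
  rw [← hn, ← FCx40.fib_congr e]
  exact exists_free_nhd hV M hy

end Groth.Agent.Mum71
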