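import Groth.Agent.Mum71.FibreLin
import Groth.Agent.FCx40.Loci
import Groth.Agent.FCx40.Semicont
import Groth.Agent.S2406
import Groth.Agent.S2381
import Mathlib.RingTheory.Support

/-! Local consequences of vanishing ranks for complexes of finite flat modules. -/

set_option autoImplicit false
set_option synthInstance.maxHeartbeats 200000
set_option linter.style.haveILetI false

universe u

noncomputable section

open CategoryTheory CategoryTheory.Limits TensorProduct LinearMap
open Function (Surjective Injective Exact Bijective)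

namespace Groth.Agent.Mum71

open FCx40

variable {A : Type u} [CommRing A] {P : ChainComplex (ModuleCat.{u} A) ℤ}

theorem finite_homology [IsNoetherianRing A] (hP : ∀ i, Module.Finite A (P.X i)) (p : ℤ) :
    Module.Finite A (P.homology p) :=
  haveI := hP p
  Module.Finite.of_surjective (pcls P p (p - 1) (sub_add_cancel p 1)) (pcls_surjective _)

theorem finite_bc_homology (hP : ∀ i, Module.Finite A (P.X i)) (p : ℤ) (x : PrimeSpectrum A) :
    Module.Finite x.asIdeal.ResidueField
      ((CohIII.bcCx (algebraMap A x.asIdeal.ResidueField) P).homology p) :=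
  haveI := hP p
  Module.Finite.of_surjective (bcls x.asIdeal.ResidueField P (sub_add_cancel p 1)) (bcls_surjective _ _ _)

theorem subsingleton_T_of_dRank (hP : ∀ i, Module.Finite A (P.X i)) (p : ℤ) (x : PrimeSpectrum A)
    (h : CohIII.dRank P p x = 0) :
    Subsingleton (CohIII.T P p (ModuleCat.of A x.asIdeal.ResidueField)) := by
  haveI := finite_bc_homology hP p x
  haveI : Subsingleton ((CohIII.bcCx (algebraMap A x.asIdeal.ResidueField) P).homology p) :=
    Module.finrank_zero_iff.mp h
  obtain ⟨e, -⟩ := exists_bcCx_equiv x.asIdeal.ResidueField P p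
  exact e.symm.toEquiv.subsingleton

/-- Over a local ring, a vanishing fibre makes the functor vanish. -/
theorem vanish_of_local [IsNoetherianRing A] [IsLocalRing A]
    (hP : ∀ i, Module.Finite A (P.X i) ∧ Module.Flat A (P.X i)) (p : ℤ)
    (h : CohIII.dRank P p (IsLocalRing.closedPoint A) = 0) :
    Subsingleton (P.homology p) ∧
      ((CohIII.TFun P p).PreservesMonomorphisms ∧ (CohIII.TFun P p).PreservesEpimorphisms) := by
  have hflat : ∀ i, Module.Flat A (P.X i) := fun i => (hP i).2
  haveI hT : Subsingleton ((CohIII.TFun P p).obj (ModuleCat.of A (IsLocalRing.closedPoint A).asIdeal.ResidueField)) :=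
    subsingleton_T_of_dRank (fun i => (hP i).1) p (IsLocalRing.closedPoint A) h
  let e : (A ⧸ IsLocalRing.maximalIdeal A) ≃ₗ[A] (IsLocalRing.closedPoint A).asIdeal.ResidueField :=
    LinearEquiv.ofBijective (Algebra.linearMap (A ⧸ IsLocalRing.maximalIdeal A)
        (IsLocalRing.maximalIdeal A).ResidueField |>.restrictScalars A)
      (IsLocalRing.maximalIdeal A).bijective_algebraMap_quotient_residueField
  haveI hk : Subsingleton ((CohIII.TFun P p).obj (ModuleCat.of A (IsLocalRing.ResidueField A))) :=
    ((CohIII.TFun P p).mapIso (e.toModuleIso : ModuleCat.of A (IsLocalRing.ResidueField A) ≅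
      ModuleCat.of A (IsLocalRing.closedPoint A).asIdeal.ResidueField)).toLinearEquiv.toEquiv.subsingleton
  have he : (CohIII.TFun P p).PreservesEpimorphisms :=
    (preservesEpi_iff_surjective_residue hP (sub_add_cancel p 1)).mpr fun t =>
      ⟨0, @Subsingleton.elim _ hk _ _⟩
  haveI : Subsingleton (P.homology p ⊗[A] IsLocalRing.ResidueField A) :=
    ((tIso hflat (sub_add_cancel p 1) he).app
      (ModuleCat.of A (IsLocalRing.ResidueField A))).toLinearEquiv.toEquiv.subsingleton
  haveI : Subsingleton (IsLocalRing.ResidueField A ⊗[A] P.homology p) :=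
    (TensorProduct.comm A _ _).toEquiv.subsingleton
  haveI := finite_homology (fun i => (hP i).1) p
  haveI hH : Subsingleton (P.homology p) := IsLocalRing.subsingleton_tensorProduct.mp ‹_›
  exact ⟨hH, (preservesBoth_iff hflat (sub_add_cancel p 1)).mpr ⟨he, inferInstance⟩⟩

variable [IsNoetherianRing A] (hP : ∀ i, Module.Finite A (P.X i) ∧ Module.Flat A (P.X i))

include hP in
theorem vanish_at (p : ℤ) (x : PrimeSpectrum A) (h : CohIII.dRank P p x = 0) :
    Subsingleton (Localization.AtPrime x.asIdeal ⊗[A] P.homology p) ∧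
      x ∈ Module.freeLocus A (P.X p ⧸ range (P.d (p + 1) p).hom) ∧
      x ∈ Module.freeLocus A (P.X (p - 1) ⧸ range (P.d p (p - 1)).hom) := by
  let B := Localization.AtPrime x.asIdeal
  haveI : IsNoetherianRing B := IsLocalization.isNoetherianRing x.asIdeal.primeCompl B ‹_›
  have hP' := finite_flat_bcCx (A := A) (P := P) B hP
  have hx : PrimeSpectrum.comap (algebraMap A B) (IsLocalRing.closedPoint B) = x :=
    PrimeSpectrum.ext (Localization.AtPrime.under_maximalIdeal)
  have hd : CohIII.dRank (CohIII.bcCx (algebraMap A B) P) p (IsLocalRing.closedPoint B) = 0 := by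
    rw [dRank_bcCx, hx]
    exact h
  obtain ⟨hH, hm, he⟩ := vanish_of_local hP' p hd
  refine ⟨(bcEquiv B P (sub_add_cancel p 1) (lTensor_ker_of_flat _ B)).toEquiv.subsingleton, ?_, ?_⟩
  · rw [← monoLocus_eq hP rfl]
    exact hm
  · rw [← epiLocus_eq hP (sub_add_cancel p 1)]
    exact he

include hP in
/-- A rank vanishing at a point kills the homology on a neighbourhood. -/
theorem exists_notMem_smul_eq_zero (p : ℤ) (x : PrimeSpectrum A) (h : CohIII.dRank P p x = 0) :
    ∃ a ∉ x.asIdeal, ∀ z : P.homology p, a • z = 0 := by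
  haveI := finite_homology (fun i => (hP i).1) p
  haveI := (vanish_at hP p x h).1
  haveI : Subsingleton (LocalizedModule x.asIdeal.primeCompl (P.homology p)) :=
    (LocalizedModule.equivTensorProduct x.asIdeal.primeCompl (P.homology p)).toEquiv.subsingleton
  have hx : x ∉ Module.support A (P.homology p) := Module.notMem_support_iff.mpr inferInstance
  rw [Module.support_eq_zeroLocus] at hx
  obtain ⟨a, ha, hax⟩ := Set.not_subset.mp hx
  exact ⟨a, hax, fun z => Module.mem_annihilator.mp ha z⟩

include hP in
theorem both_of_dRank_zero (p : ℤ) (h : ∀ x, CohIII.dRank P p x = 0) :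
    (CohIII.TFun P p).PreservesMonomorphisms ∧ (CohIII.TFun P p).PreservesEpimorphisms := by
  haveI := finite_coker (fun i => (hP i).1) (p + 1) p
  haveI := finite_coker (fun i => (hP i).1) p (p - 1)
  haveI : Module.FinitePresentation A (P.X p ⧸ range (P.d (p + 1) p).hom) :=
    Module.finitePresentation_of_finite A _
  haveI : Module.FinitePresentation A (P.X (p - 1) ⧸ range (P.d p (p - 1)).hom) :=
    Module.finitePresentation_of_finite A _
  exact ⟨(preservesMono_iff (fun i => (hP i).2) rfl).mpr
      (flat_of_freeLocus_eq_univ _ (Set.eq_univ_of_forall fun x => (vanish_at hP p x (h x)).2.1)),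
    (preservesEpi_iff (fun i => (hP i).2) (sub_add_cancel p 1)).mpr
      (flat_of_freeLocus_eq_univ _ (Set.eq_univ_of_forall fun x => (vanish_at hP p x (h x)).2.2))⟩

include hP in
theorem both_of_concentrated (p : ℤ) (h₁ : ∀ x, CohIII.dRank P (p + 1) x = 0)
    (h₂ : ∀ x, CohIII.dRank P (p - 1) x = 0) :
    (CohIII.TFun P p).PreservesMonomorphisms ∧ (CohIII.TFun P p).PreservesEpimorphisms :=
  ⟨(S2406.result P (fun i => (hP i).2) (p + 1) p rfl).1 (both_of_dRank_zero hP _ h₁).2,
    (S2406.result P (fun i => (hP i).2) p (p - 1) (sub_add_cancel p 1)).2 (both_of_dRank_zero hP _ h₂).1⟩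

include hP in
/-- An exact functor has flat finite homology computing the fibres. -/
theorem flat_finite_of_both (p : ℤ)
    (h : (CohIII.TFun P p).PreservesMonomorphisms ∧ (CohIII.TFun P p).PreservesEpimorphisms) :
    Module.Flat A (P.homology p) ∧ Module.Finite A (P.homology p) ∧
      ∀ x, CohIII.dRank P p x = fib (P.homology p) x := by
  have hflat : ∀ i, Module.Flat A (P.X i) := fun i => (hP i).2
  haveI := hflat (p - 1)
  haveI := (preservesEpi_iff hflat (sub_add_cancel p 1)).mp h.2
  exact ⟨((preservesBoth_iff hflat (sub_add_cancel p 1)).mp h).2, finite_homology (fun i => (hP i).1) p,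
    fun x => dRank_congr_fib (sub_add_cancel p 1) x (lTensor_ker_of_flat_coker _ _)⟩

omit [IsNoetherianRing A] in
include hP in
/-- Flat homology in low degrees gives right exactness. -/
theorem epi_of_flat_homology {N b : ℤ} (hN : ∀ i, i < N → IsZero (P.X i))
    (h : ∀ i, i < b → Module.Flat A (P.homology i)) (i : ℤ) (hi : i ≤ b) :
    (CohIII.TFun P i).PreservesEpimorphisms := by
  have hflat : ∀ i, Module.Flat A (P.X i) := fun i => (hP i).2
  have base : ∀ i, i ≤ N → Module.Flat A (P.X (i - 1) ⧸ range (P.d i (i - 1)).hom) := fun i hi => by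
    haveI := ModuleCat.subsingleton_of_isZero (hN (i - 1) (by omega))
    infer_instance
  rw [preservesEpi_iff hflat (sub_add_cancel i 1)]
  obtain ⟨n, hn⟩ : ∃ n : ℕ, i ≤ N + n := ⟨(i - N).toNat, by omega⟩
  induction n generalizing i with
  | zero => exact base i (by omega)
  | succ n ih =>
    by_cases hin : i ≤ N + n
    · exact ih i hi hin
    · have h1 := ih (i - 1) (by omega) (by omega)
      haveI := hflat (i - 1 - 1)
      haveI : Module.Flat A (range (P.d (i - 1) (i - 1 - 1)).hom) := flat_range _
      exact (flat_coker_iff_flat_homology (sub_add_cancel (i - 1) 1) (sub_add_cancel i 1)).mpr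
        (h (i - 1) (by omega))

omit [IsNoetherianRing A] in
theorem dRank_eq_zero_of_isZero {p : ℤ} (x : PrimeSpectrum A)
    (h : IsZero (CohIII.T P p (ModuleCat.of A x.asIdeal.ResidueField))) : CohIII.dRank P p x = 0 := by
  obtain ⟨e, -⟩ := exists_bcCx_equiv x.asIdeal.ResidueField P p
  haveI := ModuleCat.subsingleton_of_isZero h
  haveI := e.toEquiv.subsingleton
  exact Module.finrank_zero_of_subsingleton

end Groth.Agent.Mum71
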