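import Groth.Agent.Mum71.SquareLin
import Groth.Agent.Mum71.LocalCrit
import Groth.Agent.Amp73.CounitIff
import Groth.Agent.FlatMor66.BCStalk
import Groth.Agent.FlatMor66.RelFlatLocus

/-! The finite free complex of a flat family over an affine open of a locally Noetherian base. -/

set_option autoImplicit false
set_option maxSynthPendingDepth 6
set_option synthInstance.maxHeartbeats 200000
set_option linter.style.haveILetI false
set_option backward.isDefEq.respectTransparency.types false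

universe u

noncomputable section

open CategoryTheory CategoryTheory.Limits AlgebraicGeometry TopologicalSpace Opposite TensorProduct
open CohIII (T)

namespace Groth.Agent.Mum71

variable {X Y : Scheme.{u}} (f : X ⟶ Y) {V : Y.Opens} (hV : IsAffineOpen V)

/-- The preimage of an affine open over its coordinate ring. -/
abbrev affBase : (f ⁻¹ᵁ V).toScheme ⟶ Spec Γ(Y, V) := (f ∣_ V) ≫ hV.isoSpec.hom

theorem isPullback_affBase : IsPullback (f ⁻¹ᵁ V).ι (affBase f hV) f hV.fromSpec := by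
  refine (isPullback_morphismRestrict f V).flip.of_iso (Iso.refl _) (Iso.refl _) hV.isoSpec (Iso.refl _) ?_ ?_ ?_ ?_
  · simp
  · simp
  · simp
  · simp

theorem toGlobal_affBase (a : Γ(Y, V)) :
    Coh.toGlobal (X := (f ⁻¹ᵁ V).toScheme) (A := Γ(Y, V)) (affBase f hV) a =
      Coh69.gRes (f ⁻¹ᵁ V) (f.app V a) := by
  have h : (Scheme.ΓSpecIso Γ(Y, V)).inv ≫ (affBase f hV).appTop =
      f.app V ≫ X.presheaf.map (homOfLE (f ⁻¹ᵁ V).ι_image_top.le).op := by
    rw [Scheme.Hom.comp_appTop, hV.isoSpec_hom_appTop, Category.assoc, Iso.inv_hom_id_assoc]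
    rw [Scheme.Hom.appTop, morphismRestrict_app', Scheme.Opens.topIso_inv, Scheme.Hom.app_eq_appLE,
      Scheme.Hom.appLE_map]
    exact Scheme.Hom.map_appLE (f := f) _ _
  exact congr($h a)

variable [IsLocallyNoetherian Y] [IsProper f]

/-- The complex of a flat family over an affine open of the base, computing the higher direct images and
the cohomology of the fibres. -/
theorem exists_local_model [HasInjectiveResolutions X.Modules] (F : X.Modules) (hF : Coh.IsCoh F)
    (hfl : FlatMod.IsFlatOver f F) :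
    ∃ (P : ChainComplex (ModuleCat.{u} Γ(Y, V)) ℤ) (N : ℤ),
      (∀ i, Module.Finite Γ(Y, V) (P.X i) ∧ Module.Flat Γ(Y, V) (P.X i)) ∧
      (∀ i, i < N → IsZero (P.X i)) ∧
      (∀ (i : ℤ) (M : ModuleCat.{u} Γ(Y, V)), 0 < i → IsZero (T P i M)) ∧
      (∀ p : ℕ, Nonempty (Γ((Coh.Rpush f p).obj F, V) ≃ₗ[Γ(Y, V)] P.homology (-(p : ℤ)))) ∧
      ∀ (p : ℕ) (y : Y) (hy : y ∈ V),
        CohIII.fiberRank f F p y = CohIII.dRank P (-(p : ℤ)) (hV.primeIdealOf ⟨y, hy⟩) ∧
          (Subsingleton (CohIII.fiberH f F y p) ↔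
            CohIII.dRank P (-(p : ℤ)) (hV.primeIdealOf ⟨y, hy⟩) = 0) := by
  haveI : IsNoetherianRing Γ(Y, V) := IsLocallyNoetherian.component_noetherian ⟨V, hV⟩
  haveI := hF.1
  let W := f ⁻¹ᵁ V
  letI ov : W.toScheme.Over (Spec (CommRingCat.of Γ(Y, V))) := ⟨affBase f hV⟩
  haveI : IsProper (W.toScheme ↘ Spec (CommRingCat.of Γ(Y, V))) :=
    inferInstanceAs (IsProper ((f ∣_ V) ≫ hV.isoSpec.hom))
  have hFW := Amp73.isCoh_restrict hF W
  haveI := hFW.1
  have hflW : FlatMod.IsFlatOver (W.toScheme ↘ Spec (CommRingCat.of Γ(Y, V))) (F.restrict W.ι) := fun x =>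
    FlatMor66.isFlatOverAt_of_iso _ ((Scheme.Modules.restrictFunctorIsoPullback W.ι).app F).symm x
      (FlatMor66.isFlatOverAt_baseChange (isPullback_affBase f hV) F hF.1 x (hfl _))
  obtain ⟨ι, hι, U, L, φ, N, hU, hU', hL, hN, hφ⟩ := exists_model Γ(Y, V) (F.restrict W.ι) hFW hflW
  have hP : ∀ i, Module.Finite Γ(Y, V) ((toChain L).X i) ∧ Module.Flat Γ(Y, V) ((toChain L).X i) := fun i =>
    ⟨(hL _).1, haveI : Module.Free Γ(Y, V) ((toChain L).X i) := (hL _).2; inferInstance⟩
  refine ⟨toChain L, -N, hP, fun i hi => hN _ (by simp; omega), fun i M hi => ?_, fun p => ?_, fun p y hy => ?_⟩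
  · obtain ⟨e⟩ := nonempty_TFun_toChain L (-i)
    rw [neg_neg] at e
    exact (isZero_T_of_neg hφ M (-i) (by omega)).of_iso (e.app M)
  · obtain ⟨e₁, he₁⟩ := exists_rpush_equiv f F hV p
    obtain ⟨e₂⟩ := nonempty_hh_linear hU hU' hφ p
    obtain ⟨e₃⟩ := nonempty_TFun_toChain L (p : ℤ)
    let e₁' : Γ((Coh.Rpush f p).obj F, V) ≃ₗ[Γ(Y, V)] Coh.HH W.toScheme (F.restrict W.ι) p :=
      { e₁ with
        map_smul' := fun a x => by
          refine (he₁ a x).trans ?_
          exact congrArg (· • e₁ x) (toGlobal_affBase f hV a).symm }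
    exact ⟨e₁'.trans ((e₂.symm.trans (e₃.app (ModuleCat.of Γ(Y, V) Γ(Y, V))).toLinearEquiv.symm).trans
      (FCx40.tOneEquiv (P := toChain L) (p := -(p : ℤ)) (sub_add_cancel _ 1)).symm)⟩
  · let k := Y.residueField y
    let η : Γ(Y, V) ⟶ k := Y.presheaf.germ V y hy ≫ Y.residue y
    letI : Algebra Γ(Y, V) k := η.hom.toAlgebra
    letI ovk : (f.fiber y).Over (Spec (CommRingCat.of k)) := CohIII.fiberOver f y
    have hη : Spec.map η ≫ hV.fromSpec = Y.fromSpecResidueField y := by
      rw [Scheme.fromSpecResidueField, ← hV.fromSpecStalk_eq_fromSpecStalk hy, IsAffineOpen.fromSpecStalk,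
        ← Spec.map_comp_assoc]
    have outer : IsPullback (f.fiberι y) (f.fiberToSpecResidueField y) f (Spec.map η ≫ hV.fromSpec) := by
      rw [hη]
      exact IsPullback.of_hasPullback _ _
    let g := (isPullback_affBase f hV).lift (f.fiberι y) (f.fiberToSpecResidueField y ≫ Spec.map η)
      (by rw [outer.w, Category.assoc])
    have hsq : IsPullback g (f.fiber y ↘ Spec (CommRingCat.of k)) (W.toScheme ↘ Spec (CommRingCat.of Γ(Y, V)))
        (Spec.map (CommRingCat.ofHom (algebraMap Γ(Y, V) k))) :=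
      outer.of_right' (isPullback_affBase f hV)
    obtain ⟨e₀, he₀⟩ := exists_hh_sq_semilinear hsq hU hU' hφ p
    obtain ⟨e₄, he₄⟩ := exists_hh_iso
      ((Scheme.Modules.pullback g).mapIso ((Scheme.Modules.restrictFunctorIsoPullback W.ι).app F) ≪≫
        (Scheme.Modules.pullbackComp g W.ι).app F ≪≫
        (Scheme.Modules.pullbackCongr ((isPullback_affBase f hV).lift_fst _ _ _)).app F) p
    let x := hV.primeIdealOf ⟨y, hy⟩
    letI : Algebra Γ(Y, V) (Y.presheaf.stalk y) := (Y.presheaf.germ V y hy).hom.toAlgebra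
    haveI : IsLocalization.AtPrime (Y.presheaf.stalk y) x.asIdeal := hV.isLocalization_stalk ⟨y, hy⟩
    let ψ : Localization.AtPrime x.asIdeal ≃ₐ[Γ(Y, V)] Y.presheaf.stalk y :=
      IsLocalization.algEquiv x.asIdeal.primeCompl _ _
    let σ : x.asIdeal.ResidueField ≃ₐ[Γ(Y, V)] k :=
      AlgEquiv.ofRingEquiv (f := IsLocalRing.ResidueField.mapEquiv ψ.toRingEquiv) fun a =>
        congrArg (IsLocalRing.residue (Y.presheaf.stalk y)) (ψ.commutes a)
    obtain ⟨e₁, he₁⟩ := exists_bcCx_equiv x.asIdeal.ResidueField (toChain L) (-(p : ℤ))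
    obtain ⟨e₂⟩ := nonempty_TFun_toChain L (p : ℤ)
    let e₃ : T (toChain L) (-(p : ℤ)) (ModuleCat.of Γ(Y, V) x.asIdeal.ResidueField) ≃ₗ[Γ(Y, V)]
        T L (p : ℤ) (ModuleCat.of Γ(Y, V) k) :=
      (e₂.app _ ≪≫ (CohIII.TFun L (p : ℤ)).mapIso (σ.toLinearEquiv.toModuleIso :
        ModuleCat.of Γ(Y, V) x.asIdeal.ResidueField ≅ ModuleCat.of Γ(Y, V) k)).toLinearEquiv
    let E : (CohIII.bcCx (algebraMap Γ(Y, V) x.asIdeal.ResidueField) (toChain L)).homology (-(p : ℤ)) ≃+
        CohIII.fiberH f F y p :=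
      (e₁.trans (e₃.toAddEquiv.trans e₀)).trans e₄
    have hrank : CohIII.fiberRank f F p y = CohIII.dRank (toChain L) (-(p : ℤ)) x := by
      symm
      refine finrank_eq_of_fraction σ (fun c => ?_) E fun a v => ?_
      · obtain ⟨z, s, hs, rfl⟩ := IsFractionRing.div_surjective (A := Γ(Y, V) ⧸ x.asIdeal) c
        obtain ⟨a, rfl⟩ := Ideal.Quotient.mk_surjective z
        obtain ⟨t, rfl⟩ := Ideal.Quotient.mk_surjective s
        refine ⟨a, t, ?_, ?_⟩
        · rw [IsScalarTower.algebraMap_apply Γ(Y, V) (Γ(Y, V) ⧸ x.asIdeal) x.asIdeal.ResidueField]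
          exact IsFractionRing.to_map_ne_zero_of_mem_nonZeroDivisors hs
        · rw [IsScalarTower.algebraMap_apply Γ(Y, V) (Γ(Y, V) ⧸ x.asIdeal) x.asIdeal.ResidueField t,
            IsScalarTower.algebraMap_apply Γ(Y, V) (Γ(Y, V) ⧸ x.asIdeal) x.asIdeal.ResidueField a,
            Ideal.Quotient.algebraMap_eq]
          exact mul_div_cancel₀ _ (IsFractionRing.to_map_ne_zero_of_mem_nonZeroDivisors hs)
      · show e₄ (e₀ (e₃ (e₁ (algebraMap Γ(Y, V) x.asIdeal.ResidueField a • v)))) = _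
        rw [he₁, map_smul, he₀]
        exact he₄ _ _
    refine ⟨hrank, fun h => ?_, fun h => ?_⟩
    · haveI : Subsingleton ((CohIII.bcCx (algebraMap Γ(Y, V) x.asIdeal.ResidueField) (toChain L)).homology
          (-(p : ℤ))) := E.toEquiv.subsingleton
      exact Module.finrank_zero_of_subsingleton
    · haveI := finite_bc_homology (fun i => (hP i).1) (-(p : ℤ)) x
      haveI : Subsingleton ((CohIII.bcCx (algebraMap Γ(Y, V) x.asIdeal.ResidueField) (toChain L)).homology
          (-(p : ℤ))) := Module.finrank_zero_iff.mp h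
      exact E.symm.toEquiv.subsingleton

end Groth.Agent.Mum71
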