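import Groth.Agent.Mum71.Algebra
import Groth.Agent.FCx40.Loci
import Mathlib.RingTheory.Nakayama
import Mathlib.RingTheory.Support

/-! Exactness from exactness modulo maximal ideals, and truncation of finite projective complexes. -/

set_option autoImplicit false
set_option linter.style.haveILetI false

universe u

noncomputable section

open CategoryTheory CategoryTheory.Limits TensorProduct
open Function (Injective Surjective Exact Bijective)
open CohIII (T tensorObj)

namespace Groth.Agent.Mum71

variable {A : Type u} [CommRing A]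

theorem subsingleton_of_forall_quotient_tensor {Q : Type u} [AddCommGroup Q] [Module A Q] [Module.Finite A Q]
    (h : ∀ (m : Ideal A), m.IsMaximal → Subsingleton (Q ⊗[A] (A ⧸ m))) : Subsingleton Q := by
  by_contra hQ
  obtain ⟨m, hm, hle⟩ := Ideal.exists_le_maximal (Module.annihilator A Q) (fun htop => hQ
    (subsingleton_of_forall_eq 0 fun q => by
      have h1 : (1 : A) ∈ Module.annihilator A Q := by rw [htop]; trivial
      simpa using Module.mem_annihilator.1 h1 q))
  haveI := h m hm
  haveI : Subsingleton (Q ⧸ m • (⊤ : Submodule A Q)) :=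
    (TensorProduct.tensorQuotEquivQuotSMul Q m).symm.toEquiv.subsingleton
  have htop : m • (⊤ : Submodule A Q) = ⊤ := Submodule.Quotient.subsingleton_iff.mp inferInstance
  obtain ⟨r, hr, hr0⟩ := Submodule.exists_sub_one_mem_and_smul_eq_zero_of_fg_of_le_smul m ⊤
    Module.Finite.fg_top htop.ge
  have hrm : r ∈ m := hle (Module.mem_annihilator.2 fun q => hr0 q trivial)
  exact hm.ne_top ((Ideal.eq_top_iff_one m).2 (by simpa using m.sub_mem hrm hr))

section

variable [IsNoetherianRing A] {W X Y : Type u} [AddCommGroup W] [Module A W] [AddCommGroup X] [Module A X]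
  [Module.Finite A X] [AddCommGroup Y] [Module A Y] [Module.Finite A Y] [Module.Projective A Y]
  (e : W →ₗ[A] X) (d : X →ₗ[A] Y) (hde : d ∘ₗ e = 0)
  (h : ∀ (m : Ideal A), m.IsMaximal → ∀ x : X ⊗[A] (A ⧸ m), d.rTensor (A ⧸ m) x = 0 →
    x ∈ LinearMap.range (e.rTensor (A ⧸ m)))

include hde h

omit [IsNoetherianRing A] in
theorem flat_coker_of_exact_mod : Module.Flat A (Y ⧸ LinearMap.range d) := by
  haveI := Module.finitePresentation_of_projective A Y
  refine FCx40.flat_coker_of_lift d fun m hm w hw => ?_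
  obtain ⟨v, hv⟩ := h m hm (TensorProduct.comm A _ _ w) (by rw [FCx40.rTensor_comm, hw, map_zero])
  obtain ⟨v', rfl⟩ := (TensorProduct.comm A (A ⧸ m) W).surjective v
  rw [FCx40.rTensor_comm] at hv
  obtain ⟨v₀, hv₀⟩ : ∃ v₀, (1 : A ⧸ m) ⊗ₜ[A] v₀ = v' :=
    TensorProduct.mk_surjective A _ (A ⧸ m) Ideal.Quotient.mk_surjective v'
  refine ⟨e v₀, LinearMap.congr_fun hde v₀, ?_⟩
  rw [← (TensorProduct.comm A (A ⧸ m) X).injective hv, ← hv₀, LinearMap.lTensor_tmul]

theorem exact_tensor_of_exact_mod (M : Type u) [AddCommGroup M] [Module A M] (x : X ⊗[A] M)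
    (hx : d.rTensor M x = 0) : x ∈ LinearMap.range (e.rTensor M) := by
  haveI := flat_coker_of_exact_mod e d hde h
  let e' : W →ₗ[A] LinearMap.ker d := e.codRestrict _ fun w => LinearMap.congr_fun hde w
  have hsurj : Surjective e' := by
    rw [← LinearMap.range_eq_top, ← Submodule.Quotient.subsingleton_iff]
    refine subsingleton_of_forall_quotient_tensor (A := A) (Q := LinearMap.ker d ⧸ LinearMap.range e')
      fun m hm => subsingleton_of_forall_eq 0 fun t => ?_
    obtain ⟨z, rfl⟩ := LinearMap.rTensor_surjective (A ⧸ m) (LinearMap.range e').mkQ_surjective t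
    rw [FCx40.rTensor_mkQ_eq_zero_iff]
    obtain ⟨hi, hk⟩ := FCx40.rTensor_ker_of_flat_coker d (A ⧸ m)
    obtain ⟨v, hv⟩ := h m hm ((LinearMap.ker d).subtype.rTensor (A ⧸ m) z) ((hk _).2 ⟨z, rfl⟩)
    refine ⟨v, hi ?_⟩
    rw [← LinearMap.comp_apply, ← LinearMap.rTensor_comp]
    exact hv
  obtain ⟨z, rfl⟩ := ((FCx40.rTensor_ker_of_flat_coker d M).2 x).1 hx
  obtain ⟨v, rfl⟩ := LinearMap.rTensor_surjective M hsurj z
  exact ⟨v, by rw [← LinearMap.comp_apply (g := e'.rTensor M), ← LinearMap.rTensor_comp]; rfl⟩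

end

variable (C : CochainComplex (ModuleCat.{u} A) ℤ)

/-- Bounded above flat complexes are universally exact where their cohomology vanishes at the top. -/
theorem uexact_of_boundedAbove (hflat : ∀ i, Module.Flat A (C.X i)) (b : ℤ)
    (hb : ∀ i, b < i → IsZero (C.X i)) (d : ℤ) (hac : ∀ p, d < p → IsZero (C.homology p))
    (i : ℤ) (hi : d < i) : UExact C i := by
  intro M _ _ x hx
  obtain ⟨j, rfl⟩ : ∃ j, i = j + 1 := ⟨i - 1, by omega⟩
  rw [show j + 1 - 1 = j by omega]
  have hZ := FCx40.flat_ker_of_boundedAbove hflat b hb d hac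
  have he : ∀ k, d ≤ k → LinearMap.range (C.d k (k + 1)).hom = LinearMap.ker (C.d (k + 1) (k + 1 + 1)).hom :=
    fun k hk => FCx40.exact_of_isZero_homology k (hac (k + 1) (by omega))
  haveI := hflat (j + 1 + 1)
  haveI : Module.Flat A (C.X (j + 1 + 1) ⧸ LinearMap.range (C.d (j + 1) (j + 1 + 1)).hom) := by
    haveI := hZ (j + 1 + 1 + 1) (by omega)
    haveI : Module.Flat A (LinearMap.range (C.d (j + 1 + 1) (j + 1 + 1 + 1)).hom) := by
      rw [he (j + 1 + 1) (by omega)]; infer_instance
    exact Module.Flat.of_linearEquiv ((Submodule.quotEquivOfEq _ _ (he (j + 1) (by omega))).trans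
      (C.d (j + 1 + 1) (j + 1 + 1 + 1)).hom.quotKerEquivRange)
  obtain ⟨w, rfl⟩ := ((FCx40.rTensor_ker_of_flat_coker (C.d (j + 1) (j + 1 + 1)).hom M).2 x).1 hx
  let e := (C.d j (j + 1)).hom.codRestrict (LinearMap.ker (C.d (j + 1) (j + 1 + 1)).hom)
    (fun x => by rw [← he j (by omega)]; exact LinearMap.mem_range_self _ x)
  have hs : Surjective e := fun z => by
    obtain ⟨y, hy⟩ : (z : C.X (j + 1)) ∈ LinearMap.range (C.d j (j + 1)).hom := by
      rw [he j (by omega)]; exact z.2
    exact ⟨y, Subtype.ext hy⟩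
  obtain ⟨v, rfl⟩ := LinearMap.rTensor_surjective M hs w
  exact ⟨v, by rw [← LinearMap.comp_apply (g := e.rTensor M), ← LinearMap.rTensor_comp,
    LinearMap.subtype_comp_codRestrict]⟩

/-- The submodules cutting below `a`. -/
def botSub (a i : ℤ) : Submodule A (C.X i) :=
  if i < a then ⊤ else if i = a then LinearMap.range (C.d (i - 1) i).hom else ⊥

lemma botSub_of_lt {a i : ℤ} (h : i < a) : botSub C a i = ⊤ := if_pos h
lemma botSub_self (a : ℤ) : botSub C a a = LinearMap.range (C.d (a - 1) a).hom := by simp [botSub]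
lemma botSub_of_gt {a i : ℤ} (h : a < i) : botSub C a i = ⊥ := by simp [botSub, h.not_gt, h.ne']

lemma d_mem_botSub (a i j : ℤ) : botSub C a i ≤ (botSub C a j).comap (C.d i j).hom := by
  intro x hx
  show (C.d i j).hom x ∈ botSub C a j
  by_cases h : i + 1 = j
  · subst h
    rcases lt_trichotomy i a with hi | rfl | hi
    · rcases lt_or_eq_of_le (show i + 1 ≤ a by omega) with h' | h'
      · simp [botSub_of_lt C h']
      · subst h'
        rw [botSub_self, show i + 1 - 1 = i by omega]
        exact LinearMap.mem_range_self _ x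
    · rw [botSub_self] at hx
      obtain ⟨w, rfl⟩ := hx
      have h0 : (C.d i (i + 1)).hom ((C.d (i - 1) i).hom w) = 0 :=
        ConcreteCategory.congr_hom (C.d_comp_d (i - 1) i (i + 1)) w
      rw [h0]
      exact zero_mem _
    · rw [botSub_of_gt C hi] at hx
      rw [(Submodule.mem_bot A).1 hx, map_zero]
      exact zero_mem _
  · rw [C.shape i j h]
    exact zero_mem _

/-- The quotient cutting below `a`. -/
def bot (a : ℤ) : CochainComplex (ModuleCat.{u} A) ℤ where
  X i := ModuleCat.of A (C.X i ⧸ botSub C a i)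
  d i j := ModuleCat.ofHom (Submodule.mapQ _ _ (C.d i j).hom (d_mem_botSub C a i j))
  shape i j h := by
    refine ModuleCat.hom_ext (Submodule.linearMap_qext _ (LinearMap.ext fun x => ?_))
    show Submodule.Quotient.mk ((C.d i j).hom x) = 0
    rw [C.shape i j h]
    rfl
  d_comp_d' i j k _ _ := by
    refine ModuleCat.hom_ext (Submodule.linearMap_qext _ (LinearMap.ext fun x => ?_))
    show Submodule.Quotient.mk ((C.d j k).hom ((C.d i j).hom x)) = 0
    rw [show (C.d j k).hom ((C.d i j).hom x) = 0 from ConcreteCategory.congr_hom (C.d_comp_d i j k) x]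
    rfl

/-- The projection to the quotient cutting below `a`. -/
def botπ (a : ℤ) : C ⟶ bot C a where
  f i := ModuleCat.ofHom (botSub C a i).mkQ
  comm' _ _ _ := rfl

lemma isZero_bot_of_lt {a i : ℤ} (h : i < a) : IsZero ((bot C a).X i) := by
  have : Subsingleton ((bot C a).X i) := Submodule.Quotient.subsingleton_iff.2 (botSub_of_lt C h)
  exact ModuleCat.isZero_of_subsingleton _

lemma isZero_bot_of_isZero {a i : ℤ} (h : IsZero (C.X i)) : IsZero ((bot C a).X i) := by
  haveI := ModuleCat.subsingleton_of_isZero h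
  have : Subsingleton ((bot C a).X i) := (Submodule.mkQ_surjective (botSub C a i)).subsingleton
  exact ModuleCat.isZero_of_subsingleton _

lemma quasiIso_botπ (a : ℤ) (hac : ∀ i, i < a → IsZero (C.homology i)) : QuasiIso (botπ C a) := by
  refine ⟨fun i => DR39.quasiIsoAt_of_elements _ _ ?_ ?_⟩
  · intro x hx y hy
    rcases lt_trichotomy i a with hi | rfl | hi
    · exact (DR39.isZero_homology_iff C i).1 (hac i hi) x hx
    · obtain ⟨y, rfl⟩ := Submodule.mkQ_surjective _ y
      have h : (C.d (i - 1) i).hom y - x ∈ botSub C i i := (Submodule.Quotient.eq _).1 hy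
      rw [botSub_self] at h
      simpa using Submodule.sub_mem _ (LinearMap.mem_range_self (C.d (i - 1) i).hom y) h
    · obtain ⟨y, rfl⟩ := Submodule.mkQ_surjective _ y
      have h : (C.d (i - 1) i).hom y - x ∈ botSub C a i := (Submodule.Quotient.eq _).1 hy
      rw [botSub_of_gt C hi, Submodule.mem_bot, sub_eq_zero] at h
      exact ⟨y, h⟩
  · intro z hz
    obtain ⟨z, rfl⟩ := Submodule.mkQ_surjective _ z
    by_cases hi : i < a
    · haveI := ModuleCat.subsingleton_of_isZero (isZero_bot_of_lt C hi)
      exact ⟨0, map_zero _, 0, Subsingleton.elim _ _⟩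
    · have h : (C.d i (i + 1)).hom z ∈ botSub C a (i + 1) := (Submodule.Quotient.mk_eq_zero _).1 hz
      rw [botSub_of_gt C (show a < i + 1 by omega), Submodule.mem_bot] at h
      exact ⟨z, h, 0, (map_zero _).trans (sub_self _).symm⟩

/-- A finite projective complex with cohomology in `[a, b]` after any coefficient is replaced by one
supported in `[a, b]`. -/
theorem exists_amplitude [IsNoetherianRing A] (L : CochainComplex (ModuleCat.{u} A) ℤ)
    (hL : ∀ i, Module.Finite A (L.X i) ∧ Module.Projective A (L.X i)) (N : ℤ)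
    (hN : ∀ i, N < i → IsZero (L.X i)) (a b : ℤ) (hb : ∀ p, b < p → IsZero (L.homology p))
    (ha : ∀ (m : Ideal A), m.IsMaximal → ∀ p, p < a → IsZero (T L p (ModuleCat.of A (A ⧸ m)))) :
    ∃ K : CochainComplex (ModuleCat.{u} A) ℤ,
      (∀ i, Module.Finite A (K.X i) ∧ Module.Projective A (K.X i)) ∧
      (∀ i, i < a ∨ b < i → IsZero (K.X i)) ∧
      ∀ (M : ModuleCat.{u} A) (p : ℤ), Nonempty (T L p M ≅ T K p M) := by
  have hflat : ∀ i, Module.Flat A (L.X i) := fun i => haveI := (hL i).2; inferInstance
  have hex := uexact_of_boundedAbove L hflat N hN b hb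
  let C := trunc L b
  have hCfl := flat_trunc hflat hex
  have hCf : ∀ i, Module.Finite A (C.X i) := fun i => by
    haveI := (hL i).1
    exact Module.Finite.of_injective (truncSub L b i).subtype (Submodule.injective_subtype _)
  have hCp : ∀ i, Module.Projective A (C.X i) := fun i => by
    haveI := hCf i
    haveI := hCfl i
    haveI := Module.finitePresentation_of_finite A (C.X i)
    exact Module.Flat.projective_of_finitePresentation
  have hq := quasiIso_tensor_truncι hflat hex
  have hiso : ∀ M p, Nonempty (T C p M ≅ T L p M) := fun M p => by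
    have := (quasiIsoAt_iff_isIso_homologyMap _ p).1 ((hq M).quasiIsoAt p)
    let f : T C p M ⟶ T L p M := HomologicalComplex.homologyMap
      (((MonoidalCategory.tensorRight M).mapHomologicalComplex (ComplexShape.up ℤ)).map (truncι L b)) p
    haveI : IsIso f := this
    exact ⟨asIso f⟩
  have hmod : ∀ i, i < a → ∀ (m : Ideal A), m.IsMaximal → ∀ x : C.X i ⊗[A] (A ⧸ m),
      (C.d i (i + 1)).hom.rTensor (A ⧸ m) x = 0 →
      x ∈ LinearMap.range ((C.d (i - 1) i).hom.rTensor (A ⧸ m)) := fun i hi m hm => by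
    obtain ⟨e⟩ := hiso (ModuleCat.of A (A ⧸ m)) i
    exact (DR39.isZero_homology_iff _ i).1 ((ha m hm i hi).of_iso e)
  have hdd : ∀ i, (C.d i (i + 1)).hom ∘ₗ (C.d (i - 1) i).hom = 0 := fun i =>
    congrArg ModuleCat.Hom.hom (C.d_comp_d (i - 1) i (i + 1))
  have hac : ∀ i, i < a → IsZero (C.homology i) := fun i hi => by
    haveI := hCf i; haveI := hCf (i + 1); haveI := hCp (i + 1)
    rw [DR39.isZero_homology_iff]
    intro x hx
    obtain ⟨w, hw⟩ := exact_tensor_of_exact_mod _ _ (hdd i) (hmod i hi) A (x ⊗ₜ 1) (by simp [hx])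
    refine ⟨TensorProduct.rid A _ w, ?_⟩
    have h := congrArg (TensorProduct.rid A _) hw
    rw [TensorProduct.rid_tmul, one_smul] at h
    rw [← h]
    clear hw h
    induction w using TensorProduct.induction_on with
    | zero => simp
    | tmul y c => simp
    | add y z hy hz => simp [hy, hz]
  let K := bot C a
  have hKfl : ∀ i, Module.Flat A (K.X i) := fun i => by
    show Module.Flat A (C.X i ⧸ botSub C a i)
    rcases lt_trichotomy i a with hi | rfl | hi
    · haveI : Subsingleton (C.X i ⧸ botSub C a i) :=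
        Submodule.Quotient.subsingleton_iff.2 (botSub_of_lt C hi)
      infer_instance
    · haveI := hCf (i - 1); haveI := hCf i; haveI := hCp i
      have h := flat_coker_of_exact_mod (C.d (i - 1 - 1) (i - 1)).hom (C.d (i - 1) i).hom
        (congrArg ModuleCat.Hom.hom (C.d_comp_d (i - 1 - 1) (i - 1) i)) (fun m hm x hx => by
          refine hmod (i - 1) (by omega) m hm x ?_
          rwa [show i - 1 + 1 = i by omega])
      exact Module.Flat.of_linearEquiv (Submodule.quotEquivOfEq _ _ (botSub_self C i))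
    · haveI := hCfl i
      exact Module.Flat.of_linearEquiv (Submodule.quotEquivOfEqBot _ (botSub_of_gt C hi))
  refine ⟨K, fun i => ?_, fun i hi => ?_, fun M p => ?_⟩
  · haveI := hCf i
    haveI : Module.Finite A (K.X i) := Module.Finite.of_surjective _ (botSub C a i).mkQ_surjective
    haveI := hKfl i
    haveI := Module.finitePresentation_of_finite A (K.X i)
    exact ⟨inferInstance, Module.Flat.projective_of_finitePresentation⟩
  · rcases hi with hi | hi
    · exact isZero_bot_of_lt C hi
    · exact isZero_bot_of_isZero C (isZero_trunc hi)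
  · haveI := quasiIso_botπ C a hac
    haveI := S14613.result A C K hCfl hKfl ⟨b, fun i hi => isZero_trunc hi⟩
      ⟨b, fun i hi => isZero_bot_of_isZero C (isZero_trunc hi)⟩ (botπ C a) M
    obtain ⟨e⟩ := hiso M p
    let f : T C p M ⟶ T K p M := HomologicalComplex.homologyMap
      (((MonoidalCategory.tensorRight M).mapHomologicalComplex (ComplexShape.up ℤ)).map (botπ C a)) p
    haveI : IsIso f := (quasiIsoAt_iff_isIso_homologyMap _ p).1
      ((show QuasiIso (((MonoidalCategory.tensorRight M).mapHomologicalComplex (ComplexShape.up ℤ)).map (botπ C a)) from by assumption).quasiIsoAt p)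
    exact ⟨e.symm ≪≫ asIso f⟩

end Groth.Agent.Mum71
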