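import Groth.Agent.Mum71.CokerSec
import Groth.Agent.Coh69.RpushQCoh
import Groth.Agent.Coh69.LocModule

/-! Sections of higher direct images over affine opens, with the action of functions on the base. -/

set_option autoImplicit false
set_option maxSynthPendingDepth 6
set_option synthInstance.maxHeartbeats 200000
set_option linter.style.haveILetI false
set_option backward.isDefEq.respectTransparency.types false

universe u

noncomputable section

open CategoryTheory Limits AlgebraicGeometry Opposite TopologicalSpace CategoryTheory.Abelian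

namespace Groth.Agent.Mum71

open Coh69

/-- Isomorphic modules have isomorphic cohomology over the global functions. -/
theorem exists_hh_iso {X : Scheme.{u}} {M N : X.Modules} (e : M ≅ N) (n : ℕ) :
    ∃ E : Coh.HH X M n ≃+ Coh.HH X N n, ∀ (r : Coh.Γtop X) x, E (r • x) = r • E x := by
  let F := SheafOfModules.toSheaf X.ringCatSheaf ⋙ Sheaf.functorH (Opens.grothendieckTopology X) n
  refine ⟨(F.mapIso e).addCommGroupIsoToAddEquiv, fun r x => ?_⟩
  show Sheaf.H.map ((SheafOfModules.toSheaf X.ringCatSheaf).map e.hom) n (Sheaf.H.map (Coh.smulAb M r) n x) =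
    Sheaf.H.map (Coh.smulAb N r) n (Sheaf.H.map ((SheafOfModules.toSheaf X.ringCatSheaf).map e.hom) n x)
  rw [← Sheaf.H.map_comp_apply, ← Sheaf.H.map_comp_apply, smulAb_natural]

/-- `H^0` is the global sections, over the global functions. -/
theorem exists_hzero {X : Scheme.{u}} (M : X.Modules) :
    ∃ E : Coh.HH X M 0 ≃+ Γ(M, ⊤), ∀ (r : Γ(X, ⊤)) x, E ((show Coh.Γtop X from r) • x) = r • E x := by
  refine ⟨Sheaf.H.equiv₀ (Coh.toAb M) (isTerminalTop (α := X.Opens)), fun r x => ?_⟩
  refine (Sheaf.H.equiv₀_naturality (isTerminalTop (α := X.Opens)) (Coh.smulAb M r) x).symm.trans ?_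
  rw [Coh.smulAb_app]
  congr 1
  change X.ringCatSheaf.obj.map _ _ = _
  rw [show (homOfLE (le_top : (⊤ : X.Opens) ≤ ⊤)).op = 𝟙 _ from rfl, CategoryTheory.Functor.map_id]
  rfl

variable {X : Scheme.{u}} (W : X.Opens) (M : X.Modules)

/-- Sections over an open as global sections of the restriction. -/
def topRestrict : Γ(M, W) ≃+ Γ(M.restrict W.ι, ⊤) where
  toFun s := (M.restrictAppIso W.ι ⊤).inv (QC70.res M W.ι_image_top.le s)
  invFun s := QC70.res M W.ι_image_top.ge ((M.restrictAppIso W.ι ⊤).hom s)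
  left_inv s := by
    beta_reduce
    rw [show (M.restrictAppIso W.ι ⊤).hom ((M.restrictAppIso W.ι ⊤).inv (QC70.res M W.ι_image_top.le s)) =
      QC70.res M W.ι_image_top.le s from (M.restrictAppIso W.ι ⊤).inv_hom_id_apply _, QC70.res_res, QC70.res_self]
  right_inv s := by
    beta_reduce
    rw [QC70.res_res, QC70.res_self]
    exact (M.restrictAppIso W.ι ⊤).hom_inv_id_apply _
  map_add' s t := by rw [QC70.res_add, map_add]

lemma restrictAppIso_topRestrict (s : Γ(M, W)) :
    (M.restrictAppIso W.ι ⊤).hom (topRestrict W M s) = QC70.res M W.ι_image_top.le s :=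
  (M.restrictAppIso W.ι ⊤).inv_hom_id_apply _

lemma topRestrict_smul (g : Γ(X, W)) (s : Γ(M, W)) :
    topRestrict W M (g • s) = gRes W g • topRestrict W M s := by
  apply (ConcreteCategory.bijective_of_isIso (M.restrictAppIso W.ι ⊤).hom).injective
  rw [restrict_smul, restrictAppIso_topRestrict, restrictAppIso_topRestrict, QC70.res_smul]
  rfl

variable {M}

lemma topRestrict_app {N : X.Modules} (ψ : M ⟶ N) (s : Γ(M, W)) :
    ((Scheme.Modules.restrictFunctor W.ι).map ψ).app ⊤ (topRestrict W M s) =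
      topRestrict W N (ψ.app W s) := by
  apply (ConcreteCategory.bijective_of_isIso (N.restrictAppIso W.ι ⊤).hom).injective
  rw [restrict_app, restrictAppIso_topRestrict, restrictAppIso_topRestrict, QC70.app_res]

variable {S : Scheme.{u}} (f : X ⟶ S) {V : S.Opens}

theorem exists_rpush_succ_equiv [HasInjectiveResolutions X.Modules] [QuasiCompact f] [QuasiSeparated f]
    (F : X.Modules) [F.IsQuasicoherent] (hV : IsAffineOpen V) (m : ℕ) :
    ∃ e : Γ((Coh.Rpush f (m + 1)).obj F, V) ≃+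
        Coh.HH (f ⁻¹ᵁ V).toScheme (F.restrict (f ⁻¹ᵁ V).ι) (m + 1),
      ∀ (a : Γ(S, V)) x, e (a • x) =
        (show Coh.Γtop (f ⁻¹ᵁ V).toScheme from gRes (f ⁻¹ᵁ V) (f.app V a)) • e x := by
  let W := f ⁻¹ᵁ V
  let R := injectiveResolution F
  obtain ⟨e₀⟩ := nonempty_rpush_succ_iso f R m
  have : ((flResOfInj R).Z 0).IsQuasicoherent :=
    QC70.isQuasicoherent_of_iso
      (IsLimit.conePointUniqueUpToIso R.isLimitKernelFork (limit.isLimit _)) ‹F.IsQuasicoherent›
  have : IsAffine V.toScheme := hV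
  have : QuasiSeparatedSpace W.toScheme := quasiSeparatedSpace_of_quasiSeparated (f ∣_ V)
  have hloc := fun a : Γ(S, V) => (flResOfInj R).loc_cycles_within W
    (f.isCompact_preimage hV.isCompact) (f.app V a) m
  have hB : ∀ a : Γ(S, V), f ⁻¹ᵁ S.basicOpen a = X.basicOpen (f.app V a) := fun a =>
    Scheme.preimage_basicOpen f a
  obtain ⟨hπ, hπ0⟩ := coker_app_surjective_and_ker ((Scheme.Modules.pushforward f).map (cycπ R m)) hV
    (fun a s hs => by
      obtain ⟨t, ht⟩ := hs
      obtain ⟨k, t', ht'⟩ := (hloc a).1 s ⟨QC70.res (R.cocomplex.X m) (hB a).ge t, by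
        refine (QC70.app_res (cycπ R m) (hB a).ge t).trans ?_
        refine (congrArg (QC70.res (cycZ R (m + 1)) (hB a).ge) ht).trans ?_
        exact QC70.res_res _ _ _⟩
      refine ⟨k, t', ht'.trans ?_⟩
      exact congrArg (fun z : Γ(X, W) => z • (show Γ(cycZ R (m + 1), W) from s))
        (map_pow (f.app V).hom a k).symm)
    (fun a s' => by
      obtain ⟨k, s, t, ht⟩ := (hloc a).2 (QC70.res (cycZ R (m + 1)) (hB a).ge s')
      refine ⟨k, s, QC70.res (R.cocomplex.X m) (hB a).le t, ?_⟩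
      refine (QC70.app_res (cycπ R m) (hB a).le t).trans ?_
      refine (congrArg (QC70.res (cycZ R (m + 1)) (hB a).le) ht).trans ?_
      refine (QC70.res_sub _ _ _).trans ?_
      refine congrArg₂ (· - ·) (QC70.res_res _ _ _) ?_
      refine (QC70.res_pow_smul _ _ _ _).trans ?_
      refine congrArg₂ (· • ·) ?_ ((QC70.res_res _ _ _).trans (QC70.res_self _))
      refine (congrArg (· ^ k) (QC70.resO_resO _ _ _)).trans ?_
      refine Eq.trans ?_ (map_pow (f.app (S.basicOpen a)).hom _ k).symm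
      exact congrArg (· ^ k) (ConcreteCategory.congr_hom
        (f.naturality (homOfLE (S.basicOpen_le a)).op) a).symm)
  let R' := (flResOfInj R).restrict W
  let π : Γ(cycZ R (m + 1), W) →+
      Γ(cokernel ((Scheme.Modules.pushforward f).map (cycπ R m)), V) :=
    ((cokernel.π ((Scheme.Modules.pushforward f).map (cycπ R m))).app V).hom
  let c : Γ(cycZ R (m + 1), W) →+ HE (Coh.toAb (R'.Z 0)) (m + 1) ⊤ :=
    (R'.secExt ⊤ (m + 1)).comp (topRestrict W (cycZ R (m + 1))).toAddMonoidHom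
  have hc : Function.Surjective c :=
    (R'.secExt_surjective ⊤ (m + 1)).comp (topRestrict W (cycZ R (m + 1))).surjective
  have hk : π.ker = c.ker := AddSubgroup.ext fun s => by
    refine (hπ0 s).trans (Iff.trans ?_ (R'.secExt_eq_zero_iff ⊤ m _).symm)
    constructor
    · rintro ⟨t, ht⟩
      exact ⟨topRestrict W _ t, (topRestrict_app W (cycπ R m) t).trans (congrArg (topRestrict W _) ht)⟩
    · rintro ⟨t, ht⟩
      obtain ⟨t, rfl⟩ := (topRestrict W _).surjective t
      exact ⟨t, (topRestrict W _).injective ((topRestrict_app W (cycπ R m) t).symm.trans ht)⟩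
  let e₁ := ((QuotientAddGroup.quotientKerEquivOfSurjective π hπ).symm.trans
    (QuotientAddGroup.quotientAddEquivOfEq hk)).trans (QuotientAddGroup.quotientKerEquivOfSurjective c hc)
  have he₁ : ∀ s, e₁ (π s) = c s := fun s => by
    simp only [e₁, AddEquiv.trans_apply]
    rw [show (QuotientAddGroup.quotientKerEquivOfSurjective π hπ).symm (π s) = QuotientAddGroup.mk s from
      (AddEquiv.symm_apply_eq _).2 rfl]
    rfl
  obtain ⟨e₂, he₂⟩ : ∃ e₂ : Coh.HH W.toScheme (R'.Z 0) (m + 1) ≃+ Coh.HH W.toScheme (F.restrict W.ι) (m + 1),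
      ∀ (r : Coh.Γtop W.toScheme) x, e₂ (r • x) = r • e₂ x :=
    exists_hh_iso ((Scheme.Modules.restrictFunctor W.ι).mapIso
      (IsLimit.conePointUniqueUpToIso R.isLimitKernelFork (limit.isLimit _))).symm (m + 1)
  let e₀' : Γ((Coh.Rpush f (m + 1)).obj F, V) ≃+
      Γ(cokernel ((Scheme.Modules.pushforward f).map (cycπ R m)), V) :=
    { toFun := e₀.hom.app V
      invFun := e₀.inv.app V
      left_inv := fun x => congr($(congrArg (fun q : (Coh.Rpush f (m + 1)).obj F ⟶ _ => Scheme.Modules.Hom.app q V) e₀.hom_inv_id) x)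
      right_inv := fun x => congr($(congrArg (fun q : cokernel ((Scheme.Modules.pushforward f).map (cycπ R m)) ⟶ _ => Scheme.Modules.Hom.app q V) e₀.inv_hom_id) x)
      map_add' := map_add _ }
  refine ⟨e₀'.trans ((e₁.trans (hhEquiv (R'.Z 0) (m + 1)).symm).trans e₂), fun a x => ?_⟩
  show e₂ ((hhEquiv (R'.Z 0) (m + 1)).symm (e₁ (e₀.hom.app V (a • x)))) =
    _ • e₂ ((hhEquiv (R'.Z 0) (m + 1)).symm (e₁ (e₀.hom.app V x)))
  rw [Scheme.Modules.Hom.app_smul, ← he₂]
  refine congrArg e₂ ((AddEquiv.symm_apply_eq _).2 ?_)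
  let g : Γ(W.toScheme, ⊤) := gRes W (f.app V a)
  refine Eq.trans ?_ ((hhEquiv_smul (R'.Z 0) (m + 1) g _).trans (congrArg
    (fun t : HE (Coh.toAb (R'.Z 0)) (m + 1) ⊤ => Ext.comp t (Ext.mk₀ (Coh.smulAb (R'.Z 0) g)) (add_zero (m + 1)))
    ((hhEquiv (R'.Z 0) (m + 1)).apply_symm_apply _))).symm
  obtain ⟨s, hs⟩ := hπ (e₀.hom.app V x)
  have h1 : a • e₀.hom.app V x = π ((f.app V a : Γ(X, W)) • (show Γ(cycZ R (m + 1), W) from s)) := by
    rw [← hs]
    exact (Scheme.Modules.Hom.app_smul (cokernel.π ((Scheme.Modules.pushforward f).map (cycπ R m))) a s).symm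
  rw [h1, he₁, ← hs, show ((cokernel.π ((Scheme.Modules.pushforward f).map (cycπ R m))).app V) s = π s from rfl,
    he₁]
  refine Eq.trans ?_ (R'.secExt_smul ⊤ (gRes W (f.app V a)) (m + 1) (topRestrict W _ s)).symm
  refine congrArg (R'.secExt ⊤ (m + 1)) ((topRestrict_smul W _ _ _).trans ?_)
  rw [Coh.smulAb_app]
  congr 1
  change _ = W.toScheme.ringCatSheaf.obj.map _ _
  rw [show (homOfLE (le_top : (⊤ : W.toScheme.Opens) ≤ ⊤)).op = 𝟙 _ from rfl, CategoryTheory.Functor.map_id]
  rfl

/-- Sections of higher direct images over an affine open are cohomology of the preimage. -/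
theorem exists_rpush_equiv [HasInjectiveResolutions X.Modules] [QuasiCompact f] [QuasiSeparated f]
    (F : X.Modules) [F.IsQuasicoherent] (hV : IsAffineOpen V) (p : ℕ) :
    ∃ e : Γ((Coh.Rpush f p).obj F, V) ≃+ Coh.HH (f ⁻¹ᵁ V).toScheme (F.restrict (f ⁻¹ᵁ V).ι) p,
      ∀ (a : Γ(S, V)) x, e (a • x) =
        (show Coh.Γtop (f ⁻¹ᵁ V).toScheme from gRes (f ⁻¹ᵁ V) (f.app V a)) • e x := by
  cases p with
  | succ m => exact exists_rpush_succ_equiv f F hV m
  | zero =>
    obtain ⟨E, hE⟩ := exists_hzero (F.restrict (f ⁻¹ᵁ V).ι)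
    let e₀ := (Scheme.Modules.pushforward f).rightDerivedZeroIsoSelf.app F
    let e₀' : Γ((Coh.Rpush f 0).obj F, V) ≃+ Γ(F, f ⁻¹ᵁ V) :=
      { toFun := e₀.hom.app V
        invFun := e₀.inv.app V
        left_inv := fun x => congr($(congrArg (fun q : (Coh.Rpush f 0).obj F ⟶ _ => Scheme.Modules.Hom.app q V) e₀.hom_inv_id) x)
        right_inv := fun x => congr($(congrArg (fun q : (Scheme.Modules.pushforward f).obj F ⟶ _ => Scheme.Modules.Hom.app q V) e₀.inv_hom_id) x)
        map_add' := map_add _ }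
    refine ⟨e₀'.trans ((topRestrict (f ⁻¹ᵁ V) F).trans E.symm), fun a x => ?_⟩
    show E.symm (topRestrict (f ⁻¹ᵁ V) F (e₀.hom.app V (a • x))) =
      _ • E.symm (topRestrict (f ⁻¹ᵁ V) F (e₀.hom.app V x))
    rw [Scheme.Modules.Hom.app_smul, AddEquiv.symm_apply_eq, hE, AddEquiv.apply_symm_apply]
    exact topRestrict_smul (f ⁻¹ᵁ V) F (f.app V a) _

end Groth.Agent.Mum71
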