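import Groth.Agent.Mum71.Cech
import Groth.Agent.FF71.Classes
import Groth.Agent.LimTop61.PullBC
import Groth.Agent.LimTop61.PullSec
import Groth.Agent.Coh69.QcInd
import Groth.Agent.FlatMor68.FlatSections
import Mathlib.Algebra.TrivSqZeroExt.Basic

/-! Čech complexes and base change. -/

set_option autoImplicit false
set_option maxSynthPendingDepth 6
set_option synthInstance.maxHeartbeats 200000
set_option linter.style.haveILetI false
set_option backward.isDefEq.respectTransparency.types false

universe u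

noncomputable section

open CategoryTheory CategoryTheory.Limits AlgebraicGeometry TopologicalSpace Opposite TensorProduct

namespace Groth.Agent.Mum71

open Coh69 CechComp71 QC70 QCPull72 FF71

variable {A : Type u} [CommRing A] {X : Scheme.{u}} [X.Over (Spec (CommRingCat.of A))]

section Sections

variable (F : X.Modules) [F.IsQuasicoherent] (B : Type u) [CommRing B] [Algebra A B]
  {V : X.Opens} (hV : IsAffineOpen V) {V' : (bc A X B).Opens} (hV' : V' = bcπ A X B ⁻¹ᵁ V)

/-- The pulled back module. -/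
abbrev bcMod : (bc A X B).Modules := (Scheme.Modules.pullback (bcπ A X B)).obj F

omit [F.IsQuasicoherent] in
include hV in
lemma appLE_rA (a : A) :
    (bcπ A X B).appLE V V' hV'.le (rA A X V a) = rA B (bc A X B) V' (algebraMap A B a) := by
  subst hV'
  letI := (rA A X V).toAlgebra
  obtain ⟨e, he1, he2⟩ := exists_bc_equiv A X B hV
  rw [← Scheme.Hom.app_eq_appLE, ← he1, ← he2]
  congr 1
  rw [show rA A X V a = a • (1 : Γ(X, V)) by rw [Algebra.smul_def, mul_one]; rfl,
    TensorProduct.smul_tmul, Algebra.smul_def, mul_one]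

/-- Sections tensored with `B` as sections of the pullback. -/
def bcMap : Γ(F, V) ⊗[A] B →+ Γ(bcMod (A := A) F B, V') :=
  TensorProduct.liftAddHom
    { toFun := fun x =>
        { toFun := fun b => rA B (bc A X B) V' b • unitSec (bcπ A X B) F hV'.le x
          map_zero' := by rw [map_zero, zero_smul]
          map_add' := fun b b' => by rw [map_add, add_smul] }
      map_zero' := by
        ext b
        show rA B (bc A X B) V' b • unitSec (bcπ A X B) F hV'.le 0 = 0
        rw [LimTop61.unitSec_zero, smul_zero]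
      map_add' := fun x x' => by
        ext b
        show rA B (bc A X B) V' b • unitSec (bcπ A X B) F hV'.le (x + x') = _
        rw [LimTop61.unitSec_add, smul_add]
        rfl }
    fun a x b => by
      show rA B (bc A X B) V' b • unitSec (bcπ A X B) F hV'.le (rA A X V a • x) =
        rA B (bc A X B) V' (a • b) • unitSec (bcπ A X B) F hV'.le x
      rw [LimTop61.unitSec_smul, appLE_rA B hV hV', smul_smul, ← map_mul, Algebra.smul_def, mul_comm]

omit [F.IsQuasicoherent] in
lemma bcMap_tmul (x : Γ(F, V)) (b : B) :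
    bcMap F B hV hV' (x ⊗ₜ b) = rA B (bc A X B) V' b • unitSec (bcπ A X B) F hV'.le x := rfl

theorem bcMap_bijective : Function.Bijective (bcMap F B hV hV') := by
  subst hV'
  letI := (rA A X V).toAlgebra
  obtain ⟨e, he1, he2⟩ := exists_bc_equiv A X B hV
  letI := ((bcπ A X B).appLE V (bcπ A X B ⁻¹ᵁ V) le_rfl).hom.toAlgebra
  haveI : IsScalarTower A Γ(X, V) Γ(F, V) := IsScalarTower.of_algebraMap_smul fun _ _ => rfl
  obtain ⟨E, hE⟩ := LimTop61.exists_baseChange_equiv (bcπ A X B) F hV (hV.preimage (bcπ A X B))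
    (e := le_rfl)
  let e' : Γ(X, V) ⊗[A] B ≃ₗ[Γ(X, V)] Γ(bc A X B, bcπ A X B ⁻¹ᵁ V) :=
    { e with
      map_smul' := fun r x => by
        change e (r • x) = _
        rw [Algebra.smul_def, map_mul, Algebra.TensorProduct.algebraMap_apply,
          Algebra.algebraMap_self_apply, he1]
        rw [Scheme.Hom.app_eq_appLE]
        rfl }
  let Ψ : Γ(F, V) ⊗[A] B ≃+ Γ(bcMod (A := A) F B, bcπ A X B ⁻¹ᵁ V) :=
    (TensorProduct.AlgebraTensorModule.cancelBaseChange A Γ(X, V) Γ(X, V) Γ(F, V) B).symm.toAddEquiv.trans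
      (((TensorProduct.congr (LinearEquiv.refl _ _) e').trans
        (TensorProduct.comm Γ(X, V) Γ(F, V) Γ(bc A X B, bcπ A X B ⁻¹ᵁ V))).toAddEquiv.trans
        E.symm.toAddEquiv)
  have h : ∀ z, bcMap F B hV rfl z = Ψ z := fun z => by
    induction z using TensorProduct.induction_on with
    | zero => simp only [map_zero]
    | add x y hx hy => simp only [map_add, hx, hy]
    | tmul x b =>
      rw [bcMap_tmul]
      apply E.injective
      rw [map_smul, hE]
      show _ = E (E.symm (TensorProduct.comm Γ(X, V) Γ(F, V) Γ(bc A X B, bcπ A X B ⁻¹ᵁ V)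
        (TensorProduct.congr (LinearEquiv.refl _ _) e'
          ((TensorProduct.AlgebraTensorModule.cancelBaseChange A Γ(X, V) Γ(X, V) Γ(F, V) B).symm (x ⊗ₜ b)))))
      rw [show (TensorProduct.AlgebraTensorModule.cancelBaseChange A Γ(X, V) Γ(X, V) Γ(F, V) B).symm (x ⊗ₜ b) =
          x ⊗ₜ ((1 : Γ(X, V)) ⊗ₜ b) by rw [LinearEquiv.symm_apply_eq,
            TensorProduct.AlgebraTensorModule.cancelBaseChange_tmul, one_smul],
        LinearEquiv.apply_symm_apply, TensorProduct.congr_tmul, TensorProduct.comm_tmul,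
        LinearEquiv.refl_apply, TensorProduct.smul_tmul', smul_eq_mul, mul_one]
      exact congrArg (fun t => t ⊗ₜ[Γ(X, V)] x) (he2 b).symm
  exact (show ⇑(bcMap F B hV rfl) = Ψ from funext h) ▸ Ψ.bijective

end Sections

variable {ι : Type u} (U : ι → X.Opens) (F : X.Modules) (B : Type u) [CommRing B] [Algebra A B]

/-- The cover of the base change. -/
abbrev bcCover (i : ι) : (bc A X B).Opens := bcπ A X B ⁻¹ᵁ U i

omit F in
lemma cOpen_bcCover {n : ℕ} (i : Fin n → ι) :
    cOpen (bcCover (A := A) U B) i = bcπ A X B ⁻¹ᵁ cOpen U i := by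
  ext x
  exact (mem_cOpen _ i x).trans (mem_cOpen U i (bcπ A X B x)).symm

omit F in
lemma iSup_bcCover (hU : ⨆ i, U i = ⊤) : ⨆ i, bcCover (A := A) U B i = ⊤ := by
  rw [← Scheme.Hom.preimage_iSup, hU]
  rfl

variable {U} (hU' : ∀ (n : ℕ) (i : Fin (n + 1) → ι), IsAffineOpen (cOpen U i))

omit F in
include hU' in
lemma isAffineOpen_cOpen_bcCover (n : ℕ) (i : Fin (n + 1) → ι) :
    IsAffineOpen (cOpen (bcCover (A := A) U B) i) := by
  rw [cOpen_bcCover]
  exact (hU' n i).preimage _

variable [F.IsQuasicoherent]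

/-- The comparison for base change. -/
def bcCoef : Coef (A := A) U F (bcCover (A := A) U B) (bcMod (A := A) F B) B where
  θ p i := AddEquiv.ofBijective _ (bcMap_bijective F B (hU' p i) (cOpen_bcCover U B i))
  θ_res p k j x b := by
    rw [AddEquiv.ofBijective_apply, AddEquiv.ofBijective_apply, bcMap_tmul, bcMap_tmul, QC70.res_smul,
      resO_rA, LimTop61.unitSec_res]

include hU' in
lemma acyclicOn_bc : AcyclicOn (bcCover (A := A) U B) (Coh.toAb (bcMod (A := A) F B)) :=
  haveI := isQuasicoherent_pullback (bcπ A X B) F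
  acyclicOn_of_isAffineOpen _ _ (isAffineOpen_cOpen_bcCover B hU')

lemma subsingleton_hh_bc [IsSeparated (X ↘ Spec (CommRingCat.of A))] [Finite ι]
    (hU : ⨆ i, U i = ⊤) (hA : ∀ i, IsAffineOpen (U i)) {q : ℕ} (hq : Nat.card ι ≤ q) :
    Subsingleton (Coh.HH (bc A X B) (bcMod (A := A) F B) q) := by
  haveI := isQuasicoherent_pullback (bcπ A X B) F
  haveI : (bc A X B).IsSeparated := ⟨by
    rw [← terminal.comp_from (pullback.snd (X ↘ Spec (CommRingCat.of A))
      (Spec.map (CommRingCat.ofHom (algebraMap A B))))]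
    infer_instance⟩
  have h := subsingleton_HE_biSup (fun _ _ h₁ h₂ => h₁.inf h₂) (bcMod (A := A) F B) (Nat.card ι)
    (fun j => bcCover (A := A) U B ((Finite.equivFin ι).symm j)) (fun j => (hA _).preimage _) q hq
  rw [(Finite.equivFin ι).symm.iSup_comp (g := bcCover (A := A) U B), iSup_bcCover U B hU] at h
  exact (hhEquiv _ q).toEquiv.subsingleton

end Groth.Agent.Mum71
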