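import Groth.Agent.Mum71.Chain
import Groth.Agent.FCx40.Bc
import Mathlib.LinearAlgebra.Dimension.Basic
import Mathlib.LinearAlgebra.Dimension.Finrank

/-! The ranks of the cohomology of the fibres from the complex. -/

set_option autoImplicit false
set_option maxSynthPendingDepth 6
set_option synthInstance.maxHeartbeats 200000
set_option linter.style.haveILetI false
set_option backward.isDefEq.respectTransparency.types false

universe u

noncomputable section

open CategoryTheory CategoryTheory.Limits AlgebraicGeometry TopologicalSpace Opposite TensorProduct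
open CohIII (T tensorObj)

namespace Groth.Agent.Mum71

open Coh69 CechComp71 FF71

section Bc

variable {A : Type u} [CommRing A] (B : Type u) [CommRing B] [Algebra A B]
  (P : ChainComplex (ModuleCat.{u} A) ℤ)

theorem exists_bcCx_equiv (p : ℤ) :
    ∃ e : (CohIII.bcCx (algebraMap A B) P).homology p ≃+ T P p (ModuleCat.of A B),
      ∀ (a : A) t, e (algebraMap A B a • t) = a • e t := by
  have hq : p - 1 + 1 = p := by omega
  have hn : (ComplexShape.down ℤ).next p = p - 1 := ComplexShape.next_eq' _ (by simp)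
  have hi : (ComplexShape.down ℤ).prev p = p + 1 := ComplexShape.prev_eq' _ rfl
  let k := ((P.d p (p - 1)).hom.baseChange B).restrictScalars A
  have hc : ∀ (i j : ℤ) (x : B ⊗[A] P.X i),
      TensorProduct.comm A B (P.X j) ((P.d i j).hom.baseChange B x) =
        (P.d i j).hom.rTensor B (TensorProduct.comm A B (P.X i) x) := fun i j x => by
    induction x with
    | zero => simp only [map_zero]
    | add x y hx hy => simp only [map_add, hx, hy]
    | tmul b y => rfl
  let g : LinearMap.ker ((P.d p (p - 1)).hom.baseChange B) →+ T P p (ModuleCat.of A B) :=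
    (FCx40.hcls (tensorObj P (ModuleCat.of A B)) p (p - 1) hn).toAddMonoidHom.comp
      (AddMonoidHom.mk' (fun z => ⟨TensorProduct.comm A B (P.X p) z.1,
        (hc p (p - 1) z.1).symm.trans ((congrArg _ (LinearMap.mem_ker.1 z.2)).trans (map_zero _))⟩)
        fun z z' => Subtype.ext (map_add (TensorProduct.comm A B (P.X p)) z.1 z'.1))
  let f := (FCx40.bcls B P hq).toAddMonoidHom
  have hf : Function.Surjective f := FCx40.bcls_surjective B P hq
  have hg : Function.Surjective g := fun t => by
    obtain ⟨z, rfl⟩ := FCx40.hcls_surjective (K := tensorObj P (ModuleCat.of A B)) hn t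
    refine ⟨⟨(TensorProduct.comm A B (P.X p)).symm z.1, ?_⟩, ?_⟩
    · apply (TensorProduct.comm A B (P.X (p - 1))).injective
      rw [hc, LinearEquiv.apply_symm_apply, map_zero]
      exact z.2
    · exact congrArg (FCx40.hcls (tensorObj P (ModuleCat.of A B)) p (p - 1) hn)
        (Subtype.ext ((TensorProduct.comm A B (P.X p)).apply_symm_apply z.1))
  have hk : f.ker = g.ker := AddSubgroup.ext fun z => by
    refine (FCx40.bcls_eq_zero_iff B P hq rfl z).trans
      (Iff.trans ?_ (FCx40.hcls_eq_zero_iff (K := tensorObj P (ModuleCat.of A B)) hi hn _).symm)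
    constructor
    · rintro ⟨w, hw⟩
      exact ⟨TensorProduct.comm A B (P.X (p + 1)) w, (hc _ _ w).symm.trans (congrArg _ hw)⟩
    · rintro ⟨w, hw⟩
      refine ⟨(TensorProduct.comm A B (P.X (p + 1))).symm w, (TensorProduct.comm A B (P.X p)).injective ?_⟩
      rw [hc, LinearEquiv.apply_symm_apply]
      exact hw
  let e := ((QuotientAddGroup.quotientKerEquivOfSurjective f hf).symm.trans
    (QuotientAddGroup.quotientAddEquivOfEq hk)).trans (QuotientAddGroup.quotientKerEquivOfSurjective g hg)
  have he : ∀ z, e (f z) = g z := fun z => by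
    simp only [e, AddEquiv.trans_apply]
    rw [show (QuotientAddGroup.quotientKerEquivOfSurjective f hf).symm (f z) = QuotientAddGroup.mk z from
      (AddEquiv.symm_apply_eq _).2 rfl]
    rfl
  refine ⟨e, fun a t => ?_⟩
  obtain ⟨z, rfl⟩ := hf t
  have h1 : algebraMap A B a • f z = f (algebraMap A B a • z) := ((FCx40.bcls B P hq).map_smul _ z).symm
  rw [h1, he, he]
  show FCx40.hcls (tensorObj P (ModuleCat.of A B)) p (p - 1) hn _ =
    a • FCx40.hcls (tensorObj P (ModuleCat.of A B)) p (p - 1) hn _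
  rw [← map_smul]
  refine congrArg _ (Subtype.ext ?_)
  show TensorProduct.comm A B (P.X p) (algebraMap A B a • (z.1 : B ⊗[A] P.X p)) =
    a • TensorProduct.comm A B (P.X p) z.1
  rw [algebraMap_smul, map_smul]

end Bc

section Lin

variable {A : Type u} [CommRing A] {X : Scheme.{u}} [X.Over (Spec (CommRingCat.of A))]
  {ι : Type u} [Finite ι] {U : ι → X.Opens} {F : X.Modules} [F.IsQuasicoherent]
  (hU : ⨆ i, U i = ⊤) (hU' : ∀ (n : ℕ) (i : Fin (n + 1) → ι), IsAffineOpen (cOpen U i))
  (B : Type u) [CommRing B] [Algebra A B]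

lemma bcCoef_Φ_smul (p : ℕ) (a : A) (x : Ch U F p ⊗[A] B) :
    (bcCoef (A := A) F B hU').Φ p (a • x) =
      smulC (A := B) (bcCover (A := A) U B) (bcMod (A := A) F B) p (algebraMap A B a)
        ((bcCoef (A := A) F B hU').Φ p x) := by
  induction x using TensorProduct.induction_on with
  | zero => simp only [smul_zero, map_zero]
  | add x y hx hy => simp only [smul_add, map_add, hx, hy]
  | tmul c b =>
    funext i
    rw [← TensorProduct.tmul_smul, Coef.Φ_tmul, smulC_apply, Coef.Φ_tmul]
    show bcMap F B (hU' p i) (cOpen_bcCover U B i) (c i ⊗ₜ (a • b)) =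
      _ • bcMap F B (hU' p i) (cOpen_bcCover U B i) (c i ⊗ₜ b)
    rw [bcMap_tmul, bcMap_tmul, Algebra.smul_def, map_mul, mul_smul]

variable {L : CochainComplex (ModuleCat.{u} A) ℤ} {φ : L ⟶ chCx A U F}
  (hφ : ∀ M : ModuleCat.{u} A, QuasiIso
    (((MonoidalCategory.tensorRight M).mapHomologicalComplex (ComplexShape.up ℤ)).map φ))

include hφ hU hU' in
theorem exists_hh_bc_semilinear (p : ℕ) :
    ∃ e : T L (p : ℤ) (ModuleCat.of A B) ≃+ Coh.HH (bc A X B) (bcMod (A := A) F B) p,
      ∀ (a : A) t, e (a • t) = algebraMap A B a • e t := by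
  haveI := hφ (ModuleCat.of A B)
  obtain ⟨e, he⟩ := (bcCoef (A := A) F B hU').exists_equiv (iSup_bcCover U B hU) (acyclicOn_bc F B hU') p
  let ψ := (asIso (HomologicalComplex.homologyMap
    (((MonoidalCategory.tensorRight (ModuleCat.of A B)).mapHomologicalComplex (ComplexShape.up ℤ)).map φ)
    (p : ℤ))).toLinearEquiv
  refine ⟨ψ.toAddEquiv.trans e, fun a t => ?_⟩
  show e (ψ (a • t)) = algebraMap A B a • e (ψ t)
  rw [map_smul]
  obtain ⟨z, hz⟩ := FCx40.hcls_surjective (K := tensorObj (chCx A U F) (ModuleCat.of A B))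
    (CochainComplex.next ℤ (p : ℤ)) (ψ t)
  rw [← hz, ← map_smul, he, he]
  show toHH _ _ _ p _ = algebraMap A B a • toHH _ _ _ p _
  rw [← FF71.toHH_smulZ]
  congr 1
  exact Subtype.ext ((bcCoef_Φ_smul hU' B p a z.1).trans
    (smulZ_val _ _ p _ ((bcCoef (A := A) F B hU').cyc p z)).symm)

include hφ hU hU' in
theorem exists_hh_pullback_semilinear {B : CommRingCat.{u}} [Algebra A B]
    (g : Spec B ⟶ Spec (CommRingCat.of A))
    (hg : g = Spec.map (CommRingCat.ofHom (algebraMap A B))) (p : ℕ) :
    ∃ e : T L (p : ℤ) (ModuleCat.of A B) ≃+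
        Coh.HH (pullback (X ↘ Spec (CommRingCat.of A)) g)
          ((Scheme.Modules.pullback (pullback.fst (X ↘ Spec (CommRingCat.of A)) g)).obj F) p,
      ∀ (a : A) t, e (a • t) =
        Coh.toGlobal (X := pullback (X ↘ Spec (CommRingCat.of A)) g) (A := B)
          (pullback.snd _ _) (algebraMap A B a) • e t := by
  subst hg
  exact exists_hh_bc_semilinear hU hU' B hφ p

end Lin

theorem finrank_eq_of_fraction {A K K' V V' : Type u} [CommRing A] [Field K] [Field K'] [Algebra A K]
    [Algebra A K'] [AddCommGroup V] [Module K V] [AddCommGroup V'] [Module K' V'] (σ : K ≃ₐ[A] K')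
    (hK : ∀ c : K, ∃ a s : A, algebraMap A K s ≠ 0 ∧ algebraMap A K s * c = algebraMap A K a)
    (e : V ≃+ V') (he : ∀ (a : A) v, e (algebraMap A K a • v) = algebraMap A K' a • e v) :
    Module.finrank K V = Module.finrank K' V' := by
  refine congrArg Cardinal.toNat (rank_eq_of_equiv_equiv (σ : K → K') e σ.bijective fun c v => ?_)
  obtain ⟨a, s, hs, hc⟩ := hK c
  have hs' : algebraMap A K' s ≠ 0 := by
    rw [← σ.commutes]
    exact fun h => hs (σ.injective (h.trans (map_zero σ).symm))
  apply smul_right_injective V' hs'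
  show algebraMap A K' s • e (c • v) = algebraMap A K' s • (σ c • e v)
  rw [← he, smul_smul, smul_smul, hc, he, ← σ.commutes a, ← hc, map_mul, σ.commutes s]

theorem fiberRank_eq_dRank {A : Type u} [CommRing A] {X : Scheme.{u}}
    [X.Over (Spec (CommRingCat.of A))] {ι : Type u} [Finite ι] {U : ι → X.Opens} {F : X.Modules}
    [F.IsQuasicoherent] (hU : ⨆ i, U i = ⊤)
    (hU' : ∀ (n : ℕ) (i : Fin (n + 1) → ι), IsAffineOpen (cOpen U i))
    {L : CochainComplex (ModuleCat.{u} A) ℤ} {φ : L ⟶ chCx A U F}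
    (hφ : ∀ M : ModuleCat.{u} A, QuasiIso
      (((MonoidalCategory.tensorRight M).mapHomologicalComplex (ComplexShape.up ℤ)).map φ))
    (p : ℕ) (y : Spec (CommRingCat.of A)) :
    CohIII.fiberRank (X ↘ Spec (CommRingCat.of A)) F p y =
      CohIII.dRank (toChain L) (-(p : ℤ)) y := by
  let i := (AlgebraicGeometry.Scheme.Spec.residueFieldIso (CommRingCat.of A) y).commRingCatIsoToRingEquiv.symm
  let ψ : A →+* (Spec (CommRingCat.of A)).residueField y :=
    i.toRingHom.comp (algebraMap A (y.asIdeal.ResidueField))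
  letI : Algebra A ((Spec (CommRingCat.of A)).residueField y) := ψ.toAlgebra
  have hy : (Spec (CommRingCat.of A)).fromSpecResidueField y =
      Spec.map (CommRingCat.ofHom (algebraMap A ((Spec (CommRingCat.of A)).residueField y))) := by
    refine (AlgebraicGeometry.Scheme.Spec.map_residueFieldIso_inv_eq_fromSpecResidueField (CommRingCat.of A) y).symm.trans ?_
    rw [← Spec.map_comp]
    rfl
  let σ : y.asIdeal.ResidueField ≃ₐ[A] (Spec (CommRingCat.of A)).residueField y :=
    AlgEquiv.ofRingEquiv (f := i) fun _ => rfl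
  obtain ⟨e₀, he₀⟩ := exists_hh_pullback_semilinear hU hU' hφ
    ((Spec (CommRingCat.of A)).fromSpecResidueField y) hy p
  obtain ⟨e₁, he₁⟩ := exists_bcCx_equiv y.asIdeal.ResidueField (toChain L) (-(p : ℤ))
  obtain ⟨e₂, -⟩ := exists_T_toChain L (-(p : ℤ))
  let e₃ : T L (- -(p : ℤ)) (ModuleCat.of A y.asIdeal.ResidueField) ≃ₗ[A]
      T L (p : ℤ) (ModuleCat.of A ((Spec (CommRingCat.of A)).residueField y)) :=
    ((eqToIso (by rw [neg_neg]) : T L (- -(p : ℤ)) (ModuleCat.of A y.asIdeal.ResidueField) ≅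
        T L (p : ℤ) (ModuleCat.of A y.asIdeal.ResidueField)) ≪≫
      (CohIII.TFun L (p : ℤ)).mapIso (σ.toLinearEquiv.toModuleIso :
        ModuleCat.of A y.asIdeal.ResidueField ≅
          ModuleCat.of A ((Spec (CommRingCat.of A)).residueField y))).toLinearEquiv
  symm
  unfold CohIII.dRank CohIII.fiberRank
  refine finrank_eq_of_fraction σ (fun c => ?_)
    ((e₁.trans ((e₂ _).trans e₃).toAddEquiv).trans e₀) fun a v => ?_
  · obtain ⟨q, hq, s, rfl⟩ := IsFractionRing.div_surjective (A := A ⧸ y.asIdeal) c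
    obtain ⟨a, rfl⟩ := Ideal.Quotient.mk_surjective q
    obtain ⟨t, rfl⟩ := Ideal.Quotient.mk_surjective hq
    have ht : algebraMap A y.asIdeal.ResidueField t ≠ 0 := fun h0 =>
      IsFractionRing.to_map_ne_zero_of_mem_nonZeroDivisors (K := y.asIdeal.ResidueField) s
        (by rwa [IsScalarTower.algebraMap_apply A (A ⧸ y.asIdeal) y.asIdeal.ResidueField] at h0)
    refine ⟨a, t, ht, ?_⟩
    rw [IsScalarTower.algebraMap_apply A (A ⧸ y.asIdeal) y.asIdeal.ResidueField t,
      IsScalarTower.algebraMap_apply A (A ⧸ y.asIdeal) y.asIdeal.ResidueField a,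
      Ideal.Quotient.algebraMap_eq]
    exact mul_div_cancel₀ _ (IsFractionRing.to_map_ne_zero_of_mem_nonZeroDivisors s)
  · show e₀ (((e₂ _).trans e₃) (e₁ (algebraMap A y.asIdeal.ResidueField a • v))) = _
    rw [he₁, map_smul, he₀]
    rfl

end Groth.Agent.Mum71
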