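import Groth.Agent.Mum71.BcFunctor
import Groth.Agent.Mum71.FibreLin
import Groth.Agent.Mum71.RpushLin

/-! Cohomology of a base change along any cartesian square, with its scalars. -/

set_option autoImplicit false
set_option maxSynthPendingDepth 6
set_option synthInstance.maxHeartbeats 200000
set_option linter.style.haveILetI false
set_option backward.isDefEq.respectTransparency.types false

universe u

noncomputable section

open CategoryTheory CategoryTheory.Limits AlgebraicGeometry TopologicalSpace Opposite TensorProduct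
open CohIII (T tensorObj)

namespace Groth.Agent.Mum71

open Coh69 CechComp71 QC70 QCPull72 FF71

variable {A : Type u} [CommRing A] {X : Scheme.{u}} [X.Over (Spec (CommRingCat.of A))]
  {B : Type u} [CommRing B] [Algebra A B] {X' : Scheme.{u}} [X'.Over (Spec (CommRingCat.of B))]
  {g : X' ⟶ X}
  (hsq : IsPullback g (X' ↘ Spec (CommRingCat.of B)) (X ↘ Spec (CommRingCat.of A))
    (Spec.map (CommRingCat.ofHom (algebraMap A B))))
  {ι : Type u} {U : ι → X.Opens} {F : X.Modules} [F.IsQuasicoherent]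
  (hU : ⨆ i, U i = ⊤) (hU' : ∀ (n : ℕ) (i : Fin (n + 1) → ι), IsAffineOpen (cOpen U i))

variable (F) in
/-- Sections tensored with `B` as sections of the pullback. -/
def sqBEquiv {V : X.Opens} (hV : IsAffineOpen V) {V' : X'.Opens} (hV' : V' = g ⁻¹ᵁ V) :
    Γ(F, V) ⊗[A] B ≃+ Γ((Scheme.Modules.pullback g).obj F, V') :=
  (TensorProduct.comm A Γ(F, V) B).toAddEquiv.trans (exists_sq_sections hsq F hV hV').choose.toAddEquiv

lemma sqBEquiv_tmul {V : X.Opens} (hV : IsAffineOpen V) {V' : X'.Opens} (hV' : V' = g ⁻¹ᵁ V)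
    (x : Γ(F, V)) (b : B) :
    sqBEquiv hsq F hV hV' (x ⊗ₜ b) = rA B X' V' b • unitSec g F hV'.le x := by
  show (exists_sq_sections hsq F hV hV').choose (b ⊗ₜ x) = _
  rw [show b ⊗ₜ[A] x = b • ((1 : B) ⊗ₜ[A] x) by rw [TensorProduct.smul_tmul', smul_eq_mul, mul_one],
    map_smul, (exists_sq_sections hsq F hV hV').choose_spec x]
  rfl

variable (F) in
/-- The comparison for the square. -/
def sqBCoef : Coef (A := A) U F (preU g U) ((Scheme.Modules.pullback g).obj F) B where
  θ p i := sqBEquiv hsq F (hU' p i) (cOpen_preU g i)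
  θ_res p k j x b := by
    rw [sqBEquiv_tmul, sqBEquiv_tmul, QC70.res_smul, resO_rA]
    exact congrArg (_ • ·) (LimTop61.unitSec_res g F _ _ _ _ x)

variable [Finite ι]

lemma sqBCoef_Φ_smul (p : ℕ) (a : A) (x : Ch U F p ⊗[A] B) :
    (sqBCoef hsq F hU').Φ p (a • x) =
      smulC (A := B) (preU g U) ((Scheme.Modules.pullback g).obj F) p (algebraMap A B a)
        ((sqBCoef hsq F hU').Φ p x) := by
  induction x using TensorProduct.induction_on with
  | zero => simp only [smul_zero, map_zero]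
  | add x y hx hy => simp only [smul_add, map_add, hx, hy]
  | tmul c b =>
    funext i
    rw [← TensorProduct.tmul_smul, Coef.Φ_tmul, smulC_apply, Coef.Φ_tmul]
    show sqBEquiv hsq F (hU' p i) (cOpen_preU g i) (c i ⊗ₜ (a • b)) =
      _ • sqBEquiv hsq F (hU' p i) (cOpen_preU g i) (c i ⊗ₜ b)
    rw [sqBEquiv_tmul, sqBEquiv_tmul, Algebra.smul_def, map_mul, mul_smul]

variable {L : CochainComplex (ModuleCat.{u} A) ℤ} {φ : L ⟶ chCx A U F}
  (hφ : ∀ M : ModuleCat.{u} A, QuasiIso
    (((MonoidalCategory.tensorRight M).mapHomologicalComplex (ComplexShape.up ℤ)).map φ))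

include hsq hφ hU hU' in
theorem exists_hh_sq_semilinear (p : ℕ) :
    ∃ e : T L (p : ℤ) (ModuleCat.of A B) ≃+ Coh.HH X' ((Scheme.Modules.pullback g).obj F) p,
      ∀ (a : A) t, e (a • t) = algebraMap A B a • e t := by
  have hUp : ⨆ i, preU g U i = ⊤ := by
    show ⨆ i, g ⁻¹ᵁ U i = ⊤
    rw [← Scheme.Hom.preimage_iSup, hU]
    rfl
  haveI := isAffineHom_of_sq hsq
  haveI : ((Scheme.Modules.pullback g).obj F).IsQuasicoherent := isQuasicoherent_pullback _ _
  have hac : AcyclicOn (preU g U) (Coh.toAb ((Scheme.Modules.pullback g).obj F)) :=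
    acyclicOn_of_isAffineOpen _ _ fun n i => by
      rw [cOpen_preU]
      exact (hU' n i).preimage _
  haveI := hφ (ModuleCat.of A B)
  obtain ⟨e, he⟩ := (sqBCoef hsq F hU').exists_equiv hUp hac p
  let ψ := (asIso (HomologicalComplex.homologyMap
    (((MonoidalCategory.tensorRight (ModuleCat.of A B)).mapHomologicalComplex (ComplexShape.up ℤ)).map φ)
    (p : ℤ))).toLinearEquiv
  refine ⟨ψ.toAddEquiv.trans e, fun a t => ?_⟩
  show e (ψ (a • t)) = algebraMap A B a • e (ψ t)
  rw [map_smul]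
  obtain ⟨z, hz⟩ := FCx40.hcls_surjective (K := tensorObj (chCx A U F) (ModuleCat.of A B))
    (CochainComplex.next ℤ (p : ℤ)) (ψ t)
  rw [← hz, ← map_smul, he, he]
  show toHH _ _ _ p _ = algebraMap A B a • toHH _ _ _ p _
  rw [← FF71.toHH_smulZ]
  congr 1
  exact Subtype.ext ((sqBCoef_Φ_smul hsq hU' p a z.1).trans
    (smulZ_val _ _ p _ ((sqBCoef hsq F hU').cyc p z)).symm)

include hφ hU hU' in
/-- `H^p(X, F)` from the complex, linearly. -/
theorem nonempty_hh_linear (p : ℕ) :
    Nonempty (T L (p : ℤ) (ModuleCat.of A A) ≃ₗ[A] Coh.HH X F p) := by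
  obtain ⟨e, he⟩ := (idCoef (A := A) U F).exists_equiv hU (acyclicOn_of_isAffineOpen _ F hU') p
  let e' : T (chCx A U F) (p : ℤ) (ModuleCat.of A A) ≃ₗ[A] Coh.HH X F p :=
    { e with
      map_smul' := fun a t => by
        obtain ⟨z, rfl⟩ := FCx40.hcls_surjective (CochainComplex.next ℤ (p : ℤ)) t
        change e (a • _) = a • e _
        rw [← map_smul, he, he]
        show toHH U hU F p _ = a • toHH U hU F p _
        rw [← FF71.toHH_smulZ]
        congr 1
        exact Subtype.ext ((idCoef_Φ_smul U F p a z.1).trans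
          (smulZ_val U F p a ((idCoef (A := A) U F).cyc p z)).symm) }
  obtain ⟨i⟩ := nonempty_T_iso hφ (ModuleCat.of A A) (p : ℤ)
  exact ⟨i.toLinearEquiv.trans e'⟩

end Groth.Agent.Mum71
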