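import Groth.Agent.Coh69.CokerLoc

/-! Sections of a cokernel over an affine open (the localisation argument of `Coh69.isLocAt_cokernel`). -/

set_option autoImplicit false
set_option backward.isDefEq.respectTransparency.types false

universe u

open CategoryTheory Limits AlgebraicGeometry Opposite TopologicalSpace

namespace Groth.Agent.Mum71

open Coh69

attribute [local instance] Coh69.quotModule

variable {S : Scheme.{u}} {A B : S.Modules} (ψ : A ⟶ B) {V : S.Opens}

/-- Sections of a cokernel over an affine open are sections modulo the image, when these localize. -/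
theorem coker_app_surjective_and_ker (hV : IsAffineOpen V)
    (hker : ∀ (a : Γ(S, V)) (s : Γ(B, V)),
      (∃ t, ψ.app (S.basicOpen a) t = QC70.res B (S.basicOpen_le a) s) →
      ∃ (k : ℕ) (t : Γ(A, V)), ψ.app V t = a ^ k • s)
    (hsurj : ∀ (a : Γ(S, V)) (s' : Γ(B, S.basicOpen a)), ∃ (k : ℕ) (s : Γ(B, V)) (t : _),
      ψ.app (S.basicOpen a) t =
        QC70.res B (S.basicOpen_le a) s - QC70.resO S (S.basicOpen_le a) a ^ k • s') :
    Function.Surjective ((cokernel.π ψ).app V) ∧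
      ∀ s : Γ(B, V), (cokernel.π ψ).app V s = 0 ↔ ∃ t, ψ.app V t = s := by
  have h1V : V = S.basicOpen (1 : Γ(S, V)) := (Scheme.basicOpen_of_isUnit _ isUnit_one).symm
  have hu : ∀ a : Γ(S, V), IsUnit (QC70.resO S (S.basicOpen_le a) a) := fun a =>
    S.toRingedSpace.isUnit_res_basicOpen a
  have L : BasisLoc (quotPre ψ) (fun a : Γ(S, V) => S.basicOpen a) := by
    refine ⟨fun a b h c s => ?_, fun U x hx h1 => ?_, fun a b => Scheme.basicOpen_mul _ _ _,
      fun a => (hV.basicOpen a).isCompact, fun a _ _ b h => affineOpen_radical hV a b h,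
      fun a h t ht => ?_, fun a h s => ?_, fun a s hs => ?_, fun a s => ?_⟩
    · obtain ⟨z, rfl⟩ := qmk_surjective ψ _ s
      rw [qmk_smul, res_qmk, res_qmk, qmk_smul]
      refine congrArg (qmk ψ _) ?_
      rw [Scheme.Modules.map_smul, ← QC70.resO_resO (S.basicOpen_le a) h c]
    · obtain ⟨a, ha, hxa⟩ := hV.exists_basicOpen_le (V := U) ⟨x, hx⟩ (h1V.symm ▸ h1)
      exact ⟨a, hxa, ha⟩
    · obtain ⟨z, rfl⟩ := qmk_surjective ψ _ t
      rw [res_qmk, qmk_eq_zero] at ht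
      obtain ⟨k, w, hw⟩ := hker a (QC70.res B h1V.le z) (by
        rw [QC70.res_res]; exact ht)
      refine ⟨k, ?_⟩
      rw [qmk_smul, qmk_eq_zero]
      refine ⟨QC70.res A h1V.ge w, ?_⟩
      rw [QC70.app_res, hw, QC70.res_smul, QC70.res_res, QC70.res_self]
    · obtain ⟨z, rfl⟩ := qmk_surjective ψ _ s
      obtain ⟨k, s₀, t₀, ht₀⟩ := hsurj a z
      refine ⟨k, qmk ψ _ (QC70.res B h1V.ge s₀), ?_⟩
      rw [qmk_smul, res_qmk, ← sub_eq_zero, ← map_sub, qmk_eq_zero]
      refine ⟨t₀, ht₀.trans ?_⟩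
      rw [QC70.resO_pow]
      congr 1
      exact (QC70.res_res h1V.ge h s₀).symm
    · obtain ⟨z, rfl⟩ := qmk_surjective ψ _ s
      rw [qmk_smul, qmk_eq_zero] at hs
      obtain ⟨t, ht⟩ := hs
      rw [qmk_eq_zero]
      refine ⟨(↑((hu a).unit⁻¹) : Γ(S, S.basicOpen a)) • t, ?_⟩
      rw [Scheme.Modules.Hom.app_smul, ht, ← mul_smul, IsUnit.val_inv_mul, one_smul]
    · obtain ⟨z, rfl⟩ := qmk_surjective ψ _ s
      refine ⟨qmk ψ _ ((↑((hu a).unit⁻¹) : Γ(S, S.basicOpen a)) • z), ?_⟩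
      rw [qmk_smul, ← mul_smul, IsUnit.mul_val_inv, one_smul]
  have hbij := L.bijective_app (Coh.toAb (cokernel ψ)) (toCoker ψ) 1
  rw [← h1V] at hbij
  refine ⟨fun c => ?_, fun s => ⟨fun hs => ?_, ?_⟩⟩
  · obtain ⟨y, rfl⟩ := hbij.2 c
    obtain ⟨z, rfl⟩ := qmk_surjective ψ _ y
    exact ⟨z, rfl⟩
  · exact (qmk_eq_zero ψ).1 (hbij.1 ((toCoker_qmk ψ V s).trans (hs.trans (map_zero _).symm)))
  · rintro ⟨t, rfl⟩
    change (ψ ≫ cokernel.π ψ).app V t = 0
    rw [cokernel.condition]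
    rfl

end Groth.Agent.Mum71
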