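import Groth.Agent.Mum71.TensorA
import Groth.Agent.Mum71.BaseChange

/-! Sections of `F' ⊗_B M` on a base change `X'` of `X`, for `F'` the pullback of `F`. -/

set_option autoImplicit false
set_option maxSynthPendingDepth 6
set_option synthInstance.maxHeartbeats 200000
set_option linter.style.haveILetI false
set_option backward.isDefEq.respectTransparency.types false

universe u

noncomputable section

open CategoryTheory CategoryTheory.Limits AlgebraicGeometry TopologicalSpace Opposite TensorProduct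

namespace Groth.Agent.Mum71

open Coh69 CechComp71 QC70 QCPull72 FF71

variable {A : Type u} [CommRing A] {X : Scheme.{u}} [X.Over (Spec (CommRingCat.of A))]
  {B : Type u} [CommRing B] [Algebra A B] {X' : Scheme.{u}} [X'.Over (Spec (CommRingCat.of B))]
  {g : X' ⟶ X}
  (hsq : IsPullback g (X' ↘ Spec (CommRingCat.of B)) (X ↘ Spec (CommRingCat.of A))
    (Spec.map (CommRingCat.ofHom (algebraMap A B))))

include hsq in
theorem isAffineHom_of_sq : IsAffineHom g :=
  (isAffineHom_isStableUnderBaseChange.{u}).of_isPullback hsq.flip inferInstance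

include hsq in
/-- Functions on the preimage of an affine open are a base change. -/
theorem exists_sq_equiv {V : X.Opens} (hV : IsAffineOpen V) :
    letI := (rA A X V).toAlgebra
    ∃ e : Γ(X, V) ⊗[A] B ≃+* Γ(X', g ⁻¹ᵁ V),
      (∀ v, e (v ⊗ₜ 1) = g.app V v) ∧ ∀ b, e (1 ⊗ₜ b) = rA B X' (g ⁻¹ᵁ V) b := by
  letI := (rA A X V).toAlgebra
  let φ : CommRingCat.of A ⟶ CommRingCat.of B := CommRingCat.ofHom (algebraMap A B)
  let s := X ↘ Spec (CommRingCat.of A)
  have hUY : g ⁻¹ᵁ V = g ⁻¹ᵁ V ⊓ (X' ↘ Spec (CommRingCat.of B)) ⁻¹ᵁ ⊤ := by simp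
  have h1 : (⊤ : (Spec (CommRingCat.of B)).Opens) ≤ Spec.map φ ⁻¹ᵁ ⊤ := le_top
  have h2 : V ≤ s ⁻¹ᵁ ⊤ := le_top
  have hpo := (isIso_pushoutSection_iff hsq h1 h2 hUY).1
    (isIso_pushoutSection_of_isAffineOpen hsq h1 h2 hUY (isAffineOpen_top _) (isAffineOpen_top _) hV)
  have hφ : (Spec.map φ).appLE ⊤ ⊤ h1 = (Spec.map φ).appTop :=
    (Scheme.Hom.app_eq_appLE _).symm
  have hpo' : IsPushout (CommRingCat.ofHom (algebraMap A Γ(X, V))) φ
      (g.app V) (CommRingCat.ofHom (rA B X' (g ⁻¹ᵁ V))) := by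
    refine IsPushout.of_iso hpo (Scheme.ΓSpecIso _) (Iso.refl _) (Scheme.ΓSpecIso _) (Iso.refl _)
      ?_ ?_ ?_ ?_
    · rw [Iso.refl_hom, Category.comp_id, show algebraMap A Γ(X, V) = rA A X V from rfl,
        rA_eq_appLE, Iso.hom_inv_id_assoc]
    · rw [hφ]
      exact Scheme.ΓSpecIso_naturality φ
    · simp [Scheme.Hom.app_eq_appLE]
    · rw [Iso.refl_hom, Category.comp_id, rA_eq_appLE, Iso.hom_inv_id_assoc]
  let i := (CommRingCat.isPushout_tensorProduct A Γ(X, V) B).isoIsPushout _ _ hpo'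
  refine ⟨i.commRingCatIsoToRingEquiv, fun v => ?_, fun b => ?_⟩
  · exact congrArg (fun ψ : Γ(X, V) ⟶ _ => ψ v)
      ((CommRingCat.isPushout_tensorProduct A Γ(X, V) B).inl_isoIsPushout_hom _ _ hpo')
  · exact congrArg (fun ψ : CommRingCat.of B ⟶ _ => ψ b)
      ((CommRingCat.isPushout_tensorProduct A Γ(X, V) B).inr_isoIsPushout_hom _ _ hpo')

variable (F : X.Modules) [F.IsQuasicoherent] {V : X.Opens} (hV : IsAffineOpen V) {V' : X'.Opens}
  (hV' : V' = g ⁻¹ᵁ V)

omit [F.IsQuasicoherent] in
include hsq hV in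
lemma sq_appLE_rA (a : A) :
    g.appLE V V' hV'.le (rA A X V a) = rA B X' V' (algebraMap A B a) := by
  subst hV'
  letI := (rA A X V).toAlgebra
  obtain ⟨e, he1, he2⟩ := exists_sq_equiv hsq hV
  rw [← Scheme.Hom.app_eq_appLE, ← he1, ← he2]
  congr 1
  rw [show rA A X V a = a • (1 : Γ(X, V)) by rw [Algebra.smul_def, mul_one]; rfl,
    TensorProduct.smul_tmul, Algebra.smul_def, mul_one]

include hsq hV in
theorem exists_sq_sections :
    ∃ E : B ⊗[A] Γ(F, V) ≃ₗ[B] Γ((Scheme.Modules.pullback g).obj F, V'),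
      ∀ x, E (1 ⊗ₜ x) = unitSec g F hV'.le x := by
  let u : Γ(F, V) →+ Γ((Scheme.Modules.pullback g).obj F, V') :=
    AddMonoidHom.mk' (unitSec g F hV'.le) (LimTop61.unitSec_add g F hV'.le)
  let P : B ⊗[A] Γ(F, V) →+ Γ((Scheme.Modules.pullback g).obj F, V') :=
    TensorProduct.liftAddHom
      (AddMonoidHom.mk' (fun b => (DistribSMul.toAddMonoidHom _ b).comp u)
        fun b b' => AddMonoidHom.ext fun x => add_smul b b' (u x))
      fun a b x => by
        show (a • b) • unitSec g F hV'.le x = b • unitSec g F hV'.le (rA A X V a • x)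
        rw [LimTop61.unitSec_smul, sq_appLE_rA hsq hV hV', Algebra.smul_def, mul_comm, mul_smul]
        rfl
  have hbij : Function.Bijective P := by
    subst hV'
    haveI := isAffineHom_of_sq hsq
    letI := (rA A X V).toAlgebra
    obtain ⟨e, he1, he2⟩ := exists_sq_equiv hsq hV
    letI := (g.appLE V (g ⁻¹ᵁ V) le_rfl).hom.toAlgebra
    haveI : IsScalarTower A Γ(X, V) Γ(F, V) := IsScalarTower.of_algebraMap_smul fun _ _ => rfl
    obtain ⟨E, hE⟩ := LimTop61.exists_baseChange_equiv g F hV (hV.preimage g) (e := le_rfl)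
    let e' : Γ(X, V) ⊗[A] B ≃ₗ[Γ(X, V)] Γ(X', g ⁻¹ᵁ V) :=
      { e with
        map_smul' := fun r x => by
          change e (r • x) = _
          rw [Algebra.smul_def, map_mul, Algebra.TensorProduct.algebraMap_apply,
            Algebra.algebraMap_self_apply, he1]
          rw [Scheme.Hom.app_eq_appLE]
          rfl }
    let Ψ : B ⊗[A] Γ(F, V) ≃+ Γ((Scheme.Modules.pullback g).obj F, g ⁻¹ᵁ V) :=
      ((TensorProduct.comm A B Γ(F, V)).toAddEquiv.trans
        (TensorProduct.AlgebraTensorModule.cancelBaseChange A Γ(X, V) Γ(X, V) Γ(F, V) B).symm.toAddEquiv).trans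
        (((TensorProduct.congr (LinearEquiv.refl _ _) e').trans
          (TensorProduct.comm Γ(X, V) Γ(F, V) Γ(X', g ⁻¹ᵁ V))).toAddEquiv.trans
          E.symm.toAddEquiv)
    have h : ∀ z, P z = Ψ z := fun z => by
      induction z using TensorProduct.induction_on with
      | zero => simp only [map_zero]
      | add x y hx hy => simp only [map_add, hx, hy]
      | tmul b x =>
        show rA B X' (g ⁻¹ᵁ V) b • unitSec g F le_rfl x = _
        apply E.injective
        rw [map_smul, hE]
        show _ = E (E.symm (TensorProduct.comm Γ(X, V) Γ(F, V) Γ(X', g ⁻¹ᵁ V)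
          (TensorProduct.congr (LinearEquiv.refl _ _) e'
            ((TensorProduct.AlgebraTensorModule.cancelBaseChange A Γ(X, V) Γ(X, V) Γ(F, V) B).symm (x ⊗ₜ b)))))
        rw [show (TensorProduct.AlgebraTensorModule.cancelBaseChange A Γ(X, V) Γ(X, V) Γ(F, V) B).symm (x ⊗ₜ b) =
            x ⊗ₜ ((1 : Γ(X, V)) ⊗ₜ b) by rw [LinearEquiv.symm_apply_eq,
              TensorProduct.AlgebraTensorModule.cancelBaseChange_tmul, one_smul],
          LinearEquiv.apply_symm_apply, TensorProduct.congr_tmul, TensorProduct.comm_tmul,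
          LinearEquiv.refl_apply, TensorProduct.smul_tmul', smul_eq_mul, mul_one]
        exact congrArg (fun t => t ⊗ₜ[Γ(X, V)] x) (he2 b).symm
    exact (show ⇑P = Ψ from funext h) ▸ Ψ.bijective
  refine ⟨{ AddEquiv.ofBijective P hbij with map_smul' := fun b z => ?_ }, fun x => ?_⟩
  · show P (b • z) = b • P z
    induction z using TensorProduct.induction_on with
    | zero => simp only [smul_zero, map_zero]
    | add x y hx hy => simp only [smul_add, map_add, hx, hy]
    | tmul b' x => exact (mul_smul b b' (u x))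
  · exact one_smul B (u x)

variable (M : ModuleCat.{u} B)

/-- `x ⊗ m ↦ m ⊗ g^*x`. -/
def sqMap : Γ(F, V) ⊗[A] ((ModuleCat.restrictScalars (algebraMap A B)).obj M) →+
    Γ(tA ((Scheme.Modules.pullback g).obj F) M, V') :=
  TensorProduct.liftAddHom
    (AddMonoidHom.mk'
      (fun x => AddMonoidHom.mk'
        (fun m : M => tMap ((Scheme.Modules.pullback g).obj F) M V' (unitSec g F hV'.le x ⊗ₜ m))
        fun m m' => (congrArg _ (TensorProduct.tmul_add (R := B) (unitSec g F hV'.le x) (m : M) (m' : M))).trans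
          (map_add _ _ _))
      fun x x' => AddMonoidHom.ext fun m => by
        show tMap _ M V' (unitSec g F hV'.le (x + x') ⊗ₜ (m : M)) = _
        rw [LimTop61.unitSec_add, TensorProduct.add_tmul, map_add]
        rfl)
    fun a x m => by
      show tMap _ M V' (unitSec g F hV'.le (rA A X V a • x) ⊗ₜ (m : M)) =
        tMap _ M V' (unitSec g F hV'.le x ⊗ₜ (algebraMap A B a • (m : M)))
      rw [LimTop61.unitSec_smul, sq_appLE_rA hsq hV hV', ← modSec_smul, TensorProduct.smul_tmul]
      rfl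

omit [F.IsQuasicoherent] in
lemma sqMap_tmul (x : Γ(F, V)) (m : M) :
    sqMap hsq F hV hV' M (x ⊗ₜ[A] (m : (ModuleCat.restrictScalars (algebraMap A B)).obj M)) =
      tMap ((Scheme.Modules.pullback g).obj F) M V' (unitSec g F hV'.le x ⊗ₜ m) := rfl

theorem sqMap_bijective : Function.Bijective (sqMap hsq F hV hV' M) := by
  haveI := isAffineHom_of_sq hsq
  haveI : ((Scheme.Modules.pullback g).obj F).IsQuasicoherent := isQuasicoherent_pullback _ _
  obtain ⟨E, hE⟩ := exists_sq_sections hsq F hV hV'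
  letI : Module A M := Module.compHom M (algebraMap A B)
  haveI : IsScalarTower A B M := IsScalarTower.of_algebraMap_smul fun _ _ => rfl
  let Ψ : Γ(F, V) ⊗[A] M ≃+ Γ((Scheme.Modules.pullback g).obj F, V') ⊗[B] M :=
    ((TensorProduct.comm A Γ(F, V) M).toAddEquiv.trans
      (TensorProduct.AlgebraTensorModule.cancelBaseChange A B B M Γ(F, V)).symm.toAddEquiv).trans
      ((TensorProduct.congr (LinearEquiv.refl B M) E).trans
        (TensorProduct.comm B M Γ((Scheme.Modules.pullback g).obj F, V'))).toAddEquiv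
  have hV'' : IsAffineOpen V' := hV' ▸ hV.preimage g
  have h0 : ∀ (x : Γ(F, V)) (m : M),
      Ψ (x ⊗ₜ[A] m) = unitSec g F hV'.le x ⊗ₜ[B] m := fun x m => by
    show TensorProduct.comm B M _ (TensorProduct.congr (LinearEquiv.refl B M) E
      ((TensorProduct.AlgebraTensorModule.cancelBaseChange A B B M Γ(F, V)).symm (m ⊗ₜ x))) = _
    rw [show (TensorProduct.AlgebraTensorModule.cancelBaseChange A B B M Γ(F, V)).symm (m ⊗ₜ x) =
        m ⊗ₜ ((1 : B) ⊗ₜ x) by rw [LinearEquiv.symm_apply_eq,
          TensorProduct.AlgebraTensorModule.cancelBaseChange_tmul, one_smul],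
      TensorProduct.congr_tmul, TensorProduct.comm_tmul, LinearEquiv.refl_apply, hE]
  have h : ∀ z, sqMap hsq F hV hV' M z = tMap ((Scheme.Modules.pullback g).obj F) M V' (Ψ z) := fun z => by
    induction z using TensorProduct.induction_on with
    | zero => rw [map_zero]; exact ((congrArg _ (map_zero Ψ)).trans (map_zero _)).symm
    | add x y hx hy =>
      rw [map_add, hx, hy]
      exact ((congrArg _ (map_add Ψ x y)).trans (map_add _ _ _)).symm
    | tmul x m =>
      exact (sqMap_tmul hsq F hV hV' M x m).trans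
        (congrArg (fun t => tMap ((Scheme.Modules.pullback g).obj F) M V' t) (h0 x m).symm)
  exact (show ⇑(sqMap hsq F hV hV' M) = (fun z => tMap _ M V' (Ψ z)) from funext h) ▸
    (tMap_bijective hV'' ((Scheme.Modules.pullback g).obj F) M).comp Ψ.bijective

end Groth.Agent.Mum71
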