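import Groth.Agent.Mum71.BcCrit
import Groth.Agent.Mum71.SchemeRows

/-! Splittings of the local models: vanishing, local freeness, ranks. -/

set_option autoImplicit false
set_option maxSynthPendingDepth 6
set_option synthInstance.maxHeartbeats 200000
set_option linter.style.haveILetI false
set_option backward.isDefEq.respectTransparency.types false

universe u

noncomputable section

open CategoryTheory CategoryTheory.Limits AlgebraicGeometry TopologicalSpace Opposite TensorProduct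

namespace Groth.Agent.Mum71

open Split (SplitsAt rk)

section Generic

variable {S : Scheme.{u}} {V : S.Opens} (hV : IsAffineOpen V) (Mq : S.Modules) [Mq.IsQuasicoherent]
  {P₀ P Q : Type u} [AddCommGroup P₀] [Module Γ(S, V) P₀] [AddCommGroup P] [Module Γ(S, V) P]
  [AddCommGroup Q] [Module Γ(S, V) Q] {d : P₀ →ₗ[Γ(S, V)] P} {e : P →ₗ[Γ(S, V)] Q} (hde : e ∘ₗ d = 0)
  (u : LinearMap.ker e →ₗ[Γ(S, V)] Γ(Mq, V)) (hu : Function.Surjective u)
  (hu0 : ∀ z, u z = 0 ↔ z.1 ∈ LinearMap.range d)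

include hV hu hu0 in
theorem exists_quotient_equiv (c : Γ(S, V)) :
    letI := (S.presheaf.map (homOfLE (S.basicOpen_le c)).op).hom.toAlgebra
    Nonempty (Γ(S, S.basicOpen c) ⊗[Γ(S, V)] Split.Hom0 d e ≃ₗ[Γ(S, S.basicOpen c)] Γ(Mq, S.basicOpen c)) := by
  letI alg : Algebra Γ(S, V) Γ(S, S.basicOpen c) :=
    (S.presheaf.map (homOfLE (S.basicOpen_le c)).op).hom.toAlgebra
  letI := FlatMor68.LocFree.basicModule Mq c
  haveI : IsScalarTower Γ(S, V) Γ(S, S.basicOpen c) Γ(Mq, S.basicOpen c) :=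
    IsScalarTower.of_algebraMap_smul fun a m => rfl
  haveI : IsLocalization.Away c Γ(S, S.basicOpen c) := hV.isLocalization_basicOpen c
  haveI : IsLocalizedModule.Away c (FlatMor68.LocFree.resLinear Mq c) :=
    FlatMor68.LocFree.isLocalizedModule_res Mq (QC70.isLocAt_of_isQuasicoherent Mq hV) c
  have hb : IsBaseChange Γ(S, S.basicOpen c) (FlatMor68.LocFree.resLinear Mq c) :=
    (isLocalizedModule_iff_isBaseChange (Submonoid.powers c) Γ(S, S.basicOpen c) _).1 inferInstance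
  let ψ : Split.Hom0 d e ≃ₗ[Γ(S, V)] Γ(Mq, V) :=
    (Submodule.quotEquivOfEq _ (LinearMap.ker u) (by
      ext z
      exact (hu0 z).symm)).trans (u.quotKerEquivOfSurjective hu)
  exact ⟨(AlgebraTensorModule.congr (LinearEquiv.refl _ _) ψ).trans hb.equiv⟩

include hV hde hu hu0 in
/-- Split differentials give free neighbourhoods. -/
theorem exists_free_nhd_of_splits [Module.Finite Γ(S, V) P] [Module.Projective Γ(S, V) P] {a : Γ(S, V)}
    (he : SplitsAt e a) (hd : SplitsAt d a) {y : S} (hy : y ∈ S.basicOpen a) :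
    ∃ (U : S.Opens) (n : ℕ), y ∈ U ∧ Nonempty (Mq.restrict U.ι ≅ FlatMod.freeMod (↑U : Scheme.{u}) n) := by
  letI alg : Algebra Γ(S, V) Γ(S, S.basicOpen a) :=
    (S.presheaf.map (homOfLE (S.basicOpen_le a)).op).hom.toAlgebra
  have hua : IsUnit (algebraMap Γ(S, V) Γ(S, S.basicOpen a) a) := RingedSpace.isUnit_res_basicOpen _ a
  obtain ⟨ψ⟩ := exists_quotient_equiv hV Mq u hu hu0 a
  obtain ⟨hp, hf⟩ := Split.projective_of_splitsAt hde Γ(S, S.basicOpen a) he hd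
    (by rw [map_mul]; exact hua.mul hua)
  haveI : Module.Projective Γ(S, S.basicOpen a) Γ(Mq, S.basicOpen a) := Module.Projective.of_equiv' ψ
  haveI : Module.Finite Γ(S, S.basicOpen a) Γ(Mq, S.basicOpen a) := Module.Finite.equiv ψ
  obtain ⟨U, hU, hiso⟩ := exists_free_nhd (hV.basicOpen a) Mq hy
  exact ⟨U, _, hU, hiso⟩

omit [Mq.IsQuasicoherent] in
theorem projective_sections_image [Mq.IsQuasicoherent] {U : S.Opens}
    (h : FlatMod.IsFinLocFree (Mq.restrict U.ι)) {O : U.toScheme.Opens} (hO : IsAffineOpen O) :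
    Module.Projective Γ(S, U.ι ''ᵁ O) Γ(Mq, U.ι ''ᵁ O) := by
  haveI : (Mq.restrict U.ι).IsQuasicoherent :=
    inferInstanceAs ((Scheme.Modules.restrictFunctor U.ι).obj Mq).IsQuasicoherent
  haveI := Props58.LocFree.projective_sections h hO
  let σ : Γ(U.toScheme, O) ≃+* Γ(S, U.ι ''ᵁ O) := (U.ι.appIso O).symm.commRingCatIsoToRingEquiv
  letI := RingHomInvPair.of_ringEquiv σ
  letI := RingHomInvPair.of_ringEquiv σ.symm
  let ψ : Γ(Mq.restrict U.ι, O) ≃ₛₗ[(σ : Γ(U.toScheme, O) →+* Γ(S, U.ι ''ᵁ O))] Γ(Mq, U.ι ''ᵁ O) :=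
    { (Mq.restrictAppIso U.ι O).addCommGroupIsoToAddEquiv with
      map_smul' := fun r x => Scheme.Modules.smul_restrictAppIso_hom_apply U.ι Mq O r x }
  exact Module.Projective.of_equiv ψ

include hV hde hu hu0 in
/-- Local freeness splits the previous differential. -/
theorem exists_splitsAt_of_locFree [Module.Finite Γ(S, V) P₀] [Module.Free Γ(S, V) P₀]
    [Module.Finite Γ(S, V) P] [Module.Free Γ(S, V) P] {a : Γ(S, V)} (he : SplitsAt e a) {y : S}
    (hy : y ∈ S.basicOpen a) {U : S.Opens} (hyU : y ∈ U) (h : FlatMod.IsFinLocFree (Mq.restrict U.ι)) :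
    ∃ b : Γ(S, V), y ∈ S.basicOpen b ∧ SplitsAt d b := by
  obtain ⟨c, hc, hyc⟩ := hV.exists_basicOpen_le (V := U ⊓ S.basicOpen a) ⟨y, ⟨hyU, hy⟩⟩ (S.basicOpen_le a hy)
  letI alg : Algebra Γ(S, V) Γ(S, S.basicOpen c) :=
    (S.presheaf.map (homOfLE (S.basicOpen_le c)).op).hom.toAlgebra
  haveI : IsLocalization.Away c Γ(S, S.basicOpen c) := hV.isLocalization_basicOpen c
  have hua : IsUnit (algebraMap Γ(S, V) Γ(S, S.basicOpen c) a) := by
    rw [show algebraMap Γ(S, V) Γ(S, S.basicOpen c) a = QC70.resO S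
        (show S.basicOpen c ≤ S.basicOpen a from fun _ hx => (hc hx).2) (QC70.resO S (S.basicOpen_le a) a) from
      (QC70.resO_resO _ _ _).symm]
    exact (RingedSpace.isUnit_res_basicOpen _ a).map _
  obtain ⟨ψ⟩ := exists_quotient_equiv hV Mq u hu hu0 c
  have hO : IsAffineOpen (U.ι ⁻¹ᵁ S.basicOpen c) := (hV.basicOpen c).preimage_of_isOpenImmersion U.ι (by
    rw [Scheme.Opens.opensRange_ι]
    exact fun _ hx => (hc hx).1)
  have heq : U.ι ''ᵁ (U.ι ⁻¹ᵁ S.basicOpen c) = S.basicOpen c := by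
    rw [Scheme.Hom.image_preimage_eq_opensRange_inf, Scheme.Opens.opensRange_ι, inf_eq_right]
    exact fun _ hx => (hc hx).1
  haveI : Module.Projective Γ(S, S.basicOpen c) Γ(Mq, S.basicOpen c) := heq ▸ projective_sections_image Mq h hO
  haveI : Module.Projective Γ(S, S.basicOpen c) (Γ(S, S.basicOpen c) ⊗[Γ(S, V)] Split.Hom0 d e) :=
    Module.Projective.of_equiv' ψ.symm
  obtain ⟨m, hm⟩ := Split.exists_splitsAt_of_projective hde Γ(S, S.basicOpen c) he c hua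
  refine ⟨a * c ^ m, ?_, hm⟩
  have hyV := S.basicOpen_le a hy
  rw [← S.evaluation_ne_zero_iff_mem_basicOpen y hyV, map_mul, map_pow]
  exact mul_ne_zero ((S.evaluation_ne_zero_iff_mem_basicOpen y hyV a).2 hy)
    (pow_ne_zero _ ((S.evaluation_ne_zero_iff_mem_basicOpen y hyV c).2 hyc))

/-- Modules with free neighbourhoods around the points of an open are locally free on it. -/
theorem isFinLocFree_restrict_of_nhds (U : S.Opens)
    (h : ∀ x ∈ U, ∃ (W : S.Opens) (n : ℕ), x ∈ W ∧ Nonempty (Mq.restrict W.ι ≅ FlatMod.freeMod (↑W : Scheme.{u}) n)) :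
    FlatMod.IsFinLocFree (Mq.restrict U.ι) := fun x => by
  obtain ⟨W, n, hx, ⟨i⟩⟩ := h (U.ι x) x.2
  refine ⟨U.ι ⁻¹ᵁ W, n, hx, ⟨?_⟩⟩
  exact ((Scheme.Modules.restrictFunctorComp (U.ι ⁻¹ᵁ W).ι U.ι).app Mq).symm ≪≫
    (Scheme.Modules.restrictFunctorCongr (morphismRestrict_ι U.ι W).symm).app Mq ≪≫
    (Scheme.Modules.restrictFunctorComp (U.ι ∣_ W) W.ι).app Mq ≪≫
    (Scheme.Modules.restrictFunctor (U.ι ∣_ W)).mapIso i ≪≫ LF71.restrictFree (U.ι ∣_ W) n

omit [Mq.IsQuasicoherent] in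
/-- Sheaves zero around every point of an open are zero on it. -/
theorem isZero_restrict_of_nhds (U : S.Opens)
    (h : ∀ x ∈ U, ∃ W : S.Opens, x ∈ W ∧ IsZero (Mq.restrict W.ι)) : IsZero (Mq.restrict U.ι) := by
  rw [IsZero.iff_id_eq_zero]
  ext O (s : Γ(Mq.restrict U.ι, O))
  show s = 0
  refine QC70.section_ext (Mq.restrict U.ι) _ _ fun p hp => ?_
  obtain ⟨W, hpW, hz⟩ := h (U.ι p) p.2
  refine ⟨O ⊓ U.ι ⁻¹ᵁ W, inf_le_left, ⟨hp, hpW⟩, ?_⟩
  haveI : Subsingleton Γ(Mq, W.ι ''ᵁ (W.ι ⁻¹ᵁ (U.ι ''ᵁ (O ⊓ U.ι ⁻¹ᵁ W)))) :=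
    subsingleton_of_isZero' (V := W.ι ⁻¹ᵁ (U.ι ''ᵁ (O ⊓ U.ι ⁻¹ᵁ W))) (Mq.restrict W.ι) hz
  have heq : W.ι ''ᵁ (W.ι ⁻¹ᵁ (U.ι ''ᵁ (O ⊓ U.ι ⁻¹ᵁ W))) = U.ι ''ᵁ (O ⊓ U.ι ⁻¹ᵁ W) := by
    rw [Scheme.Hom.image_preimage_eq_opensRange_inf, Scheme.Opens.opensRange_ι, inf_eq_right]
    rintro _ ⟨q, hq, rfl⟩
    exact hq.2
  rw [heq] at this
  exact @Subsingleton.elim Γ(Mq, U.ι ''ᵁ (O ⊓ U.ι ⁻¹ᵁ W)) this _ _

end Generic

section Model

variable {X S : Scheme.{u}} {f : X ⟶ S} {F : X.Modules} {V : S.Opens} (hV : IsAffineOpen V)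
  (M : CohModel f F V)

instance finite_X (i : ℤ) : Module.Finite Γ(S, V) (M.K.X i) := M.finite i

instance free_X (i : ℤ) : Module.Free Γ(S, V) (M.K.X i) := M.free i

lemma d_comp (i j k : ℤ) : (M.K.d j k).hom ∘ₗ (M.K.d i j).hom = 0 := by
  rw [← ModuleCat.hom_comp, M.K.d_comp_d]
  rfl

lemma splitsAt_d_congr {i j i' j' : ℤ} (hi : i = i') (hj : j = j') {a : Γ(S, V)}
    (h : SplitsAt (M.K.d i j).hom a) : SplitsAt (M.K.d i' j').hom a := by
  subst hi hj
  exact h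

/-- Both differentials at `p` split and kill the homology at `a`. -/
def VanishAt (p : ℕ) (a : Γ(S, V)) : Prop :=
  SplitsAt (M.K.d (p : ℤ) ((p : ℤ) + 1)).hom a ∧ SplitsAt (M.K.d ((p : ℤ) - 1) (p : ℤ)).hom a ∧
    ∀ v, (M.K.d (p : ℤ) ((p : ℤ) + 1)).hom v = 0 → a • v ∈ LinearMap.range (M.K.d ((p : ℤ) - 1) (p : ℤ)).hom

include hV in
/-- Vanishing on a fibre. -/
theorem exists_vanishAt (p : ℕ) {y : S} (hy : y ∈ V) (h : Subsingleton (CohIII.fiberH f F y p)) :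
    ∃ a, y ∈ S.basicOpen a ∧ VanishAt M p a := by
  letI : Algebra Γ(S, V) (S.residueField y) := (S.evaluation V y hy).hom.toAlgebra
  obtain ⟨c, -, hc0, -⟩ := M.fibre y hy p
  obtain ⟨a, ha, he, hd, hk⟩ := Split.exists_splitsAt_of_exact_at (d_comp M _ (p : ℤ) _) (S.residueField y)
    fun z hz => (hc0 ⟨z, hz⟩).1 (Subsingleton.elim _ _)
  exact ⟨a, (S.evaluation_ne_zero_iff_mem_basicOpen y hy a).1 ha, he, hd, hk⟩

/-- Vanishing on the fibres over the open. -/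
theorem subsingleton_fiberH_of_vanishAt {p : ℕ} {a : Γ(S, V)} (h : VanishAt M p a) {t : S}
    (ht : t ∈ S.basicOpen a) : Subsingleton (CohIII.fiberH f F t p) := by
  have htV := S.basicOpen_le a ht
  letI : Algebra Γ(S, V) (S.residueField t) := (S.evaluation V t htV).hom.toAlgebra
  have ha : algebraMap Γ(S, V) (S.residueField t) a ≠ 0 :=
    (S.evaluation_ne_zero_iff_mem_basicOpen t htV a).2 ht
  obtain ⟨c, hcs, hc0, -⟩ := M.fibre t htV p
  refine subsingleton_of_forall_eq 0 fun x => ?_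
  obtain ⟨z, rfl⟩ := hcs x
  rw [hc0]
  obtain ⟨w, hw⟩ := Split.mem_range_of_splitsAt (S.residueField t) h.1 (Ne.isUnit ha) z.1 z.2
  rw [← hw]
  clear hw
  induction w with
  | zero => rw [map_zero]; exact Submodule.zero_mem _
  | add w₁ w₂ h₁ h₂ => rw [map_add]; exact Submodule.add_mem _ h₁ h₂
  | tmul b v =>
    obtain ⟨q, hq⟩ := h.2.2 v.1 v.2
    refine ⟨(b * (algebraMap Γ(S, V) (S.residueField t) a)⁻¹) ⊗ₜ q, ?_⟩
    rw [LinearMap.baseChange_tmul, hq, TensorProduct.tmul_smul, TensorProduct.smul_tmul', LinearMap.baseChange_tmul,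
      Algebra.smul_def, mul_left_comm, mul_inv_cancel₀ ha, mul_one]
    rfl

/-- Splitting in degree `-1`. -/
theorem exists_splitsAt_neg_one {y : S} (hy : y ∈ V) :
    ∃ a, y ∈ S.basicOpen a ∧ SplitsAt (M.K.d (-1) 0).hom a := by
  letI : Algebra Γ(S, V) (S.residueField y) := (S.evaluation V y hy).hom.toAlgebra
  obtain ⟨a, ha, he, -, -⟩ := Split.exists_splitsAt_of_exact_at (d_comp M ((-1 : ℤ) - 1) (-1) ((-1) + 1))
    (S.residueField y) fun z hz => M.exact_neg (-1) (by omega) _ z hz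
  exact ⟨a, (S.evaluation_ne_zero_iff_mem_basicOpen y hy a).1 ha, splitsAt_d_congr M rfl (by omega) he⟩

/-- In high degrees the differentials split. -/
theorem exists_splitsAt_large : ∃ N : ℤ, ∀ i, N < i → SplitsAt (M.K.d i (i + 1)).hom (1 : Γ(S, V)) := by
  obtain ⟨N, hN⟩ := M.bdd
  refine ⟨N, fun i hi => ⟨0, LinearMap.ext fun v => ?_⟩⟩
  haveI := hN i hi
  rw [Subsingleton.elim v 0, map_zero, map_zero]

include hV in
theorem good_of_splitsAt {p : ℤ} {a : Γ(S, V)} {y : S} (hy : y ∈ S.basicOpen a)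
    (h : SplitsAt (M.K.d p (p + 1)).hom a) : Good f F p y :=
  ⟨V, hV, M, a, hy, h⟩

end Model

end Groth.Agent.Mum71
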