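import Groth.Agent.Mum71.BcRows
import Groth.Agent.QCqs72.Basic
import Groth.Prelude.Def_CohBC2

/-! Degree zero: direct images and their base change from the local models. -/

set_option autoImplicit false
set_option maxSynthPendingDepth 6
set_option synthInstance.maxHeartbeats 200000
set_option linter.style.haveILetI false
set_option backward.isDefEq.respectTransparency.types false

universe u

noncomputable section

open CategoryTheory CategoryTheory.Limits AlgebraicGeometry TopologicalSpace Opposite TensorProduct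

namespace Groth.Agent.Mum71

open Split (SplitsAt)

variable {X S : Scheme.{u}} {f : X ⟶ S} {F : X.Modules} {V : S.Opens} (hV : IsAffineOpen V)
  (M : CohModel f F V)

/-- Cycles of degree zero as sections of the direct image. -/
def secZero : LinearMap.ker (M.K.d ((0 : ℕ) : ℤ) (((0 : ℕ) : ℤ) + 1)).hom →ₗ[Γ(S, V)]
    Γ((Scheme.Modules.pushforward f).obj F, V) where
  toFun z := (osect F (f ⁻¹ᵁ V)).symm (M.cls 0 z)
  map_add' z z' := by
    rw [map_add, map_add]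
    rfl
  map_smul' a z := by
    refine (osect F (f ⁻¹ᵁ V)).injective (((osect F (f ⁻¹ᵁ V)).apply_symm_apply _).trans
      ((M.cls_smul 0 a z).trans ?_))
    refine Eq.trans ?_ (osect_smul F (f ⁻¹ᵁ V) (f.app V a) _).symm
    rw [AddEquiv.apply_symm_apply]

theorem secZero_surjective : Function.Surjective (secZero M) :=
  (osect F (f ⁻¹ᵁ V)).symm.surjective.comp (M.cls_surjective 0)

theorem secZero_eq_zero_iff (z : LinearMap.ker (M.K.d ((0 : ℕ) : ℤ) (((0 : ℕ) : ℤ) + 1)).hom) :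
    secZero M z = 0 ↔ z.1 ∈ LinearMap.range (M.K.d (((0 : ℕ) : ℤ) - 1) ((0 : ℕ) : ℤ)).hom :=
  (map_eq_zero_iff (osect F (f ⁻¹ᵁ V)).symm (osect F (f ⁻¹ᵁ V)).symm.injective).trans (M.cls_eq_zero 0 z)

lemma bc0Adj_app {X' S' : Scheme.{u}} (g' : X' ⟶ X) (f' : X' ⟶ S') (g : S' ⟶ S) (w : g' ≫ f = f' ≫ g)
    (r : Γ(F, f ⁻¹ᵁ V)) :
    (CohBC.bc0Adj f g f' g' w F).app V r = QCPull72.unitSec g' F (CohCmp.sqLE f g f' g' w V) r := rfl

section Square

variable [F.IsQuasicoherent] {X' S' : Scheme.{u}} {g' : X' ⟶ X} {f' : X' ⟶ S'} {g : S' ⟶ S}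
  (hX : IsPullback g' f' f g) {V' : S'.Opens} (hV' : IsAffineOpen V') (hVV' : V' ≤ g ⁻¹ᵁ V)
  [QuasiCompact f] [QuasiSeparated f]

include hV hV' in
set_option maxHeartbeats 2000000 in
theorem bc0_app_spec :
    letI := (g.appLE V V' hVV').hom.toAlgebra
    (Function.Surjective ((CohBC.bc0 f g f' g' hX.w F).app V') ↔
        Lifts (M.K.d ((0 : ℕ) : ℤ) (((0 : ℕ) : ℤ) + 1)).hom Γ(S', V')) ∧
      ∀ a : Γ(S, V), SplitsAt (M.K.d ((0 : ℕ) : ℤ) (((0 : ℕ) : ℤ) + 1)).hom a → IsUnit (g.appLE V V' hVV' a) →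
        Function.Bijective ((CohBC.bc0 f g f' g' hX.w F).app V') := by
  letI := (g.appLE V V' hVV').hom.toAlgebra
  let R := (Scheme.Modules.pushforward f).obj F
  let G := (Scheme.Modules.pullback g').obj F
  haveI : R.IsQuasicoherent := QCqs72.isQuasicoherent_pushforward F f
  obtain ⟨c, hcs, hc0, hcsm, hcpull⟩ := M.square g' f' g hX V' hV' hVV' 0
  obtain ⟨e, he⟩ := LimTop61.exists_baseChange_equiv g R hV hV' (e := hVV')
  let v : LinearMap.ker ((M.K.d ((0 : ℕ) : ℤ) (((0 : ℕ) : ℤ) + 1)).hom.baseChange Γ(S', V')) →+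
      Γ((Scheme.Modules.pushforward f').obj G, V') :=
    (osect G (f' ⁻¹ᵁ V')).symm.toAddMonoidHom.comp c
  let β : Γ((Scheme.Modules.pullback g).obj R, V') →+ Γ((Scheme.Modules.pushforward f').obj G, V') :=
    AddMonoidHom.mk' (fun x => (CohBC.bc0 f g f' g' hX.w F).app V' x) (map_add _)
  have hβ : ∀ z z', z'.1 = (1 : Γ(S', V')) ⊗ₜ[Γ(S, V)] z.1 →
      β (e.symm ((1 : Γ(S', V')) ⊗ₜ secZero M z)) = v z' := fun z z' h => by
    rw [show e.symm ((1 : Γ(S', V')) ⊗ₜ secZero M z) = QCPull72.unitSec g R hVV' (secZero M z) from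
      e.injective ((e.apply_symm_apply _).trans (he _).symm)]
    refine (osect G (f' ⁻¹ᵁ V')).injective (Eq.trans ?_ ((osect G (f' ⁻¹ᵁ V')).apply_symm_apply (c z')).symm)
    rw [hcpull z z' h, show M.cls 0 z = osect F (f ⁻¹ᵁ V) (secZero M z) from
      ((osect F (f ⁻¹ᵁ V)).apply_symm_apply _).symm]
    refine Eq.trans ?_ (congrArg (ores G (f'.preimage_mono hVV') 0)
      (pullOn_sectH0 g' (f ⁻¹ᵁ V) (f' ⁻¹ᵁ (g ⁻¹ᵁ V)) (CohCmp.sqLE f g f' g' hX.w V) F (secZero M z))).symm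
    refine Eq.trans ?_ (ores_osect G (f'.preimage_mono hVV') _).symm
    refine congrArg (osect G (f' ⁻¹ᵁ V')) ?_
    show (CohBC.bc0 f g f' g' hX.w F).app V' (QCPull72.unitSec g R hVV' (secZero M z)) = _
    rw [QCPull72.unitSec, QC70.app_res, ← bc0Adj_app g' f' g hX.w]
    refine congrArg (QC70.res _ hVV') ?_
    have h1 : (Scheme.Modules.pullbackPushforwardAdjunction g).unit.app R ≫
        (Scheme.Modules.pushforward g).map (CohBC.bc0 f g f' g' hX.w F) = CohBC.bc0Adj f g f' g' hX.w F :=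
      ((Scheme.Modules.pullbackPushforwardAdjunction g).homEquiv_unit _ _ _).symm.trans
        (Equiv.apply_symm_apply _ _)
    exact congr(Scheme.Modules.Hom.app $h1 V (secZero M z))
  have hv : Function.Surjective v := (osect G (f' ⁻¹ᵁ V')).symm.surjective.comp hcs
  have hv0 : ∀ z, v z = 0 ↔
      z.1 ∈ LinearMap.range ((M.K.d (((0 : ℕ) : ℤ) - 1) ((0 : ℕ) : ℤ)).hom.baseChange Γ(S', V')) := fun z =>
    (map_eq_zero_iff (osect G (f' ⁻¹ᵁ V')).symm (osect G (f' ⁻¹ᵁ V')).symm.injective).trans (hc0 z)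
  have hvs : ∀ (b : Γ(S', V')) z, v (b • z) = b • v z := fun b z => by
    refine (osect G (f' ⁻¹ᵁ V')).injective (((osect G (f' ⁻¹ᵁ V')).apply_symm_apply _).trans
      ((hcsm b z).trans ?_))
    refine Eq.trans ?_ (osect_smul G (f' ⁻¹ᵁ V') (f'.app V' b) _).symm
    exact congrArg (fun x => oRes (f' ⁻¹ᵁ V') (f'.app V' b) • x)
      ((osect G (f' ⁻¹ᵁ V')).apply_symm_apply (c z)).symm
  have hβs : ∀ (b : Γ(S', V')) x, β (b • x) = b • β x := fun b x =>
    Scheme.Modules.Hom.app_smul (CohBC.bc0 f g f' g' hX.w F) b x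
  exact ⟨surjective_iff_lifts _ _ (d_comp M _ _ _) (secZero M) (secZero_surjective M) e v hv hv0 hvs β hβs hβ,
    fun a ha hau => bijective_of_splitsAt _ _ (d_comp M _ _ _) (secZero M) (secZero_surjective M)
      (fun z hz => (secZero_eq_zero_iff M z).2 hz) e v hv hv0 hvs β hβs hβ ha hau⟩

end Square

section Rows

variable [F.IsQuasicoherent] [QuasiCompact f] [QuasiSeparated f]

variable (f F) in
theorem isIso_bc0_of_good ⦃X' S' : Scheme.{u}⦄ (g' : X' ⟶ X) (f' : X' ⟶ S') (g : S' ⟶ S)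
    (hX : IsPullback g' f' f g) (h : ∀ z : S', Good f F ((0 : ℕ) : ℤ) (g z)) :
    IsIso (CohBC.bc0 f g f' g' hX.w F) := by
  refine EGAProj74.isIso_of_basis _ {V' | ∃ (V : S.Opens) (hV : IsAffineOpen V) (M : CohModel f F V)
    (a : Γ(S, V)) (_ : IsAffineOpen V'), V' ≤ g ⁻¹ᵁ S.basicOpen a ∧
      SplitsAt (M.K.d ((0 : ℕ) : ℤ) (((0 : ℕ) : ℤ) + 1)).hom a} (fun W z hz => ?_) fun V' hV' => ?_
  · obtain ⟨V, hV, M, a, hza, ha⟩ := h z
    obtain ⟨V', hV', hzV', hle⟩ := exists_isAffineOpen_mem_and_subset (X := S') (x := z)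
      (U := W ⊓ g ⁻¹ᵁ S.basicOpen a) ⟨hz, hza⟩
    exact ⟨V', ⟨V, hV, M, a, hV', fun t ht => (hle ht).2, ha⟩, hzV', fun t ht => (hle ht).1⟩
  · obtain ⟨V, hV, M, a, hV', hle, ha⟩ := hV'
    have hVV' : V' ≤ g ⁻¹ᵁ V := hle.trans (g.preimage_mono (S.basicOpen_le a))
    refine (bc0_app_spec hV M hX hV' hVV').2 a ha ?_
    rw [show g.appLE V V' hVV' a = g.appLE (S.basicOpen a) V' hle
        (S.presheaf.map (homOfLE (S.basicOpen_le a)).op a) from
      (ConcreteCategory.congr_hom (Scheme.Hom.map_appLE g hle (homOfLE (S.basicOpen_le a)).op) a).symm]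
    exact (RingedSpace.isUnit_res_basicOpen _ a).map _

include hV in
theorem exists_splitsAt_of_epi_bc0 {y : S} (hy : y ∈ V)
    (hepi : Epi (CohBC.bc0 f (S.fromSpecResidueField y) (f.fiberToSpecResidueField y) (f.fiberι y)
      (f.fiber_fac y) F)) :
    ∃ a : Γ(S, V), y ∈ S.basicOpen a ∧ SplitsAt (M.K.d ((0 : ℕ) : ℤ) (((0 : ℕ) : ℤ) + 1)).hom a := by
  let g := S.fromSpecResidueField y
  let k := S.residueField y
  have hX : IsPullback (f.fiberι y) (f.fiberToSpecResidueField y) f g := IsPullback.of_hasPullback _ _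
  have hgz : ∀ z : Spec k, g z = y := fun z => S.fromSpecResidueField_apply y z
  haveI : Subsingleton (Spec k) := inferInstanceAs (Subsingleton (PrimeSpectrum k))
  have hVV' : (⊤ : (Spec k).Opens) ≤ g ⁻¹ᵁ V := fun z _ => by
    show g z ∈ V
    rwa [hgz]
  letI algB : Algebra Γ(S, V) Γ(Spec k, ⊤) := (g.appLE V ⊤ hVV').hom.toAlgebra
  letI algk : Algebra Γ(S, V) k := (S.evaluation V y hy).hom.toAlgebra
  have hσ : g.appLE V ⊤ hVV' ≫ (Scheme.ΓSpecIso k).hom = S.evaluation V y hy := by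
    have key : ∀ (g₁ : Spec k ⟶ S), g₁ = Spec.map (S.evaluation V y hy) ≫ hV.fromSpec →
        ∀ (e : (⊤ : (Spec k).Opens) ≤ g₁ ⁻¹ᵁ V),
          g₁.appLE V ⊤ e ≫ (Scheme.ΓSpecIso k).hom = S.evaluation V y hy := by
      rintro g₁ rfl e
      rw [Scheme.Hom.comp_appLE, IsAffineOpen.fromSpec_app_self, Category.assoc, Category.assoc,
        Scheme.Hom.map_appLE_assoc]
      show (Scheme.ΓSpecIso Γ(S, V)).inv ≫ (Spec.map (S.evaluation V y hy)).appLE ⊤ ⊤ le_top ≫ _ = _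
      rw [show (Spec.map (S.evaluation V y hy)).appLE ⊤ ⊤ le_top = (Spec.map (S.evaluation V y hy)).appTop from
        (Scheme.Hom.app_eq_appLE _).symm, Scheme.ΓSpecIso_naturality, Iso.inv_hom_id_assoc]
    refine key g ?_ hVV'
    show S.fromSpecResidueField y = _
    rw [Scheme.fromSpecResidueField, ← hV.fromSpecStalk_eq_fromSpecStalk hy, IsAffineOpen.fromSpecStalk,
      ← Spec.map_comp_assoc]
    rfl
  let σ : Γ(Spec k, ⊤) ≃ₐ[Γ(S, V)] k :=
    AlgEquiv.ofRingEquiv (f := (Scheme.ΓSpecIso k).commRingCatIsoToRingEquiv) fun a =>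
      ConcreteCategory.congr_hom hσ a
  have hl := lifts_congr _ σ ((bc0_app_spec hV M hX (isAffineOpen_top _) hVV').1.1
    ((app_top_surjective_iff _).1 hepi))
  obtain ⟨a, ha, hs⟩ := Split.exists_splitsAt_of_lifts k _ hl
  exact ⟨a, (S.evaluation_ne_zero_iff_mem_basicOpen y hy a).1 ha, hs⟩

include hV in
/-- The direct image is free near points where the differentials split. -/
theorem exists_free_push_nhd {a b : Γ(S, V)}
    (ha : SplitsAt (M.K.d ((0 : ℕ) : ℤ) (((0 : ℕ) : ℤ) + 1)).hom a) (hb : SplitsAt (M.K.d (-1) 0).hom b)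
    {t : S} (hta : t ∈ S.basicOpen a) (htb : t ∈ S.basicOpen b) :
    ∃ (U : S.Opens) (n : ℕ), t ∈ U ∧
      Nonempty (((Scheme.Modules.pushforward f).obj F).restrict U.ι ≅ FlatMod.freeMod (↑U : Scheme.{u}) n) := by
  haveI := QCqs72.isQuasicoherent_pushforward F f
  have hab : t ∈ S.basicOpen (b * a) := by
    rw [Scheme.basicOpen_mul]
    exact ⟨htb, hta⟩
  refine exists_free_nhd_of_splits hV _ (d_comp M _ _ _) (secZero M) (secZero_surjective M)
    (secZero_eq_zero_iff M) (ha.mul b) ?_ hab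
  rw [mul_comm]
  exact splitsAt_d_congr M (by omega) (by omega) (hb.mul a)

include hV in
/-- Splitting at a point gives everything nearby. -/
theorem exists_nhd_zero {y : S} {a : Γ(S, V)} (hya : y ∈ S.basicOpen a)
    (ha : SplitsAt (M.K.d ((0 : ℕ) : ℤ) (((0 : ℕ) : ℤ) + 1)).hom a) :
    ∃ U : S.Opens, y ∈ U ∧ FlatMod.IsFinLocFree (((Scheme.Modules.pushforward f).obj F).restrict U.ι) ∧
      ∀ ⦃X' S' : Scheme.{u}⦄ (g' : X' ⟶ X) (f' : X' ⟶ S') (g : S' ⟶ S) (hX : IsPullback g' f' f g),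
        (∀ z : S', g z ∈ U) → IsIso (CohBC.bc0 f g f' g' hX.w F) := by
  obtain ⟨b, hyb, hb⟩ := exists_splitsAt_neg_one M (S.basicOpen_le a hya)
  haveI := QCqs72.isQuasicoherent_pushforward F f
  exact ⟨S.basicOpen a ⊓ S.basicOpen b, ⟨hya, hyb⟩,
    isFinLocFree_restrict_of_nhds _ _ fun t ht => exists_free_push_nhd hV M ha hb ht.1 ht.2,
    fun X' S' g' f' g hX hg => isIso_bc0_of_good f F g' f' g hX fun z => good_of_splitsAt hV M (hg z).1 ha⟩

end Rows

end Groth.Agent.Mum71
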