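import Groth.Agent.Mum71.Functor

/-! Linearity of the comparison for `H^p(X, F ⊗_A M)`. -/

set_option autoImplicit false
set_option maxSynthPendingDepth 6
set_option synthInstance.maxHeartbeats 200000
set_option linter.style.haveILetI false
set_option backward.isDefEq.respectTransparency.types false

universe u

noncomputable section

open CategoryTheory CategoryTheory.Limits AlgebraicGeometry TopologicalSpace Opposite TensorProduct
open CohIII (T tensorObj)

namespace Groth.Agent.Mum71

open Coh69 CechComp71 QC70 QCPull72 FF71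

variable {A : Type u} [CommRing A] {X : Scheme.{u}} [X.Over (Spec (CommRingCat.of A))]
  {ι : Type u} {U : ι → X.Opens} (F : X.Modules) [F.IsQuasicoherent]
  (hU : ⨆ i, U i = ⊤) (hU' : ∀ (n : ℕ) (i : Fin (n + 1) → ι), IsAffineOpen (cOpen U i))

omit [F.IsQuasicoherent] in
lemma tMap_smul (M : ModuleCat.{u} A) (V : X.Opens) (a : A) (x : Γ(F, V)) (m : M) :
    tMap F M V (x ⊗ₜ (a • m)) = rA A X V a • tMap F M V (x ⊗ₜ m) := by
  rw [tMap_tmul, tMap_tmul, pullElt_smul]
  exact (congrArg (fun t => ((SecTwist.toTensor (pullTilde (X := X) M) F).app (op V)).hom t)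
    (Mod48.tp_smul_left (O := X.sheaf) (M := CohB1.toPMod (pullTilde (X := X) M)) (N := CohB1.toPMod F)
      (X := op V) (rA A X V a) (pullElt M V m) x)).trans
    (map_smul ((SecTwist.toTensor (pullTilde (X := X) M) F).app (op V)).hom _ _)

variable [Finite ι]

lemma tCoef_Φ_smul (M : ModuleCat.{u} A) (p : ℕ) (a : A) (x : Ch U F p ⊗[A] M) :
    (tCoef F hU' M).Φ p (a • x) = smulC (A := A) U (tA F M) p a ((tCoef F hU' M).Φ p x) := by
  induction x using TensorProduct.induction_on with
  | zero => simp only [smul_zero, map_zero]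
  | add x y hx hy => simp only [smul_add, map_add, hx, hy]
  | tmul c m =>
    funext i
    rw [← TensorProduct.tmul_smul, Coef.Φ_tmul, smulC_apply, Coef.Φ_tmul]
    exact tMap_smul F M (cOpen U i) a (c i) m

variable {L : CochainComplex (ModuleCat.{u} A) ℤ} {φ : L ⟶ chCx A U F}
  (hφ : ∀ M : ModuleCat.{u} A, QuasiIso
    (((MonoidalCategory.tensorRight M).mapHomologicalComplex (ComplexShape.up ℤ)).map φ))

include hφ hU hU' in
/-- The comparison is linear and natural. -/
theorem exists_linearEquiv_natural (p : ℕ) :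
    ∃ e : ∀ M : ModuleCat.{u} A, T L (p : ℤ) M ≃ₗ[A] Coh.HH X ((CohIII.tensorAFunctor A F).obj M) p,
      ∀ (M M' : ModuleCat.{u} A) (g : M ⟶ M') (t : T L (p : ℤ) M),
        e M' ((CohIII.TFun L (p : ℤ)).map g t) =
          ((CohIII.tensorAFunctor A F ⋙ CohIII.HAb X p).map g).hom (e M t) := by
  choose e he using fun M : ModuleCat.{u} A =>
    (tCoef F hU' M).exists_equiv hU (acyclicOn_tA F hU' M) p
  haveI : ∀ M, IsIso (HomologicalComplex.homologyMap (φM (F := F) (φ := φ) M) (p : ℤ)) := fun M =>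
    (quasiIsoAt_iff_isIso_homologyMap _ _).1 ((hφ M).quasiIsoAt _)
  let e' : ∀ M : ModuleCat.{u} A, T (chCx A U F) (p : ℤ) M ≃ₗ[A] Coh.HH X (tA F M) p := fun M =>
    { e M with
      map_smul' := fun a t => by
        obtain ⟨z, rfl⟩ := FCx40.hcls_surjective (CochainComplex.next ℤ (p : ℤ)) t
        change e M (a • _) = a • e M _
        rw [← map_smul, he, he]
        show toHH U hU _ p _ = a • toHH U hU _ p _
        rw [← FF71.toHH_smulZ]
        congr 1
        exact Subtype.ext ((tCoef_Φ_smul F hU' M p a z.1).trans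
          (smulZ_val U (tA F M) p a ((tCoef F hU' M).cyc p z)).symm) }
  refine ⟨fun M => (asIso (HomologicalComplex.homologyMap (φM (F := F) (φ := φ) M) (p : ℤ))).toLinearEquiv.trans (e' M),
    fun M M' g t => ?_⟩
  obtain ⟨z, rfl⟩ := FCx40.hcls_surjective (K := tensorObj L M) (CochainComplex.next ℤ (p : ℤ)) t
  show e M' ((HomologicalComplex.homologyMap (φM (F := F) (φ := φ) M') (p : ℤ)).hom
      ((HomologicalComplex.homologyMap (CohIII.tensorMap L g) (p : ℤ)).hom
        (FCx40.hcls (tensorObj L M) (p : ℤ) ((p : ℤ) + 1) (CochainComplex.next ℤ (p : ℤ)) z))) =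
    Sheaf.H.map ((SheafOfModules.toSheaf X.ringCatSheaf).map ((CohIII.tensorAFunctor A F).map g)) p
      (e M ((HomologicalComplex.homologyMap (φM (F := F) (φ := φ) M) (p : ℤ)).hom
        (FCx40.hcls (tensorObj L M) (p : ℤ) ((p : ℤ) + 1) (CochainComplex.next ℤ (p : ℤ)) z)))
  rw [FCx40.hcls_map, FCx40.hcls_map, FCx40.hcls_map, he, he]
  refine Eq.trans ?_ (toHH_natural U hU _ p _)
  refine congrArg (toHH U hU (tA F M') p) (Subtype.ext (funext fun i => ?_))
  refine Eq.trans ?_ (tCoef_Φ_natural F hU' g p ((φ.f (p : ℤ)).hom.rTensor M z.1) i).symm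
  exact congrArg (fun t => (tCoef F hU' M').Φ p t i)
    (FCx40.comm_rTensor_lTensor (φ.f (p : ℤ)).hom g.hom z.1)

include hφ hU hU' in
/-- `H^p(X, F ⊗_A M)` is `H^p(L ⊗_A M)` as an `A`-module. -/
theorem nonempty_linearEquiv (M : ModuleCat.{u} A) (p : ℕ) :
    Nonempty (T L (p : ℤ) M ≃ₗ[A] Coh.HH X ((CohIII.tensorAFunctor A F).obj M) p) :=
  let ⟨e, _⟩ := exists_linearEquiv_natural F hU hU' hφ p
  ⟨e M⟩

end Groth.Agent.Mum71
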