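import Groth.Agent.Mum71.TensorA
import Groth.Agent.QCTens72.Basic

/-! `M ↦ H^p(X, F ⊗_A M)` is computed, naturally, by the finite free complex. -/

set_option autoImplicit false
set_option maxSynthPendingDepth 6
set_option synthInstance.maxHeartbeats 200000
set_option linter.style.haveILetI false
set_option backward.isDefEq.respectTransparency.types false

universe u

noncomputable section

open CategoryTheory CategoryTheory.Limits AlgebraicGeometry TopologicalSpace Opposite TensorProduct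
open CohIII (T tensorObj)

namespace Groth.Agent.Mum71

open Coh69 CechComp71 QC70 QCPull72 FF71

variable {A : Type u} [CommRing A] {X : Scheme.{u}} [X.Over (Spec (CommRingCat.of A))]
  {ι : Type u} {U : ι → X.Opens} (F : X.Modules) [F.IsQuasicoherent]
  (hU : ⨆ i, U i = ⊤) (hU' : ∀ (n : ℕ) (i : Fin (n + 1) → ι), IsAffineOpen (cOpen U i))

/-- The comparison for `F ⊗_A M`. -/
def tCoef (M : ModuleCat.{u} A) : Coef (A := A) U F U (tA F M) M where
  θ p i := AddEquiv.ofBijective _ (tMap_bijective (hU' p i) F M)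
  θ_res _ _ _ x m := tMap_res F M _ x m

include hU' in
lemma acyclicOn_tA (M : ModuleCat.{u} A) : AcyclicOn U (Coh.toAb (tA F M)) := by
  haveI : (tildeA M).IsQuasicoherent := inferInstanceAs (tilde (R := CommRingCat.of A) M).IsQuasicoherent
  haveI : (pullTilde (X := X) M).IsQuasicoherent := isQuasicoherent_pullback _ _
  haveI : (tA F M).IsQuasicoherent := QCTens72.isQuasicoherent_tensorMod (pullTilde (X := X) M) F
  exact acyclicOn_of_isAffineOpen _ _ hU'

variable [Finite ι]

lemma tCoef_Φ_natural {M M' : ModuleCat.{u} A} (g : M ⟶ M') (p : ℕ) (x : Ch U F p ⊗[A] M)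
    (i : Fin (p + 1) → ι) :
    ((CohIII.tensorAFunctor A F).map g).app (cOpen U i) ((tCoef F hU' M).Φ p x i) =
      (tCoef F hU' M').Φ p (g.hom.lTensor (Ch U F p) x) i := by
  induction x using TensorProduct.induction_on with
  | zero => simp only [map_zero, Pi.zero_apply]
  | add a b ha hb => simp only [map_add, Pi.add_apply, ha, hb]
  | tmul c m =>
    rw [LinearMap.lTensor_tmul, Coef.Φ_tmul, Coef.Φ_tmul]
    exact tMap_natural F g (cOpen U i) (c i ⊗ₜ m)

variable {L : CochainComplex (ModuleCat.{u} A) ℤ} {φ : L ⟶ chCx A U F}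
  (hφ : ∀ M : ModuleCat.{u} A, QuasiIso
    (((MonoidalCategory.tensorRight M).mapHomologicalComplex (ComplexShape.up ℤ)).map φ))

/-- The map induced by `φ` with coefficients in `M`. -/
abbrev φM (M : ModuleCat.{u} A) : tensorObj L M ⟶ tensorObj (chCx A U F) M :=
  ((MonoidalCategory.tensorRight M).mapHomologicalComplex (ComplexShape.up ℤ)).map φ

include hφ hU hU' in
theorem exists_equiv_natural (p : ℕ) :
    ∃ e : ∀ M : ModuleCat.{u} A, T L (p : ℤ) M ≃+ Coh.HH X (tA F M) p,
      ∀ (M M' : ModuleCat.{u} A) (g : M ⟶ M') (t : T L (p : ℤ) M),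
        e M' ((CohIII.TFun L (p : ℤ)).map g t) =
          ((CohIII.tensorAFunctor A F ⋙ CohIII.HAb X p).map g).hom (e M t) := by
  choose e he using fun M : ModuleCat.{u} A =>
    (tCoef F hU' M).exists_equiv hU (acyclicOn_tA F hU' M) p
  haveI : ∀ M, IsIso (HomologicalComplex.homologyMap (φM (F := F) (φ := φ) M) (p : ℤ)) := fun M =>
    (quasiIsoAt_iff_isIso_homologyMap _ _).1 ((hφ M).quasiIsoAt _)
  refine ⟨fun M => (asIso (HomologicalComplex.homologyMap (φM (F := F) (φ := φ) M) (p : ℤ))).toLinearEquiv.toAddEquiv.trans (e M),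
    fun M M' g t => ?_⟩
  obtain ⟨z, rfl⟩ := FCx40.hcls_surjective (K := tensorObj L M) (CochainComplex.next ℤ (p : ℤ)) t
  show e M' ((HomologicalComplex.homologyMap (φM (F := F) (φ := φ) M') (p : ℤ)).hom
      ((HomologicalComplex.homologyMap (CohIII.tensorMap L g) (p : ℤ)).hom
        (FCx40.hcls (tensorObj L M) (p : ℤ) ((p : ℤ) + 1) (CochainComplex.next ℤ (p : ℤ)) z))) =
    Sheaf.H.map ((SheafOfModules.toSheaf X.ringCatSheaf).map ((CohIII.tensorAFunctor A F).map g)) p
      (e M ((HomologicalComplex.homologyMap (φM (F := F) (φ := φ) M) (p : ℤ)).hom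
        (FCx40.hcls (tensorObj L M) (p : ℤ) ((p : ℤ) + 1) (CochainComplex.next ℤ (p : ℤ)) z)))
  rw [FCx40.hcls_map, FCx40.hcls_map, FCx40.hcls_map, he, he]
  refine Eq.trans ?_ (toHH_natural U hU _ p _)
  refine congrArg (toHH U hU (tA F M') p) (Subtype.ext (funext fun i => ?_))
  refine Eq.trans ?_ (tCoef_Φ_natural F hU' g p ((φ.f (p : ℤ)).hom.rTensor M z.1) i).symm
  exact congrArg (fun t => (tCoef F hU' M').Φ p t i)
    (FCx40.comm_rTensor_lTensor (φ.f (p : ℤ)).hom g.hom z.1)

include hφ hU hU' in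
/-- `M ↦ H^p(X, F ⊗_A M)` is `M ↦ H^p(L ⊗_A M)`. -/
theorem nonempty_natIso (p : ℕ) :
    Nonempty (CohIII.TFun L (p : ℤ) ⋙ forget₂ (ModuleCat.{u} A) AddCommGrpCat.{u} ≅
      CohIII.tensorAFunctor A F ⋙ CohIII.HAb X p) := by
  obtain ⟨e, he⟩ := exists_equiv_natural F hU hU' hφ p
  exact ⟨NatIso.ofComponents (fun M => (e M).toAddCommGrpIso) fun {M M'} g => by
    ext t
    exact he M M' g t⟩

end Groth.Agent.Mum71
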