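import Groth.Agent.Mum71.TensorSec
import Groth.Agent.Mum71.Model
import Groth.Agent.LimTop61.PullBC
import Groth.Agent.LimTop61.PullSec

/-! Sections of `F ⊗_A M` over affine opens, and the natural comparison with the Čech complex. -/

set_option autoImplicit false
set_option maxSynthPendingDepth 6
set_option synthInstance.maxHeartbeats 200000
set_option linter.style.haveILetI false
set_option backward.isDefEq.respectTransparency.types false

universe u

noncomputable section

open CategoryTheory CategoryTheory.Limits AlgebraicGeometry TopologicalSpace Opposite TensorProduct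
open CohIII (T tensorObj)

namespace Groth.Agent.Mum71

open Coh69 CechComp71 QC70 QCPull72 FF71

variable {A : Type u} [CommRing A] {X : Scheme.{u}} [X.Over (Spec (CommRingCat.of A))]

lemma unitSec_natural {Z Y : Scheme.{u}} (f : Y ⟶ Z) {G G' : Z.Modules} (g : G ⟶ G') {U : Z.Opens}
    {W : Y.Opens} (e : W ≤ f ⁻¹ᵁ U) (x : Γ(G, U)) :
    ((Scheme.Modules.pullback f).map g).app W (unitSec f G e x) = unitSec f G' e (g.app U x) := by
  have hn : g ≫ pullUnit f G' = pullUnit f G ≫ (Scheme.Modules.pushforward f).map ((Scheme.Modules.pullback f).map g) :=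
    (Scheme.Modules.pullbackPushforwardAdjunction f).unit.naturality g
  have h : (pullUnit f G').app U (g.app U x) =
      ((Scheme.Modules.pullback f).map g).app (f ⁻¹ᵁ U) ((pullUnit f G).app U x) :=
    congr(Scheme.Modules.Hom.app $hn U x)
  rw [unitSec, unitSec, app_res, h]

/-- The pullback of `tilde M`. -/
abbrev pullTilde (M : ModuleCat.{u} A) : X.Modules :=
  (Scheme.Modules.pullback (X ↘ Spec (CommRingCat.of A))).obj ((tilde.functor (CommRingCat.of A)).obj M)

/-- `tilde M`, with `M` a module over `A`. -/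
abbrev tildeA (M : ModuleCat.{u} A) : (Spec (CommRingCat.of A)).Modules :=
  (tilde.functor (CommRingCat.of A)).obj M

/-- An element as a global section of `tilde M`. -/
def topS (M : ModuleCat.{u} A) : M →+ Γ(tildeA M, ⊤) :=
  (tilde.toOpen (R := CommRingCat.of A) M ⊤).hom.toAddMonoidHom

lemma topS_bijective (M : ModuleCat.{u} A) : Function.Bijective (topS M) :=
  ConcreteCategory.bijective_of_isIso (tilde.isoTop (R := CommRingCat.of A) M).hom

lemma topS_smul (M : ModuleCat.{u} A) (a : A) (m : M) :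
    topS M (a • m) = (Scheme.ΓSpecIso (CommRingCat.of A)).inv a • topS M m := by
  refine ((tilde.toOpen (R := CommRingCat.of A) M ⊤).hom.map_smul a m).trans ?_
  refine (QCTens72.smul_eq_scal (tildeA M) ⊤ a (topS M m)).trans ?_
  refine congrArg (· • topS M m) ?_
  show ((Spec (CommRingCat.of A)).presheaf.map (homOfLE le_top).op)
    ((Scheme.ΓSpecIso (CommRingCat.of A)).inv a) = _
  rw [show (homOfLE (le_top : (⊤ : (Spec (CommRingCat.of A)).Opens) ≤ ⊤)).op = 𝟙 _ from Subsingleton.elim _ _]
  simp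

/-- An element of `M` as a section of the pullback of `tilde M`. -/
def pullElt (M : ModuleCat.{u} A) (V : X.Opens) : M →+ Γ(pullTilde (X := X) M, V) :=
  AddMonoidHom.mk' (fun m => unitSec (X ↘ Spec (CommRingCat.of A)) (tildeA M)
    (U := ⊤) (V := V) le_top (topS M m)) fun m m' => by
      rw [map_add, LimTop61.unitSec_add]

lemma pullElt_smul (M : ModuleCat.{u} A) (V : X.Opens) (a : A) (m : M) :
    pullElt (X := X) M V (a • m) = rA A X V a • pullElt M V m := by
  show unitSec _ _ _ (topS M (a • m)) = _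
  rw [topS_smul, LimTop61.unitSec_smul]
  exact congrArg (· • _) (congrArg (fun φ => φ a) (rA_eq_appLE A X V)).symm

lemma pullElt_natural {M M' : ModuleCat.{u} A} (g : M ⟶ M') (V : X.Opens) (m : M) :
    ((Scheme.Modules.pullback (X ↘ Spec (CommRingCat.of A))).map
      ((tilde.functor (CommRingCat.of A)).map g)).app V (pullElt M V m) = pullElt M' V (g.hom m) := by
  have h1 : topS M' (g.hom m) = ((tilde.functor (CommRingCat.of A)).map g).app ⊤ (topS M m) :=
    congr($((tilde.toOpen_map_app (R := CommRingCat.of A) g ⊤).symm) m)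
  show ((Scheme.Modules.pullback (X ↘ Spec (CommRingCat.of A))).map
      ((tilde.functor (CommRingCat.of A)).map g)).app V
    (unitSec (X ↘ Spec (CommRingCat.of A)) (tildeA M) (U := ⊤) (V := V) le_top (topS M m)) =
    unitSec (X ↘ Spec (CommRingCat.of A)) (tildeA M') (U := ⊤) (V := V) le_top (topS M' (g.hom m))
  rw [h1]
  exact unitSec_natural (X ↘ Spec (CommRingCat.of A)) (G := tildeA M) (G' := tildeA M')
    ((tilde.functor (CommRingCat.of A)).map g) (U := ⊤) (W := V) le_top (topS M m)

lemma res_pullElt (M : ModuleCat.{u} A) {V W : X.Opens} (h : W ≤ V) (m : M) :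
    QC70.res (pullTilde M) h (pullElt M V m) = pullElt M W m :=
  QC70.res_res (M := pullTilde M) (le_top : V ≤ (X ↘ Spec (CommRingCat.of A)) ⁻¹ᵁ ⊤) h _

variable {V : X.Opens} (hV : IsAffineOpen V)

include hV in
/-- Sections of the pullback of `tilde M` are the base change of `M`. -/
theorem exists_pullTilde_equiv (M : ModuleCat.{u} A) :
    letI := (rA A X V).toAlgebra
    ∃ E : Γ(X, V) ⊗[A] M ≃ₗ[Γ(X, V)] Γ(pullTilde (X := X) M, V), ∀ m, E (1 ⊗ₜ m) = pullElt M V m := by
  letI := (rA A X V).toAlgebra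
  let G := tildeA M
  haveI : G.IsQuasicoherent := inferInstanceAs (tilde (R := CommRingCat.of A) M).IsQuasicoherent
  let u : M →ₗ[A] Γ(pullTilde (X := X) M, V) :=
    { toFun := pullElt M V, map_add' := map_add _, map_smul' := pullElt_smul M V }
  haveI : IsScalarTower A Γ(X, V) Γ(pullTilde (X := X) M, V) :=
    IsScalarTower.of_algebraMap_smul fun _ _ => rfl
  let P : Γ(X, V) ⊗[A] M →ₗ[Γ(X, V)] Γ(pullTilde (X := X) M, V) := LinearMap.liftBaseChange Γ(X, V) u
  let S : M ≃+ Γ(G, ⊤) := AddEquiv.ofBijective (topS M) (topS_bijective M)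
  let l : Γ(G, ⊤) →+ Γ(X, V) ⊗[A] M :=
    (TensorProduct.mk A Γ(X, V) M 1).toAddMonoidHom.comp S.symm.toAddMonoidHom
  have hl : ∀ m, l (topS M m) = (1 : Γ(X, V)) ⊗ₜ[A] m := fun m =>
    congrArg ((TensorProduct.mk A Γ(X, V) M 1)) (S.symm_apply_apply m)
  obtain ⟨ψ, hψ⟩ := LimTop61.exists_lift_unitSec (X ↘ Spec (CommRingCat.of A)) G (isAffineOpen_top _) hV
    (le_top : V ≤ (X ↘ Spec (CommRingCat.of A)) ⁻¹ᵁ ⊤) (ModuleCat.of Γ(X, V) (Γ(X, V) ⊗[A] M)) l
    (fun c z => by
      obtain ⟨a, rfl⟩ := (ConcreteCategory.bijective_of_isIso (Scheme.ΓSpecIso (CommRingCat.of A)).inv).2 c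
      obtain ⟨m, rfl⟩ := (topS_bijective M).2 z
      rw [← topS_smul]
      refine (hl _).trans ?_
      have h2 : ((X ↘ Spec (CommRingCat.of A)).appLE ⊤ V le_top)
          ((Scheme.ΓSpecIso (CommRingCat.of A)).inv a) = algebraMap A Γ(X, V) a :=
        (congrArg (fun φ => φ a) (rA_eq_appLE A X V)).symm
      show _ = ((X ↘ Spec (CommRingCat.of A)).appLE ⊤ V le_top)
        ((Scheme.ΓSpecIso (CommRingCat.of A)).inv a) • l (topS M m)
      rw [h2, hl, algebraMap_smul, TensorProduct.tmul_smul])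
  refine ⟨LinearEquiv.ofLinearMap P ψ ?_ ?_, fun m => ?_⟩
  · refine LinearMap.ext_on_range (span_unitSec_eq_top (X ↘ Spec (CommRingCat.of A)) G
      (isAffineOpen_top _) hV le_top) fun z => ?_
    obtain ⟨m, rfl⟩ := (topS_bijective M).2 z
    show P (ψ (unitSec _ G _ (topS M m))) = unitSec _ G _ (topS M m)
    rw [hψ, hl]
    show P ((1 : Γ(X, V)) ⊗ₜ[A] m) = _
    rw [LinearMap.liftBaseChange_tmul, one_smul]
    rfl
  · refine TensorProduct.AlgebraTensorModule.ext fun b m => ?_
    show ψ (P (b ⊗ₜ m)) = b ⊗ₜ m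
    rw [LinearMap.liftBaseChange_tmul, map_smul]
    show b • ψ (unitSec _ G _ (topS M m)) = _
    rw [hψ, hl, TensorProduct.smul_tmul', smul_eq_mul, mul_one]
  · show P (1 ⊗ₜ m) = _
    rw [LinearMap.liftBaseChange_tmul, one_smul]
    rfl

variable (F : X.Modules)

/-- `F ⊗_A M` as the functor takes it. -/
abbrev tA (M : ModuleCat.{u} A) : X.Modules := (CohIII.tensorAFunctor A F).obj M

/-- `x ⊗ m ↦ m ⊗ x`. -/
def tMap (M : ModuleCat.{u} A) (V : X.Opens) : Γ(F, V) ⊗[A] M →+ Γ(tA F M, V) :=
  TensorProduct.liftAddHom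
    { toFun := fun x =>
        { toFun := fun m => SecTwist.tmul (pullTilde M) F V (pullElt M V m) x
          map_zero' := by rw [map_zero]; exact SecTwistTmul.zero_left _ _ _ _
          map_add' := fun m m' => by rw [map_add]; exact SecTwistTmul.add_left _ _ _ _ _ _ }
      map_zero' := AddMonoidHom.ext fun m => SecTwistTmul.zero_right _ _ _ _
      map_add' := fun x x' => AddMonoidHom.ext fun m => SecTwistTmul.add_right _ _ _ _ _ _ }
    fun a x m => by
      show SecTwist.tmul (pullTilde M) F V (pullElt M V m) (rA A X V a • x) =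
        SecTwist.tmul (pullTilde M) F V (pullElt M V (a • m)) x
      rw [pullElt_smul]
      exact SecTwistTmul.smul_comm _ _ _ _ _ _

lemma tMap_tmul (M : ModuleCat.{u} A) (V : X.Opens) (x : Γ(F, V)) (m : M) :
    tMap F M V (x ⊗ₜ m) = SecTwist.tmul (pullTilde M) F V (pullElt M V m) x := rfl

lemma tMap_res (M : ModuleCat.{u} A) {V W : X.Opens} (h : W ≤ V) (x : Γ(F, V)) (m : M) :
    tMap F M W (QC70.res F h x ⊗ₜ m) = QC70.res (tA F M) h (tMap F M V (x ⊗ₜ m)) := by
  rw [tMap_tmul, tMap_tmul, ← res_pullElt M h m]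
  exact (SecTwist.map_tmul (pullTilde M) F (homOfLE h) _ _).symm

lemma tMap_natural {M M' : ModuleCat.{u} A} (g : M ⟶ M') (V : X.Opens) (z : Γ(F, V) ⊗[A] M) :
    ((CohIII.tensorAFunctor A F).map g).app V (tMap F M V z) = tMap F M' V (g.hom.lTensor Γ(F, V) z) := by
  induction z using TensorProduct.induction_on with
  | zero => simp only [map_zero]
  | add a b ha hb => simp only [map_add, ha, hb]
  | tmul x m =>
    rw [LinearMap.lTensor_tmul, tMap_tmul, tMap_tmul, ← pullElt_natural g V m]
    exact tensorRightMod_map_tmul F _ V _ x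

variable [F.IsQuasicoherent]

include hV in
theorem tMap_bijective (M : ModuleCat.{u} A) : Function.Bijective (tMap F M V) := by
  letI := (rA A X V).toAlgebra
  haveI : IsScalarTower A Γ(X, V) Γ(F, V) := IsScalarTower.of_algebraMap_smul fun _ _ => rfl
  haveI : ((tilde.functor (CommRingCat.of A)).obj M).IsQuasicoherent := inferInstanceAs (tilde (R := CommRingCat.of A) M).IsQuasicoherent
  haveI : (pullTilde (X := X) M).IsQuasicoherent := isQuasicoherent_pullback _ _
  obtain ⟨E, hE⟩ := exists_pullTilde_equiv hV M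
  obtain ⟨E', hE'⟩ := exists_tensor_equiv (pullTilde (X := X) M) F hV
  let Ψ : Γ(F, V) ⊗[A] M ≃+ Γ(tA F M, V) :=
    (TensorProduct.AlgebraTensorModule.cancelBaseChange A Γ(X, V) Γ(X, V) Γ(F, V) M).symm.toAddEquiv.trans
      (((TensorProduct.congr (LinearEquiv.refl _ _) E).trans
        (TensorProduct.comm Γ(X, V) Γ(F, V) Γ(pullTilde (X := X) M, V))).toAddEquiv.trans E'.toAddEquiv)
  have h : ∀ z, tMap F M V z = Ψ z := fun z => by
    induction z using TensorProduct.induction_on with
    | zero => simp only [map_zero]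
    | add x y hx hy => simp only [map_add, hx, hy]
    | tmul x m =>
      show _ = E' (TensorProduct.comm Γ(X, V) Γ(F, V) Γ(pullTilde (X := X) M, V)
        (TensorProduct.congr (LinearEquiv.refl _ _) E
          ((TensorProduct.AlgebraTensorModule.cancelBaseChange A Γ(X, V) Γ(X, V) Γ(F, V) M).symm (x ⊗ₜ m))))
      rw [show (TensorProduct.AlgebraTensorModule.cancelBaseChange A Γ(X, V) Γ(X, V) Γ(F, V) M).symm (x ⊗ₜ m) =
          x ⊗ₜ ((1 : Γ(X, V)) ⊗ₜ m) by rw [LinearEquiv.symm_apply_eq,
            TensorProduct.AlgebraTensorModule.cancelBaseChange_tmul, one_smul],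
        TensorProduct.congr_tmul, TensorProduct.comm_tmul, LinearEquiv.refl_apply, hE, hE']
      rfl
  exact (show ⇑(tMap F M V) = Ψ from funext h) ▸ Ψ.bijective

end Groth.Agent.Mum71
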