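import Groth.Agent.Mum71.BcRows
import Mathlib.LinearAlgebra.Dimension.Constructions

/-! Ranks of the fibres from the local models. -/

set_option autoImplicit false
set_option maxSynthPendingDepth 6
set_option synthInstance.maxHeartbeats 200000
set_option linter.style.haveILetI false
set_option backward.isDefEq.respectTransparency.types false

universe u

noncomputable section

open CategoryTheory CategoryTheory.Limits AlgebraicGeometry TopologicalSpace Opposite TensorProduct

namespace Groth.Agent.Mum71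

open Split (SplitsAt rk)

theorem rk_congr {A : Type u} [CommRing A] {P Q : Type u} [AddCommGroup P] [Module A P] [Module.Finite A P]
    [Module.Free A P] [AddCommGroup Q] [Module A Q] [Module.Finite A Q] [Module.Free A Q] (e : P →ₗ[A] Q)
    {K L : Type u} [Field K] [Algebra A K] [Field L] [Algebra A L] (σ : K ≃ₐ[A] L) : rk K e = rk L e := by
  have h : ∀ {K L : Type u} [Field K] [Algebra A K] [Field L] [Algebra A L], (K ≃ₐ[A] L) → rk K e ≤ rk L e := by
    intro K L _ _ _ _ σ
    obtain ⟨r, _, _, v, ψ, a, ha, hr, hψ, -⟩ := Split.exists_dual K e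
    rw [← hr]
    exact Split.le_rk_of_dual L hψ fun h0 => ha (σ.injective (by rw [σ.commutes, h0, map_zero]))
  exact le_antisymm (h σ) (h σ.symm)

variable {X S : Scheme.{u}} {f : X ⟶ S} {F : X.Modules} {V : S.Opens} (M : CohModel f F V)

/-- The rank of a differential at a point. -/
def rkAt (i j : ℤ) {t : S} (ht : t ∈ V) : ℕ :=
  letI := (S.evaluation V t ht).hom.toAlgebra
  rk (S.residueField t) (M.K.d i j).hom

/-- The ranks of the fibres. -/
theorem fiberRank_add (p : ℕ) {t : S} (ht : t ∈ V) :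
    CohIII.fiberRank f F p t + rkAt M ((p : ℤ) - 1) p ht + rkAt M p ((p : ℤ) + 1) ht =
      Module.finrank Γ(S, V) (M.K.X (p : ℤ)) := by
  letI : Algebra Γ(S, V) (S.residueField t) := (S.evaluation V t ht).hom.toAlgebra
  haveI : Nontrivial Γ(S, V) := (algebraMap Γ(S, V) (S.residueField t)).domain_nontrivial
  obtain ⟨c, hcs, hc0, hc⟩ := M.fibre t ht p
  let cL : LinearMap.ker ((M.K.d (p : ℤ) ((p : ℤ) + 1)).hom.baseChange (S.residueField t)) →ₗ[S.residueField t]
      CohIII.fiberH f F t p :=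
    { c with map_smul' := hc }
  have hle : LinearMap.range ((M.K.d ((p : ℤ) - 1) (p : ℤ)).hom.baseChange (S.residueField t)) ≤
      LinearMap.ker ((M.K.d (p : ℤ) ((p : ℤ) + 1)).hom.baseChange (S.residueField t)) := by
    rw [LinearMap.range_le_ker_iff, ← LinearMap.baseChange_comp, d_comp, LinearMap.baseChange_zero]
  have hker : LinearMap.ker cL = (LinearMap.range
      ((M.K.d ((p : ℤ) - 1) (p : ℤ)).hom.baseChange (S.residueField t))).submoduleOf _ := by
    ext z
    exact hc0 z
  have h1 := cL.finrank_range_add_finrank_ker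
  rw [LinearMap.range_eq_top.2 (show Function.Surjective cL from hcs), finrank_top, hker,
    (Submodule.submoduleOfEquivOfLe hle).finrank_eq] at h1
  have h2 := ((M.K.d (p : ℤ) ((p : ℤ) + 1)).hom.baseChange (S.residueField t)).finrank_range_add_finrank_ker
  rw [Module.finrank_baseChange] at h2
  show Module.finrank (S.residueField t) (CohIII.fiberH f F t p) + rk _ _ + rk _ _ = _
  simp only [rk]
  omega

/-- Near a point a rank only increases. -/
theorem exists_le_rkAt (i j : ℤ) {y : S} (hy : y ∈ V) :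
    ∃ (c : Γ(S, V)), y ∈ S.basicOpen c ∧ ∀ t (ht : t ∈ V), t ∈ S.basicOpen c → rkAt M i j hy ≤ rkAt M i j ht := by
  letI : Algebra Γ(S, V) (S.residueField y) := (S.evaluation V y hy).hom.toAlgebra
  obtain ⟨r, _, _, v, ψ, c, hc, hr, hψ, -⟩ := Split.exists_dual (S.residueField y) (M.K.d i j).hom
  refine ⟨c, (S.evaluation_ne_zero_iff_mem_basicOpen y hy c).1 hc, fun t ht htc => ?_⟩
  letI : Algebra Γ(S, V) (S.residueField t) := (S.evaluation V t ht).hom.toAlgebra
  exact hr.symm.trans_le
    (Split.le_rk_of_dual (S.residueField t) hψ ((S.evaluation_ne_zero_iff_mem_basicOpen t ht c).2 htc))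

/-- Where a differential splits its rank is locally constant. -/
theorem exists_rkAt_eq_nhd {i j : ℤ} {a : Γ(S, V)} (ha : SplitsAt (M.K.d i j).hom a) {y : S}
    (hy : y ∈ S.basicOpen a) :
    ∃ W : S.Opens, y ∈ W ∧ ∀ t (ht : t ∈ V), t ∈ W → rkAt M i j ht = rkAt M i j (S.basicOpen_le a hy) := by
  obtain ⟨s, hs⟩ := ha
  let π : M.K.X i →ₗ[Γ(S, V)] M.K.X i := a • LinearMap.id - s ∘ₗ (M.K.d i j).hom
  have hsum : ∀ t (ht : t ∈ V), t ∈ S.basicOpen a →
      letI := (S.evaluation V t ht).hom.toAlgebra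
      rk (S.residueField t) π + rkAt M i j ht = Module.finrank Γ(S, V) (M.K.X i) := by
    intro t ht hta
    letI : Algebra Γ(S, V) (S.residueField t) := (S.evaluation V t ht).hom.toAlgebra
    haveI : Nontrivial Γ(S, V) := (algebraMap Γ(S, V) (S.residueField t)).domain_nontrivial
    have hane : algebraMap Γ(S, V) (S.residueField t) a ≠ 0 :=
      (S.evaluation_ne_zero_iff_mem_basicOpen t ht a).2 hta
    have hr : LinearMap.range (π.baseChange (S.residueField t)) =
        LinearMap.ker ((M.K.d i j).hom.baseChange (S.residueField t)) := by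
      refine le_antisymm ?_ fun z hz => ?_
      · rw [LinearMap.range_le_ker_iff, ← LinearMap.baseChange_comp,
          show (M.K.d i j).hom ∘ₗ π = 0 by
            rw [LinearMap.comp_sub, LinearMap.comp_smul, LinearMap.comp_id, hs, sub_self],
          LinearMap.baseChange_zero]
      · refine ⟨(algebraMap Γ(S, V) (S.residueField t) a)⁻¹ • z, ?_⟩
        rw [LinearMap.map_smul, LinearMap.baseChange_sub, LinearMap.sub_apply, LinearMap.baseChange_smul,
          LinearMap.baseChange_id, LinearMap.baseChange_comp, LinearMap.comp_apply, LinearMap.mem_ker.1 hz,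
          map_zero, sub_zero, LinearMap.smul_apply, LinearMap.id_apply, ← algebraMap_smul (S.residueField t) a z,
          smul_smul, inv_mul_cancel₀ hane, one_smul]
    have h2 := ((M.K.d i j).hom.baseChange (S.residueField t)).finrank_range_add_finrank_ker
    rw [Module.finrank_baseChange, ← hr] at h2
    show rk (S.residueField t) π + rk (S.residueField t) (M.K.d i j).hom = _
    simp only [rk]
    omega
  have hyV := S.basicOpen_le a hy
  letI : Algebra Γ(S, V) (S.residueField y) := (S.evaluation V y hyV).hom.toAlgebra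
  obtain ⟨r, _, _, v, ψ, c, hc, hr, hψ, -⟩ := Split.exists_dual (S.residueField y) π
  obtain ⟨c', hc', hle'⟩ := exists_le_rkAt M i j hyV
  refine ⟨S.basicOpen a ⊓ S.basicOpen c ⊓ S.basicOpen c',
    ⟨⟨hy, (S.evaluation_ne_zero_iff_mem_basicOpen y hyV c).1 hc⟩, hc'⟩, fun t ht htW => ?_⟩
  have hle := hle' t ht htW.2
  have h1 := hsum t ht htW.1.1
  have h2 := hsum y hyV hy
  letI : Algebra Γ(S, V) (S.residueField t) := (S.evaluation V t ht).hom.toAlgebra
  have h3 := hr.symm.trans_le
    (Split.le_rk_of_dual (S.residueField t) hψ ((S.evaluation_ne_zero_iff_mem_basicOpen t ht c).2 htW.1.2))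
  omega

/-- The ranks of the fibres are locally constant where both differentials split. -/
theorem exists_fiberRank_eq_nhd {p : ℕ} {a b : Γ(S, V)} (ha : SplitsAt (M.K.d (p : ℤ) ((p : ℤ) + 1)).hom a)
    (hb : SplitsAt (M.K.d ((p : ℤ) - 1) (p : ℤ)).hom b) {y : S} (hya : y ∈ S.basicOpen a) (hyb : y ∈ S.basicOpen b) :
    ∃ W : S.Opens, y ∈ W ∧ ∀ t ∈ W, CohIII.fiberRank f F p t = CohIII.fiberRank f F p y := by
  obtain ⟨W₁, h1, hW₁⟩ := exists_rkAt_eq_nhd M ha hya
  obtain ⟨W₂, h2, hW₂⟩ := exists_rkAt_eq_nhd M hb hyb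
  refine ⟨W₁ ⊓ W₂ ⊓ V, ⟨⟨h1, h2⟩, S.basicOpen_le a hya⟩, fun t ht => ?_⟩
  have := fiberRank_add M p ht.2
  have := fiberRank_add M p (S.basicOpen_le a hya)
  have := hW₁ t ht.2 ht.1.1
  have := hW₂ t ht.2 ht.1.2
  omega

section Reduced

variable (hV : IsAffineOpen V)

include hV in
theorem rkAt_eq_rk (i j : ℤ) {t : S} (ht : t ∈ V) :
    rkAt M i j ht = rk (hV.primeIdealOf ⟨t, ht⟩).asIdeal.ResidueField (M.K.d i j).hom := by
  let x := hV.primeIdealOf ⟨t, ht⟩
  letI : Algebra Γ(S, V) (S.residueField t) := (S.evaluation V t ht).hom.toAlgebra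
  letI : Algebra Γ(S, V) (S.presheaf.stalk t) := (S.presheaf.germ V t ht).hom.toAlgebra
  haveI : IsLocalization.AtPrime (S.presheaf.stalk t) x.asIdeal := hV.isLocalization_stalk ⟨t, ht⟩
  let ψ : Localization.AtPrime x.asIdeal ≃ₐ[Γ(S, V)] S.presheaf.stalk t :=
    IsLocalization.algEquiv x.asIdeal.primeCompl _ _
  let σ : x.asIdeal.ResidueField ≃ₐ[Γ(S, V)] S.residueField t :=
    AlgEquiv.ofRingEquiv (f := IsLocalRing.ResidueField.mapEquiv ψ.toRingEquiv) fun a =>
      congrArg (IsLocalRing.residue (S.presheaf.stalk t)) (ψ.commutes a)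
  exact (rk_congr _ σ).symm

include hV in
/-- Over a reduced base, locally constant fibre ranks split the differentials. -/
theorem exists_splitsAt_of_fiberRank [IsReduced S] {p : ℕ} (hlc : IsLocallyConstant (CohIII.fiberRank f F p))
    {y : S} (hy : y ∈ V) :
    ∃ a : Γ(S, V), y ∈ S.basicOpen a ∧ SplitsAt (M.K.d (p : ℤ) ((p : ℤ) + 1)).hom a ∧
      SplitsAt (M.K.d ((p : ℤ) - 1) (p : ℤ)).hom a := by
  have h : IsLocallyConstant fun x : PrimeSpectrum Γ(S, V) =>
      rk x.asIdeal.ResidueField (M.K.d (p : ℤ) ((p : ℤ) + 1)).hom +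
        rk x.asIdeal.ResidueField (M.K.d ((p : ℤ) - 1) (p : ℤ)).hom := by
    have e : (fun x : PrimeSpectrum Γ(S, V) => rk x.asIdeal.ResidueField (M.K.d (p : ℤ) ((p : ℤ) + 1)).hom +
        rk x.asIdeal.ResidueField (M.K.d ((p : ℤ) - 1) (p : ℤ)).hom) =
        (fun n => Module.finrank Γ(S, V) (M.K.X (p : ℤ)) - n) ∘
          (CohIII.fiberRank f F p ∘ fun x => hV.fromSpec x) := funext fun x => by
      have hxV := mem_of_fromSpec' hV x
      have h1 := fiberRank_add M p hxV
      rw [rkAt_eq_rk M hV, rkAt_eq_rk M hV, primeIdealOf_fromSpec] at h1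
      simp only [Function.comp_apply]
      omega
    rw [e]
    exact (hlc.comp_continuous hV.fromSpec.continuous).comp _
  obtain ⟨a, hax, he, hd⟩ := Split.exists_splitsAt_of_locallyConstant _ _ h (hV.primeIdealOf ⟨y, hy⟩)
  exact ⟨a, (QC70.mem_basicOpen_iff_primeCompl hV hy a).2 hax, he, hd⟩

end Reduced

end Groth.Agent.Mum71
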