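import Groth.Agent.Mum71.BcCrit
import Groth.Agent.QC70.Sections

/-! The base change map of a fibre and the splitting near the point. -/

set_option autoImplicit false
set_option maxSynthPendingDepth 6
set_option synthInstance.maxHeartbeats 200000
set_option linter.style.haveILetI false
set_option backward.isDefEq.respectTransparency.types false

universe u

noncomputable section

open CategoryTheory CategoryTheory.Limits AlgebraicGeometry TopologicalSpace Opposite TensorProduct

namespace Groth.Agent.Mum71

open Split (SplitsAt)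

theorem lifts_congr {A : Type u} [CommRing A] {P Q : Type u} [AddCommGroup P] [Module A P] [AddCommGroup Q]
    [Module A Q] (e : P →ₗ[A] Q) {B C : Type u} [CommRing B] [Algebra A B] [CommRing C] [Algebra A C]
    (σ : B ≃ₐ[A] C) (h : Lifts e B) : Lifts e C := fun z hz => by
  have hc : ∀ {M N : Type u} [AddCommGroup M] [Module A M] [AddCommGroup N] [Module A N] (φ : M →ₗ[A] N)
      (x : B ⊗[A] M), φ.baseChange C (TensorProduct.congr σ.toLinearEquiv (LinearEquiv.refl A M) x) =
        TensorProduct.congr σ.toLinearEquiv (LinearEquiv.refl A N) (φ.baseChange B x) := fun φ x => by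
    induction x with
    | zero => simp only [map_zero]
    | add x y hx hy => simp only [map_add, hx, hy]
    | tmul b m => rfl
  obtain ⟨w, hw⟩ := h ((TensorProduct.congr σ.toLinearEquiv (LinearEquiv.refl A P)).symm z)
    ((TensorProduct.congr σ.toLinearEquiv (LinearEquiv.refl A Q)).injective (by
      rw [← hc, LinearEquiv.apply_symm_apply, hz, map_zero]))
  exact ⟨TensorProduct.congr σ.toLinearEquiv (LinearEquiv.refl A _) w, by
    rw [hc, hw, LinearEquiv.apply_symm_apply]⟩

/-- On a space with one point, an epimorphism is surjective on global sections. -/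
theorem app_top_surjective_iff {T : Scheme.{u}} [Subsingleton T] {M N : T.Modules} (φ : M ⟶ N) :
    Epi φ ↔ Function.Surjective (φ.app ⊤) := by
  have hV : ∀ {W : T.Opens} {p : T}, p ∈ W → (⊤ : T.Opens) ≤ W := fun hp x _ => by
    rwa [Subsingleton.elim x _]
  constructor
  · intro _ s
    rcases isEmpty_or_nonempty T with hT | ⟨⟨p⟩⟩
    · exact ⟨0, QC70.section_ext N _ _ fun p _ => (hT.false p).elim⟩
    obtain ⟨W, hW, t, hpW, ht⟩ := QC70.exists_local_lift φ s (show p ∈ (⊤ : T.Opens) from trivial)
    refine ⟨QC70.res M (hV hpW) t, ?_⟩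
    rw [QC70.app_res, ht, QC70.res_res, QC70.res_self]
  · intro h
    refine QC70.epi_of_locally_surjective φ fun W s p hp => ?_
    obtain ⟨t, ht⟩ := h (QC70.res N (hV hp) s)
    refine ⟨W, le_rfl, QC70.res M le_top t, hp, ?_⟩
    rw [QC70.app_res, ht, QC70.res_res, QC70.res_self]

variable {X S : Scheme.{u}} (f : X ⟶ S) [HasInjectiveResolutions X.Modules] [QuasiCompact f] [QuasiSeparated f]
  (F : X.Modules) [F.IsQuasicoherent] (y : S) [HasInjectiveResolutions (f.fiber y).Modules]
  {Δ : RDer.DerivedLES (Scheme.Modules.pushforward f)} {E : CohCmp.SectCmp f Δ}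
  {Δy : RDer.DerivedLES (Scheme.Modules.pushforward (f.fiberToSpecResidueField y))}
  {Ey : CohCmp.SectCmp (f.fiberToSpecResidueField y) Δy}
  (By : CohCmp.GenBC f (S.fromSpecResidueField y) (f.fiberToSpecResidueField y) (f.fiberι y) (f.fiber_fac y)
    E Ey)

/-- An epimorphic base change map at a point splits the next differential of every local model near it. -/
theorem exists_splitsAt_of_epi {V : S.Opens} (hV : IsAffineOpen V) (hy : y ∈ V) (M : CohModel f F V) (p : ℕ)
    (hepi : Epi (By.bc p F)) :
    ∃ a : Γ(S, V), y ∈ S.basicOpen a ∧ SplitsAt (M.K.d (p : ℤ) ((p : ℤ) + 1)).hom a := by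
  let g := S.fromSpecResidueField y
  let k := S.residueField y
  have hX : IsPullback (f.fiberι y) (f.fiberToSpecResidueField y) f g := IsPullback.of_hasPullback _ _
  have hgz : ∀ z : Spec k, g z = y := fun z => S.fromSpecResidueField_apply y z
  haveI : Subsingleton (Spec k) := inferInstanceAs (Subsingleton (PrimeSpectrum k))
  have hVV' : (⊤ : (Spec k).Opens) ≤ g ⁻¹ᵁ V := fun z _ => by
    show g z ∈ V
    rwa [hgz]
  haveI : QuasiCompact (f.fiberToSpecResidueField y) :=
    MorphismProperty.of_isPullback (P := @QuasiCompact) hX ‹_›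
  haveI : QuasiSeparated (f.fiberToSpecResidueField y) :=
    MorphismProperty.of_isPullback (P := @QuasiSeparated) hX ‹_›
  letI algB : Algebra Γ(S, V) Γ(Spec k, ⊤) := (g.appLE V ⊤ hVV').hom.toAlgebra
  letI algk : Algebra Γ(S, V) k := (S.evaluation V y hy).hom.toAlgebra
  have hσ : g.appLE V ⊤ hVV' ≫ (Scheme.ΓSpecIso k).hom = S.evaluation V y hy := by
    have key : ∀ (g₁ : Spec k ⟶ S), g₁ = Spec.map (S.evaluation V y hy) ≫ hV.fromSpec →
        ∀ (e : (⊤ : (Spec k).Opens) ≤ g₁ ⁻¹ᵁ V),
          g₁.appLE V ⊤ e ≫ (Scheme.ΓSpecIso k).hom = S.evaluation V y hy := by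
      rintro g₁ rfl e
      rw [Scheme.Hom.comp_appLE, IsAffineOpen.fromSpec_app_self, Category.assoc, Category.assoc,
        Scheme.Hom.map_appLE_assoc]
      show (Scheme.ΓSpecIso Γ(S, V)).inv ≫ (Spec.map (S.evaluation V y hy)).appLE ⊤ ⊤ le_top ≫ _ = _
      rw [show (Spec.map (S.evaluation V y hy)).appLE ⊤ ⊤ le_top = (Spec.map (S.evaluation V y hy)).appTop from
        (Scheme.Hom.app_eq_appLE _).symm, Scheme.ΓSpecIso_naturality, Iso.inv_hom_id_assoc]
    refine key g ?_ hVV'
    show S.fromSpecResidueField y = _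
    rw [Scheme.fromSpecResidueField, ← hV.fromSpecStalk_eq_fromSpecStalk hy, IsAffineOpen.fromSpecStalk,
      ← Spec.map_comp_assoc]
    rfl
  let σ : Γ(Spec k, ⊤) ≃ₐ[Γ(S, V)] k :=
    AlgEquiv.ofRingEquiv (f := (Scheme.ΓSpecIso k).commRingCatIsoToRingEquiv) fun a =>
      ConcreteCategory.congr_hom hσ a
  have hl := lifts_congr _ σ ((bc_app_spec E hV M hX By (isAffineOpen_top _) hVV' p).1.1
    ((app_top_surjective_iff _).1 hepi))
  haveI := M.finite; haveI := M.free
  obtain ⟨a, ha, hs⟩ := Split.exists_splitsAt_of_lifts k _ hl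
  exact ⟨a, (S.evaluation_ne_zero_iff_mem_basicOpen y hy a).1 ha, hs⟩

/-- The base change map at a point is epi exactly when the next differential splits near the point. -/
theorem epi_bc_fiber_iff (hM : ∀ (V : S.Opens), IsAffineOpen V → Nonempty (CohModel f F V)) (p : ℕ) :
    Epi (By.bc p F) ↔ Good f F p y := by
  constructor
  · intro hepi
    obtain ⟨V, hV, hy, -⟩ := exists_isAffineOpen_mem_and_subset (X := S) (x := y) (U := ⊤) trivial
    obtain ⟨M⟩ := hM V hV
    obtain ⟨a, ha, hs⟩ := exists_splitsAt_of_epi f F y By hV hy M p hepi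
    exact ⟨V, hV, M, a, ha, hs⟩
  · intro h
    haveI := isIso_bc_of_good f F E p (f.fiberι y) (f.fiberToSpecResidueField y) (S.fromSpecResidueField y)
      (IsPullback.of_hasPullback _ _) By fun z => by
      rw [Scheme.fromSpecResidueField_apply]
      exact h
    infer_instance

end Groth.Agent.Mum71
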