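import Groth.Agent.Mum71.BcSplit
import Groth.Agent.Mum71.BcFibre
import Groth.Agent.TopCoh49.Noetherian

/-! Higher direct images from the local models. -/

set_option autoImplicit false
set_option maxSynthPendingDepth 6
set_option synthInstance.maxHeartbeats 200000
set_option linter.style.haveILetI false
set_option backward.isDefEq.respectTransparency.types false

universe u

noncomputable section

open CategoryTheory CategoryTheory.Limits AlgebraicGeometry TopologicalSpace Opposite TensorProduct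

namespace Groth.Agent.Mum71

open Split (SplitsAt)

variable {X S : Scheme.{u}} {f : X ⟶ S} [HasInjectiveResolutions X.Modules] [QuasiCompact f]
  [QuasiSeparated f] {F : X.Modules} [F.IsQuasicoherent] {V : S.Opens} (hV : IsAffineOpen V)
  (M : CohModel f F V)

include hV in
/-- Sections of the higher direct image as classes of cycles. -/
theorem exists_secLin (p : ℕ) :
    ∃ u : LinearMap.ker (M.K.d (p : ℤ) ((p : ℤ) + 1)).hom →ₗ[Γ(S, V)] Γ((Coh.Rpush f p).obj F, V),
      Function.Surjective u ∧ ∀ z, u z = 0 ↔ z.1 ∈ LinearMap.range (M.K.d ((p : ℤ) - 1) (p : ℤ)).hom := by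
  obtain ⟨e, he⟩ := exists_rpush_equiv f F hV p
  let u : LinearMap.ker (M.K.d (p : ℤ) ((p : ℤ) + 1)).hom →ₗ[Γ(S, V)] Γ((Coh.Rpush f p).obj F, V) :=
    { toFun := fun z => e.symm (M.cls p z)
      map_add' := fun z z' => by
        rw [map_add]
        exact map_add e.symm _ _
      map_smul' := fun a z => by
        refine e.injective ((e.apply_symm_apply _).trans ((M.cls_smul p a z).trans ?_))
        refine Eq.trans ?_ (he a _).symm
        rw [AddEquiv.apply_symm_apply]
        rfl }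
  refine ⟨u, fun y => ?_, fun z => ?_⟩
  · obtain ⟨z, hz⟩ := M.cls_surjective p (e y)
    exact ⟨z, e.injective ((e.apply_symm_apply _).trans hz)⟩
  · exact (map_eq_zero_iff e.symm e.symm.injective).trans (M.cls_eq_zero p z)

include hV in
/-- Where the homology vanishes, so does the higher direct image. -/
theorem exists_isZero_rpush_nhd {p : ℕ} {a : Γ(S, V)} (h : VanishAt M p a) {t : S} (ht : t ∈ S.basicOpen a) :
    ∃ U : S.Opens, t ∈ U ∧ IsZero (((Coh.Rpush f p).obj F).restrict U.ι) := by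
  haveI := Coh69.isQuasicoherent_rpush f F p
  obtain ⟨u, hu, hu0⟩ := exists_secLin hV M p
  refine exists_isZero_nhd hV _ (S.basicOpen_le a ht) (a := a)
    ((QC70.mem_basicOpen_iff_primeCompl hV (S.basicOpen_le a ht) a).1 ht) fun s => ?_
  obtain ⟨z, rfl⟩ := hu s
  rw [← map_smul, hu0]
  exact h.2.2 z.1 z.2

include hV in
theorem isZero_rpush_restrict {p : ℕ} {a : Γ(S, V)} (h : VanishAt M p a) :
    IsZero (((Coh.Rpush f p).obj F).restrict (S.basicOpen a).ι) :=
  isZero_restrict_of_nhds _ _ fun _ ht => exists_isZero_rpush_nhd hV M h ht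

include hV in
/-- Where both differentials split, the higher direct image is free near the point. -/
theorem exists_free_rpush_nhd {p : ℕ} {a b : Γ(S, V)} (ha : SplitsAt (M.K.d (p : ℤ) ((p : ℤ) + 1)).hom a)
    (hb : SplitsAt (M.K.d ((p : ℤ) - 1) (p : ℤ)).hom b) {t : S} (hta : t ∈ S.basicOpen a) (htb : t ∈ S.basicOpen b) :
    ∃ (U : S.Opens) (n : ℕ),
      t ∈ U ∧ Nonempty (((Coh.Rpush f p).obj F).restrict U.ι ≅ FlatMod.freeMod (↑U : Scheme.{u}) n) := by
  haveI := Coh69.isQuasicoherent_rpush f F p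
  obtain ⟨u, hu, hu0⟩ := exists_secLin hV M p
  have hab : t ∈ S.basicOpen (b * a) := by
    rw [Scheme.basicOpen_mul]
    exact ⟨htb, hta⟩
  refine exists_free_nhd_of_splits hV _ (d_comp M _ _ _) u hu hu0 (ha.mul b) ?_ hab
  rw [mul_comm]
  exact hb.mul a

include hV in
/-- Local freeness of the higher direct image splits the differential below. -/
theorem exists_splitsAt_of_rpush_locFree {p : ℕ} {a : Γ(S, V)}
    (ha : SplitsAt (M.K.d (p : ℤ) ((p : ℤ) + 1)).hom a) {y : S} (hy : y ∈ S.basicOpen a) {U : S.Opens}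
    (hyU : y ∈ U) (h : FlatMod.IsFinLocFree (((Coh.Rpush f p).obj F).restrict U.ι)) :
    ∃ b : Γ(S, V), y ∈ S.basicOpen b ∧ SplitsAt (M.K.d ((p : ℤ) - 1) (p : ℤ)).hom b := by
  haveI := Coh69.isQuasicoherent_rpush f F p
  obtain ⟨u, hu, hu0⟩ := exists_secLin hV M p
  exact exists_splitsAt_of_locFree hV _ (d_comp M _ _ _) u hu hu0 ha hy hyU h

omit [HasInjectiveResolutions X.Modules] [QuasiCompact f] [QuasiSeparated f] [F.IsQuasicoherent] in
theorem isFinLocFree_restrict {N : S.Modules} {U W : S.Opens} (hWU : W ≤ U)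
    (h : ∀ x ∈ U, ∃ (W' : S.Opens) (n : ℕ), x ∈ W' ∧ Nonempty (N.restrict W'.ι ≅ FlatMod.freeMod (↑W' : Scheme.{u}) n))
    [N.IsQuasicoherent] : FlatMod.IsFinLocFree (N.restrict W.ι) :=
  isFinLocFree_restrict_of_nhds N W fun x hx => h x (hWU hx)

omit [HasInjectiveResolutions X.Modules] [QuasiCompact f] [QuasiSeparated f] [F.IsQuasicoherent] in
/-- Sheaves zero around every point are zero. -/
theorem isZero_of_nhds (N : S.Modules) (h : ∀ x : S, ∃ W : S.Opens, x ∈ W ∧ IsZero (N.restrict W.ι)) :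
    IsZero N := by
  rw [IsZero.iff_id_eq_zero]
  ext O (s : Γ(N, O))
  show s = 0
  refine QC70.section_ext N _ _ fun p hp => ?_
  obtain ⟨W, hpW, hz⟩ := h p
  refine ⟨O ⊓ W, inf_le_left, ⟨hp, hpW⟩, ?_⟩
  haveI := subsingleton_of_isZero' (V := W.ι ⁻¹ᵁ (O ⊓ W)) (N.restrict W.ι) hz
  have heq : W.ι ''ᵁ (W.ι ⁻¹ᵁ (O ⊓ W)) = O ⊓ W := by
    rw [Scheme.Hom.image_preimage_eq_opensRange_inf, Scheme.Opens.opensRange_ι, inf_eq_right]
    exact inf_le_right
  have h' : Subsingleton Γ(N, W.ι ''ᵁ (W.ι ⁻¹ᵁ (O ⊓ W))) := this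
  rw [heq] at h'
  exact @Subsingleton.elim Γ(N, O ⊓ W) h' _ _

omit [HasInjectiveResolutions X.Modules] [QuasiCompact f] [QuasiSeparated f] [F.IsQuasicoherent] in
/-- Cohomology of the fibres vanishes above their dimension. -/
theorem subsingleton_fiberH_of_dim [LocallyOfFiniteType f] [QuasiCompact f] (F : X.Modules) (s : S) {d : ℕ}
    (hd : topologicalKrullDim (f.fiber s) ≤ d) {p : ℕ} (hp : d < p) : Subsingleton (CohIII.fiberH f F s p) := by
  haveI : CompactSpace (f.fiber s) :=
    QuasiCompact.compactSpace_of_compactSpace (f.fiberToSpecResidueField s)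
  haveI : IsLocallyNoetherian (f.fiber s) :=
    LocallyOfFiniteType.isLocallyNoetherian (f.fiberToSpecResidueField s)
  haveI : AlgebraicGeometry.IsNoetherian (f.fiber s) := {}
  haveI : NoetherianSpace (f.fiber s).toTopCat := inferInstanceAs (NoetherianSpace (f.fiber s))
  exact TopCoh49.subsingleton_H_of_dim_lt (X := (f.fiber s).toTopCat) hd _ p hp

end Groth.Agent.Mum71
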