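import Groth.Agent.Mum71.PullDelta

/-! Pullback of classes in degree zero, restriction between opens. -/

set_option autoImplicit false
set_option maxSynthPendingDepth 6
set_option linter.style.haveILetI false
set_option backward.isDefEq.respectTransparency.types false

universe u

noncomputable section

open CategoryTheory CategoryTheory.Limits AlgebraicGeometry TopologicalSpace Opposite CategoryTheory.Abelian

namespace Groth.Agent.Mum71

section DegreeZero

variable {X Y Z : Scheme.{u}}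

open QCPull72 (unitSec pullUnit)

lemma pullback_map_unitSec (f : Y ⟶ X) {F G : X.Modules} (φ : F ⟶ G) {U : X.Opens} {V : Y.Opens}
    (e : V ≤ f ⁻¹ᵁ U) (x : Γ(F, U)) :
    ((Scheme.Modules.pullback f).map φ).app V (unitSec f F e x) = unitSec f G e (φ.app U x) := by
  rw [unitSec, unitSec, QC70.app_res]
  refine congrArg (QC70.res _ e) ?_
  exact (congr(Scheme.Modules.Hom.app
    $((Scheme.Modules.pullbackPushforwardAdjunction f).unit.naturality φ) U x)).symm

lemma pullbackComp_unitSec (g : Z ⟶ Y) (f : Y ⟶ X) (G : X.Modules) {U : X.Opens} {V : Y.Opens}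
    {W : Z.Opens} (e₁ : W ≤ g ⁻¹ᵁ V) (e₂ : V ≤ f ⁻¹ᵁ U) (e : W ≤ (g ≫ f) ⁻¹ᵁ U) (x : Γ(G, U)) :
    ((Scheme.Modules.pullbackComp g f).hom.app G).app W
        (unitSec g ((Scheme.Modules.pullback f).obj G) e₁ (unitSec f G e₂ x)) =
      unitSec (g ≫ f) G e x := by
  have h1 : unitSec g ((Scheme.Modules.pullback f).obj G) e₁ (unitSec f G e₂ x) =
      QC70.res _ e (unitSec g ((Scheme.Modules.pullback f).obj G)
        (show (g ≫ f) ⁻¹ᵁ U ≤ g ⁻¹ᵁ (f ⁻¹ᵁ U) from le_rfl) (unitSec f G (le_refl (f ⁻¹ᵁ U)) x)) := by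
    rw [show unitSec f G e₂ x = QC70.res ((Scheme.Modules.pullback f).obj G) e₂
      (unitSec f G (le_refl (f ⁻¹ᵁ U)) x) by rw [unitSec, unitSec, QC70.res_res]]
    exact LimTop61.unitSec_res g _ _ e₁ e₂ e _
  refine (congrArg (((Scheme.Modules.pullbackComp g f).hom.app G).app W) h1).trans ?_
  refine (QC70.app_res ((Scheme.Modules.pullbackComp g f).hom.app G) e _).trans ?_
  refine (congrArg (QC70.res _ e) (LimTop61.pullbackComp_hom_app_unitSec g f G U x)).trans ?_
  exact QC70.res_res _ _ _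

lemma pullbackCongr_unitSec {a b : Y ⟶ X} (h : a = b) (M : X.Modules) {U : X.Opens} {V : Y.Opens}
    (e : V ≤ a ⁻¹ᵁ U) (e' : V ≤ b ⁻¹ᵁ U) (m : Γ(M, U)) :
    ((Scheme.Modules.pullbackCongr h).hom.app M).app V (unitSec a M e m) = unitSec b M e' m := by
  subst h
  rfl

lemma top_le_preimage (U : X.Opens) : (⊤ : U.toScheme.Opens) ≤ U.ι ⁻¹ᵁ U := U.ι_preimage_self.ge

lemma restrictIso_topRestrict (F : X.Modules) (U : X.Opens) (s : Γ(F, U)) :
    ((Scheme.Modules.restrictFunctorIsoPullback U.ι).hom.app F).app ⊤ (topRestrict U F s) =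
      unitSec U.ι F (top_le_preimage U) s := by
  let α := (Scheme.Modules.restrictFunctorIsoPullback U.ι).hom.app F
  let t : Γ(F.restrict U.ι, U.ι ⁻¹ᵁ U) :=
    ((Scheme.Modules.restrictAdjunction U.ι).unit.app F).app U s
  have h : α.app (U.ι ⁻¹ᵁ U) t = (pullUnit U.ι F).app U s :=
    congrArg (fun ψ : F ⟶ (Scheme.Modules.pushforward U.ι).obj ((Scheme.Modules.pullback U.ι).obj F) =>
      Scheme.Modules.Hom.app ψ U s)
      ((Scheme.Modules.restrictAdjunction U.ι).unit_leftAdjointUniq_hom_app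
        (Scheme.Modules.pullbackPushforwardAdjunction U.ι) F)
  have ht : QC70.res (F.restrict U.ι) (top_le_preimage U) t = topRestrict U F s := by
    apply (ConcreteCategory.bijective_of_isIso (F.restrictAppIso U.ι ⊤).hom).injective
    refine Eq.trans ?_ (restrictAppIso_topRestrict U F s).symm
    exact QC70.res_res (M := F) (U.ι.image_preimage_le U) (U.ι.image_mono (top_le_preimage U)) s
  refine (congrArg (α.app ⊤) ht.symm).trans ?_
  refine (QC70.app_res α (top_le_preimage U) t).trans ?_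
  rw [h]
  rfl

lemma equiv₀_sectH0 (F : X.Modules) (U : X.Opens) (s : Γ(F, U)) :
    Sheaf.H.equiv₀ (Coh.toAb (F.restrict U.ι)) (isTerminalTop (α := U.toScheme.Opens))
      (CohPull.sectH0 F U s) = topRestrict U F s :=
  (Sheaf.H.equiv₀ (Coh.toAb (F.restrict U.ι)) (isTerminalTop (α := U.toScheme.Opens))).apply_symm_apply _

lemma sectH0_natural {F G : X.Modules} (φ : F ⟶ G) (U : X.Opens) (s : Γ(F, U)) :
    CohPull.mapH ((Scheme.Modules.restrictFunctor U.ι).map φ) 0 (CohPull.sectH0 F U s) =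
      CohPull.sectH0 G U (φ.app U s) := by
  apply (Sheaf.H.equiv₀ (Coh.toAb (G.restrict U.ι)) (isTerminalTop (α := U.toScheme.Opens))).injective
  rw [equiv₀_sectH0]
  refine (Sheaf.H.equiv₀_naturality (isTerminalTop (α := U.toScheme.Opens))
    ((SheafOfModules.toSheaf U.toScheme.ringCatSheaf).map ((Scheme.Modules.restrictFunctor U.ι).map φ))
    (CohPull.sectH0 F U s)).symm.trans ?_
  rw [equiv₀_sectH0]
  exact topRestrict_app U φ s

lemma sectH0_smul (F : X.Modules) (U : X.Opens) (a : Γ(X, U)) (s : Γ(F, U)) :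
    CohPull.sectH0 F U (a • s) =
      (show Coh.Γtop U.toScheme from Coh69.gRes U a) • CohPull.sectH0 F U s := by
  apply (Sheaf.H.equiv₀ (Coh.toAb (F.restrict U.ι)) (isTerminalTop (α := U.toScheme.Opens))).injective
  rw [equiv₀_sectH0, topRestrict_smul]
  refine Eq.trans ?_ (Sheaf.H.equiv₀_naturality (isTerminalTop (α := U.toScheme.Opens))
    (Coh.smulAb (F.restrict U.ι) (Coh69.gRes U a)) (CohPull.sectH0 F U s))
  rw [equiv₀_sectH0, Coh.smulAb_app]
  congr 1
  change _ = U.toScheme.ringCatSheaf.obj.map _ _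
  rw [show (homOfLE (le_top : (⊤ : U.toScheme.Opens) ≤ ⊤)).op = 𝟙 _ from rfl, CategoryTheory.Functor.map_id]
  rfl

/-- Pullback in degree zero. -/
theorem pullOn_sectH0 (g : Y ⟶ X) (U : X.Opens) (U' : Y.Opens) (h : U' ≤ g ⁻¹ᵁ U) (F : X.Modules)
    (s : Γ(F, U)) :
    CohPull.pullOn g U U' h F 0 (CohPull.sectH0 F U s) =
      CohPull.sectH0 ((Scheme.Modules.pullback g).obj F) U' (unitSec g F h s) := by
  apply (Sheaf.H.equiv₀ (Coh.toAb (((Scheme.Modules.pullback g).obj F).restrict U'.ι))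
    (isTerminalTop (α := U'.toScheme.Opens))).injective
  rw [equiv₀_sectH0]
  refine (Sheaf.H.equiv₀_naturality (isTerminalTop (α := U'.toScheme.Opens))
    ((SheafOfModules.toSheaf U'.toScheme.ringCatSheaf).map (CohPull.pullOnIso g U U' h F).hom)
    _).symm.trans ?_
  rw [CohPull.equiv₀_pullMod, equiv₀_sectH0]
  let r := g.resLE U U' h
  have er : (⊤ : U'.toScheme.Opens) ≤ r ⁻¹ᵁ ⊤ := le_top
  have key : ((CohPull.pullOnIso g U U' h F).hom).app ⊤ (unitSec r (F.restrict U.ι) er (topRestrict U F s)) =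
      topRestrict U' ((Scheme.Modules.pullback g).obj F) (unitSec g F h s) := by
    let α' := (Scheme.Modules.restrictFunctorIsoPullback U'.ι).app ((Scheme.Modules.pullback g).obj F)
    let β := (Scheme.Modules.pullbackComp U'.ι g).app F
    show α'.inv.app ⊤ (β.inv.app ⊤
      (((Scheme.Modules.pullbackCongr (Scheme.Hom.resLE_comp_ι g h)).hom.app F).app ⊤
        (((Scheme.Modules.pullbackComp r U.ι).hom.app F).app ⊤
          (((Scheme.Modules.pullback r).map ((Scheme.Modules.restrictFunctorIsoPullback U.ι).hom.app F)).app ⊤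
            (unitSec r (F.restrict U.ι) er (topRestrict U F s)))))) = _
    rw [pullback_map_unitSec, restrictIso_topRestrict,
      pullbackComp_unitSec r U.ι F er (top_le_preimage U)
        (show (⊤ : U'.toScheme.Opens) ≤ (r ≫ U.ι) ⁻¹ᵁ U from er.trans (r.preimage_mono (top_le_preimage U))),
      pullbackCongr_unitSec _ F _
        (show (⊤ : U'.toScheme.Opens) ≤ (U'.ι ≫ g) ⁻¹ᵁ U from
          (top_le_preimage U').trans (U'.ι.preimage_mono h))]
    have e1 : β.inv.app ⊤ (unitSec (U'.ι ≫ g) F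
        ((top_le_preimage U').trans (U'.ι.preimage_mono h)) s) =
        α'.hom.app ⊤ (topRestrict U' ((Scheme.Modules.pullback g).obj F) (unitSec g F h s)) := by
      rw [show α'.hom = (Scheme.Modules.restrictFunctorIsoPullback U'.ι).hom.app _ from rfl,
        restrictIso_topRestrict, ← pullbackComp_unitSec U'.ι g F (top_le_preimage U') h]
      exact congr(Scheme.Modules.Hom.app $(β.hom_inv_id) ⊤
        (unitSec U'.ι ((Scheme.Modules.pullback g).obj F) (top_le_preimage U') (unitSec g F h s)))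
    rw [e1]
    exact congr(Scheme.Modules.Hom.app $(α'.hom_inv_id) ⊤
      (topRestrict U' ((Scheme.Modules.pullback g).obj F) (unitSec g F h s)))
  refine Eq.trans (congrArg ((CohPull.pullOnIso g U U' h F).hom.app ⊤) ?_) key
  rw [unitSec]
  exact (QC70.res_self (M := (Scheme.Modules.pullback r).obj (F.restrict U.ι)) _).symm

end DegreeZero

section Between

variable {X : Scheme.{u}} {U U' : X.Opens} (h : U' ≤ U)

theorem resLE_natural {F G : X.Modules} (φ : F ⟶ G) (p : ℕ) (x : Coh.HHon X F U p) :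
    CohPull.resLE G h p (CohPull.mapH ((Scheme.Modules.restrictFunctor U.ι).map φ) p x) =
      CohPull.mapH ((Scheme.Modules.restrictFunctor U'.ι).map φ) p (CohPull.resLE F h p x) := by
  show CohPull.mapH _ p (CohPull.pullOn _ U U' _ G p _) = CohPull.mapH _ p (CohPull.mapH _ p _)
  rw [pullOn_natural]
  refine (mapH_comp _ _ p _).symm.trans (Eq.trans ?_ (mapH_comp _ _ p _))
  rw [← Functor.map_comp, ← Functor.map_comp]
  congr 2
  exact congrArg (Scheme.Modules.restrictFunctor U'.ι).map ((Scheme.Modules.pullbackId X).hom.naturality φ)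

theorem resLE_extδ (S : ShortComplex X.Modules) (hS : S.ShortExact) (p : ℕ)
    (x : Coh.HHon X S.X₃ U p) :
    CohPull.resLE S.X₁ h (p + 1) (CohCmp.extδ (toAbOn_shortExact X U hS) p x) =
      CohCmp.extδ (toAbOn_shortExact X U' hS) p (CohPull.resLE S.X₃ h p x) := by
  let e : S.map (Scheme.Modules.pullback (𝟙 X)) ≅ S :=
    ShortComplex.mapNatIso S (Scheme.Modules.pullbackId X)
  have hS' : (S.map (Scheme.Modules.pullback (𝟙 X))).ShortExact := ShortComplex.shortExact_of_iso e.symm hS
  show Sheaf.H.map _ (p + 1) (CohPull.pullOn _ U U' _ S.X₁ (p + 1) _) = _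
  rw [pullOn_extδ U (𝟙 X) U' _ S (toAbOn_shortExact X U hS) (toAbOn_shortExact X U' hS') p x]
  exact extδ_natural (toAbOn_shortExact X U' hS') (toAbOn_shortExact X U' hS)
    ((CohCmp.toAbOn X U').mapShortComplex.map e.hom) p _

theorem resLE_sectH0 (F : X.Modules) (s : Γ(F, U)) :
    CohPull.resLE F h 0 (CohPull.sectH0 F U s) = CohPull.sectH0 F U' (QC70.res F h s) := by
  show CohPull.mapH _ 0 (CohPull.pullOn _ U U' _ F 0 _) = _
  rw [pullOn_sectH0]
  refine (sectH0_natural _ _ _).trans (congrArg _ ?_)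
  rw [QCPull72.unitSec, QC70.app_res]
  refine congrArg (QC70.res F h) ?_
  have h1 := unit_conjugateEquiv Adjunction.id (Scheme.Modules.pullbackPushforwardAdjunction (𝟙 X))
    (Scheme.Modules.pullbackId X).hom F
  rw [Scheme.Modules.conjugateEquiv_pullbackId_hom] at h1
  exact (congr(Scheme.Modules.Hom.app $h1 U s)).symm

end Between

end Groth.Agent.Mum71
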