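import Groth.Agent.Mum71.PullDegZero

/-! Wrappers for cohomology classes over opens, kept cheap for the kernel. -/

set_option autoImplicit false
set_option maxSynthPendingDepth 6
set_option linter.style.haveILetI false
set_option backward.isDefEq.respectTransparency.types false

universe u

noncomputable section

open CategoryTheory CategoryTheory.Limits AlgebraicGeometry TopologicalSpace Opposite

namespace Groth.Agent.Mum71

open Coh69

/-- The group structure on cohomology, as a constant. -/
@[instance_reducible] def addCommGroupHH (X : Scheme.{u}) (M : X.Modules) (p : ℕ) :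
    AddCommGroup (Coh.HH X M p) := inferInstance

/-- The module structure on cohomology, as a constant. -/
@[instance_reducible] def moduleHH (X : Scheme.{u}) (M : X.Modules) (p : ℕ) :
    @Module (Coh.Γtop X) (Coh.HH X M p) _ (addCommGroupHH X M p).toAddCommMonoid := Coh.moduleΓtop M p

attribute [scoped instance 20000] addCommGroupHH moduleHH

/-- The group structure on cohomology over an open, as a constant. -/
@[instance_reducible] def addCommGroupHHon (X : Scheme.{u}) (M : X.Modules) (U : X.Opens) (p : ℕ) :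
    AddCommGroup (Coh.HHon X M U p) := addCommGroupHH U.toScheme (M.restrict U.ι) p

/-- The module structure on cohomology over an open, as a constant. -/
@[instance_reducible] def moduleHHon (X : Scheme.{u}) (M : X.Modules) (U : X.Opens) (p : ℕ) :
    @Module (Coh.Γtop U.toScheme) (Coh.HHon X M U p) _ (addCommGroupHHon X M U p).toAddCommMonoid :=
  moduleHH U.toScheme (M.restrict U.ι) p

attribute [scoped instance 30000] addCommGroupHHon moduleHHon

variable {X : Scheme.{u}}

/-- Functoriality of cohomology. -/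
def hmap {M N : X.Modules} (φ : M ⟶ N) (p : ℕ) : Coh.HH X M p →+ Coh.HH X N p := CohPull.mapH φ p

/-- Functoriality of cohomology over an open. -/
def omap {F G : X.Modules} (W : X.Opens) (φ : F ⟶ G) (p : ℕ) : Coh.HHon X F W p →+ Coh.HHon X G W p :=
  CohPull.mapH ((Scheme.Modules.restrictFunctor W.ι).map φ) p

/-- The scalar of a function on an open. -/
def oRes (W : X.Opens) (a : Γ(X, W)) : Coh.Γtop W.toScheme := gRes W a

/-- Sections as classes of degree zero. -/
def osect (F : X.Modules) (W : X.Opens) : Γ(F, W) ≃+ Coh.HHon X F W 0 := CohPull.sectH0 F W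

/-- The connecting map. -/
def odlt {T : ShortComplex X.Modules} (hT : T.ShortExact) (W : X.Opens) (p : ℕ) :
    Coh.HHon X T.X₃ W p →+ Coh.HHon X T.X₁ W (p + 1) :=
  CohCmp.extδ (toAbOn_shortExact X W hT) p

/-- Restriction of classes. -/
def ores (F : X.Modules) {W W' : X.Opens} (h : W' ≤ W) (p : ℕ) : Coh.HHon X F W p →+ Coh.HHon X F W' p :=
  CohPull.resLE F h p

lemma osect_natural {F G : X.Modules} (φ : F ⟶ G) (W : X.Opens) (s : Γ(F, W)) :
    omap W φ 0 (osect F W s) = osect G W (φ.app W s) :=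
  sectH0_natural φ W s

lemma osect_smul (F : X.Modules) (W : X.Opens) (a : Γ(X, W)) (s : Γ(F, W)) :
    osect F W (a • s) = oRes W a • osect F W s :=
  sectH0_smul F W a s

lemma ores_osect (F : X.Modules) {W W' : X.Opens} (h : W' ≤ W) (s : Γ(F, W)) :
    ores F h 0 (osect F W s) = osect F W' (QC70.res F h s) :=
  resLE_sectH0 h F s

lemma ores_natural {F G : X.Modules} (φ : F ⟶ G) {W W' : X.Opens} (h : W' ≤ W) (p : ℕ)
    (x : Coh.HHon X F W p) : ores G h p (omap W φ p x) = omap W' φ p (ores F h p x) :=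
  resLE_natural h φ p x

lemma ores_odlt {T : ShortComplex X.Modules} (hT : T.ShortExact) {W W' : X.Opens} (h : W' ≤ W) (p : ℕ)
    (x : Coh.HHon X T.X₃ W p) :
    ores T.X₁ h (p + 1) (odlt hT W p x) = odlt hT W' p (ores T.X₃ h p x) :=
  resLE_extδ h T hT p x

lemma odlt_omap_g {T : ShortComplex X.Modules} (hT : T.ShortExact) (W : X.Opens) (p : ℕ)
    (x : Coh.HHon X T.X₂ W p) : odlt hT W p (omap W T.g p x) = 0 :=
  extδ_map_g (toAbOn_shortExact X W hT) p x

lemma odlt_smul {T : ShortComplex X.Modules} (hT : T.ShortExact) (W : X.Opens) (p : ℕ)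
    (r : Coh.Γtop W.toScheme) (x : Coh.HHon X T.X₃ W p) :
    odlt hT W p (r • x) = r • odlt hT W p x := by
  let φ : T.map (CohCmp.toAbOn X W) ⟶ T.map (CohCmp.toAbOn X W) :=
    ShortComplex.homMk (Coh.smulAb _ r) (Coh.smulAb _ r) (Coh.smulAb _ r)
      (smulAb_natural ((Scheme.Modules.restrictFunctor W.ι).map T.f) r)
      (smulAb_natural ((Scheme.Modules.restrictFunctor W.ι).map T.g) r)
  exact (extδ_natural (toAbOn_shortExact X W hT) (toAbOn_shortExact X W hT) φ p x).symm

lemma isFlasque_of_injective (I : X.Modules) [Injective I] :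
    TopCat.Sheaf.IsFlasque (show TopCat.Sheaf AddCommGrpCat.{u} X.carrier from Coh.toAb I) :=
  ⟨fun i => (AddCommGrpCat.epi_iff_surjective _).2
    (QC70.restriction_surjective_of_injective I (leOfHom i.unop))⟩

lemma odlt_surjective {T : ShortComplex X.Modules} (hT : T.ShortExact) [Injective T.X₂] (W : X.Opens) (p : ℕ) :
    Function.Surjective (odlt hT W p) :=
  extδ_surjective (toAbOn_shortExact X W hT) p
    (@TopCoh49.subsingleton_H_of_isFlasque W.toScheme.toTopCat p _
      (@restrSh_isFlasque _ _ _ W.ι.isOpenEmbedding (Coh.toAb T.X₂) (isFlasque_of_injective T.X₂)))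

lemma omap_bijective {F G : X.Modules} (e : F ≅ G) (W : X.Opens) (p : ℕ) :
    Function.Bijective (omap W e.hom p) :=
  ConcreteCategory.bijective_of_isIso
    ((SheafOfModules.toSheaf W.toScheme.ringCatSheaf ⋙
      Sheaf.functorH (Opens.grothendieckTopology W.toScheme) p).mapIso
        ((Scheme.Modules.restrictFunctor W.ι).mapIso e)).hom

lemma omap_smul {F G : X.Modules} (W : X.Opens) (φ : F ⟶ G) (p : ℕ) (r : Coh.Γtop W.toScheme)
    (x : Coh.HHon X F W p) : omap W φ p (r • x) = r • omap W φ p x := by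
  show Sheaf.H.map _ p (Sheaf.H.map (Coh.smulAb _ r) p x) =
    Sheaf.H.map (Coh.smulAb _ r) p (Sheaf.H.map _ p x)
  rw [← Sheaf.H.map_comp_apply, ← Sheaf.H.map_comp_apply, smulAb_natural]

section Eps

variable {S : Scheme.{u}} (f : X ⟶ S) [HasInjectiveResolutions X.Modules]
  {Δ : RDer.DerivedLES (Scheme.Modules.pushforward f)} (E : CohCmp.SectCmp f Δ)

/-- The comparison map. -/
def oeps (V : S.Opens) (F : X.Modules) (p : ℕ) :
    Coh.HHon X F (f ⁻¹ᵁ V) p →+ Γ((Coh.Rpush f p).obj F, V) :=
  E.ε V F p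

lemma oeps_zero (V : S.Opens) (F : X.Modules) (s : Γ(F, f ⁻¹ᵁ V)) :
    oeps f E V F 0 (osect F (f ⁻¹ᵁ V) s) =
      ((Scheme.Modules.pushforward f).toRightDerivedZero.app F).app V s :=
  E.zero V F s

lemma oeps_natural (V : S.Opens) {F G : X.Modules} (ψ : F ⟶ G) (p : ℕ) (x : Coh.HHon X F (f ⁻¹ᵁ V) p) :
    oeps f E V G p (omap (f ⁻¹ᵁ V) ψ p x) = ((Coh.Rpush f p).map ψ).app V (oeps f E V F p x) :=
  E.natural V ψ p x

lemma oeps_delta (V : S.Opens) (T : ShortComplex X.Modules) (hT : T.ShortExact) (p : ℕ)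
    (x : Coh.HHon X T.X₃ (f ⁻¹ᵁ V) p) :
    oeps f E V T.X₁ (p + 1) (odlt hT (f ⁻¹ᵁ V) p x) =
      (Δ.δ T hT p (p + 1) rfl).app V (oeps f E V T.X₃ p x) :=
  E.delta V T hT (toAbOn_shortExact X (f ⁻¹ᵁ V) hT) p x

end Eps

end Groth.Agent.Mum71
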