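import Groth.Agent.Mum71.CechPull
import Groth.Agent.Mum71.HHApi

/-! Cocycles on opens: pullback and restriction of their classes. -/

set_option autoImplicit false
set_option maxSynthPendingDepth 6
set_option linter.style.haveILetI false
set_option backward.isDefEq.respectTransparency.types false

universe u

noncomputable section

open CategoryTheory CategoryTheory.Limits AlgebraicGeometry TopologicalSpace Opposite

namespace Groth.Agent.Mum71

open Coh69 CechComp71
open QCPull72 (unitSec pullUnit)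

variable {X Y : Scheme.{u}}

/-- Pullback of classes between opens. -/
def opull (g : Y ⟶ X) (U : X.Opens) (U' : Y.Opens) (h : U' ≤ g ⁻¹ᵁ U) (F : X.Modules) (p : ℕ) :
    Coh.HHon X F U p →+ Coh.HHon Y ((Scheme.Modules.pullback g).obj F) U' p :=
  CohPull.pullOn g U U' h F p

/-- Classes of cocycles on an open. -/
def ocls {ι : Type u} (F : X.Modules) (U : X.Opens) (Uc : ι → U.toScheme.Opens) (hU : ⨆ i, Uc i = ⊤)
    (p : ℕ) : MZ Uc (F.restrict U.ι) p →+ Coh.HHon X F U p :=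
  toHH Uc hU (F.restrict U.ι) p

lemma le_preimage_image (U : X.Opens) (O : U.toScheme.Opens) : O ≤ U.ι ⁻¹ᵁ (U.ι ''ᵁ O) :=
  (U.ι.preimage_image_eq O).ge

lemma restrictIso_restr (F : X.Modules) (U : X.Opens) (O : U.toScheme.Opens) (s : Γ(F, U.ι ''ᵁ O)) :
    ((Scheme.Modules.restrictFunctorIsoPullback U.ι).hom.app F).app O ((F.restrictAppIso U.ι O).inv s) =
      unitSec U.ι F (le_preimage_image U O) s := by
  let α := (Scheme.Modules.restrictFunctorIsoPullback U.ι).hom.app F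
  let t : Γ(F.restrict U.ι, U.ι ⁻¹ᵁ (U.ι ''ᵁ O)) :=
    ((Scheme.Modules.restrictAdjunction U.ι).unit.app F).app (U.ι ''ᵁ O) s
  have h : α.app (U.ι ⁻¹ᵁ (U.ι ''ᵁ O)) t = (pullUnit U.ι F).app (U.ι ''ᵁ O) s :=
    congrArg (fun ψ : F ⟶ (Scheme.Modules.pushforward U.ι).obj ((Scheme.Modules.pullback U.ι).obj F) =>
      Scheme.Modules.Hom.app ψ (U.ι ''ᵁ O) s)
      ((Scheme.Modules.restrictAdjunction U.ι).unit_leftAdjointUniq_hom_app
        (Scheme.Modules.pullbackPushforwardAdjunction U.ι) F)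
  have ht : QC70.res (F.restrict U.ι) (le_preimage_image U O) t = (F.restrictAppIso U.ι O).inv s := by
    apply (ConcreteCategory.bijective_of_isIso (F.restrictAppIso U.ι O).hom).injective
    refine Eq.trans ?_ ((F.restrictAppIso U.ι O).inv_hom_id_apply s).symm
    exact (QC70.res_res (M := F) (U.ι.image_preimage_le _)
      (U.ι.image_mono (le_preimage_image U O)) s).trans (QC70.res_self s)
  refine (congrArg (α.app O) ht.symm).trans ?_
  refine (QC70.app_res α (le_preimage_image U O) t).trans ?_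
  rw [h]
  rfl

lemma image_le_preimage (g : Y ⟶ X) {U : X.Opens} {U' : Y.Opens} (h : U' ≤ g ⁻¹ᵁ U) {O : U.toScheme.Opens}
    {O' : U'.toScheme.Opens} (e : O' ≤ g.resLE U U' h ⁻¹ᵁ O) : U'.ι ''ᵁ O' ≤ g ⁻¹ᵁ (U.ι ''ᵁ O) := by
  rintro _ ⟨y, hy, rfl⟩
  refine ⟨g.resLE U U' h y, e hy, ?_⟩
  show (g.resLE U U' h ≫ U.ι) y = (U'.ι ≫ g) y
  rw [Scheme.Hom.resLE_comp_ι]

/-- The identification in the pullback between opens, on sections. -/
theorem pullOnIso_unitSec (g : Y ⟶ X) {U : X.Opens} {U' : Y.Opens} (h : U' ≤ g ⁻¹ᵁ U) (F : X.Modules)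
    {O : U.toScheme.Opens} {O' : U'.toScheme.Opens} (e : O' ≤ g.resLE U U' h ⁻¹ᵁ O) (s : Γ(F, U.ι ''ᵁ O)) :
    (CohPull.pullOnIso g U U' h F).hom.app O'
        (unitSec (g.resLE U U' h) (F.restrict U.ι) e ((F.restrictAppIso U.ι O).inv s)) =
      (((Scheme.Modules.pullback g).obj F).restrictAppIso U'.ι O').inv
        (unitSec g F (image_le_preimage g h e) s) := by
  let r := g.resLE U U' h
  let α' := (Scheme.Modules.restrictFunctorIsoPullback U'.ι).app ((Scheme.Modules.pullback g).obj F)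
  let β := (Scheme.Modules.pullbackComp U'.ι g).app F
  let e₁ := e.trans (r.preimage_mono (le_preimage_image U O))
  have e₂ : O' ≤ (U'.ι ≫ g) ⁻¹ᵁ (U.ι ''ᵁ O) :=
    (le_preimage_image U' O').trans (U'.ι.preimage_mono (image_le_preimage g h e))
  show α'.inv.app O' (β.inv.app O'
    (((Scheme.Modules.pullbackCongr (Scheme.Hom.resLE_comp_ι g h)).hom.app F).app O'
      (((Scheme.Modules.pullbackComp r U.ι).hom.app F).app O'
        (((Scheme.Modules.pullback r).map ((Scheme.Modules.restrictFunctorIsoPullback U.ι).hom.app F)).app O'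
          (unitSec r (F.restrict U.ι) e ((F.restrictAppIso U.ι O).inv s)))))) = _
  rw [pullback_map_unitSec, restrictIso_restr,
    pullbackComp_unitSec r U.ι F e (le_preimage_image U O)
      (show O' ≤ (r ≫ U.ι) ⁻¹ᵁ (U.ι ''ᵁ O) from e₁),
    pullbackCongr_unitSec _ F _ e₂]
  let t := (((Scheme.Modules.pullback g).obj F).restrictAppIso U'.ι O').inv
    (unitSec g F (image_le_preimage g h e) s)
  have e1 : β.inv.app O' (unitSec (U'.ι ≫ g) F e₂ s) = α'.hom.app O' t := by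
    rw [show α'.hom = (Scheme.Modules.restrictFunctorIsoPullback U'.ι).hom.app _ from rfl,
      restrictIso_restr, ← pullbackComp_unitSec U'.ι g F (le_preimage_image U' O') (image_le_preimage g h e)]
    exact congr(Scheme.Modules.Hom.app $(β.hom_inv_id) O'
      (unitSec U'.ι ((Scheme.Modules.pullback g).obj F) (le_preimage_image U' O')
        (unitSec g F (image_le_preimage g h e) s)))
  rw [e1]
  exact congr(Scheme.Modules.Hom.app $(α'.hom_inv_id) O' t)

lemma pullbackId_unitSec (M : X.Modules) {O O' : X.Opens} (h : O' ≤ O) (t : Γ(M, O)) :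
    ((Scheme.Modules.pullbackId X).hom.app M).app O' (unitSec (𝟙 X) M h t) = QC70.res M h t := by
  rw [QCPull72.unitSec, QC70.app_res]
  refine congrArg (QC70.res M h) ?_
  have h1 := unit_conjugateEquiv Adjunction.id (Scheme.Modules.pullbackPushforwardAdjunction (𝟙 X))
    (Scheme.Modules.pullbackId X).hom M
  rw [Scheme.Modules.conjugateEquiv_pullbackId_hom] at h1
  exact (congr(Scheme.Modules.Hom.app $h1 O t)).symm

lemma omap_ocls {ι : Type u} {M N : Y.Modules} (φ : M ⟶ N) (U : Y.Opens) {Uc : ι → U.toScheme.Opens}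
    (hU : ⨆ i, Uc i = ⊤) (p : ℕ) (z : MZ Uc (M.restrict U.ι) p) :
    omap U φ p (ocls M U Uc hU p z) = ocls N U Uc hU p
      (zmap ((SheafOfModules.toSheaf U.toScheme.ringCatSheaf).map
        ((Scheme.Modules.restrictFunctor U.ι).map φ)) p z) :=
  (toHH_natural Uc hU _ p z).symm

section Cocycles

variable {ι : Type u} {U : X.Opens} {U' : Y.Opens} (g : Y ⟶ X) (h : U' ≤ g ⁻¹ᵁ U) (F : X.Modules)
  {Uc : ι → U.toScheme.Opens} (hU : ⨆ i, Uc i = ⊤) {Wc : ι → U'.toScheme.Opens} (hW : ⨆ i, Wc i = ⊤)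
  (hWU : ∀ k, Wc k ≤ g.resLE U U' h ⁻¹ᵁ Uc k)

include hWU in
lemma cOpen_le_pre {n : ℕ} (i : Fin n → ι) : cOpen Wc i ≤ g.resLE U U' h ⁻¹ᵁ cOpen Uc i :=
  cOpen_le_map (g.resLE U U' h).base hWU i

/-- The cocycle of the pullback. -/
def pullCocyc (p : ℕ) (z : MZ Uc (F.restrict U.ι) p) :
    MZ Wc (((Scheme.Modules.pullback g).obj F).restrict U'.ι) p :=
  zmap ((SheafOfModules.toSheaf U'.toScheme.ringCatSheaf).map (CohPull.pullOnIso g U U' h F).hom) p
    (zmap (CohPull.theta (g.resLE U U' h) (F.restrict U.ι)) p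
      (pullCZ (g.resLE U U' h).base hWU (Coh.toAb (F.restrict U.ι)) p z))

lemma pullCocyc_apply (p : ℕ) (z : MZ Uc (F.restrict U.ι) p) (i : Fin (p + 1) → ι) :
    (pullCocyc g h F hWU p z).1 i = (CohPull.pullOnIso g U U' h F).hom.app (cOpen Wc i)
      (unitSec (g.resLE U U' h) (F.restrict U.ι) (cOpen_le_pre g h hWU i) (z.1 i)) :=
  congrArg ((CohPull.pullOnIso g U U' h F).hom.app (cOpen Wc i))
    (theta_pullC (g.resLE U U' h) hWU (F.restrict U.ι) p z.1 i)

/-- Pullback between opens, on cocycles. -/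
theorem opull_ocls (p : ℕ) (z : MZ Uc (F.restrict U.ι) p) :
    opull g U U' h F p (ocls F U Uc hU p z) =
      ocls ((Scheme.Modules.pullback g).obj F) U' Wc hW p (pullCocyc g h F hWU p z) := by
  refine (congrArg (CohPull.mapH (CohPull.pullOnIso g U U' h F).hom p)
    (pullMod_toHH (g.resLE U U' h) hU hW hWU (F.restrict U.ι) p z
      (zmap (CohPull.theta (g.resLE U U' h) (F.restrict U.ι)) p
        (pullCZ (g.resLE U U' h).base hWU (Coh.toAb (F.restrict U.ι)) p z))
      fun i => theta_pullC (g.resLE U U' h) hWU (F.restrict U.ι) p z.1 i)).trans ?_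
  exact (toHH_natural Wc hW _ p _).symm

end Cocycles

section Compose

variable {ι : Type u} {U : X.Opens} {U' U'' : Y.Opens} (g : Y ⟶ X) (h : U' ≤ g ⁻¹ᵁ U) (h' : U'' ≤ U')
  (F : X.Modules) {Uc : ι → U.toScheme.Opens} (hU : ⨆ i, Uc i = ⊤)

include hU in
lemma iSup_pre {Z : Scheme.{u}} (r : Z ⟶ U.toScheme) : ⨆ i, r ⁻¹ᵁ Uc i = ⊤ := by
  rw [← Scheme.Hom.preimage_iSup, hU]
  rfl

/-- Restriction after pullback is pullback, on classes of cocycles. -/
theorem ores_opull_ocls (p : ℕ) (z : MZ Uc (F.restrict U.ι) p) :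
    ores ((Scheme.Modules.pullback g).obj F) h' p (opull g U U' h F p (ocls F U Uc hU p z)) =
      opull g U U'' (h'.trans h) F p (ocls F U Uc hU p z) := by
  let G := (Scheme.Modules.pullback g).obj F
  let r := g.resLE U U' h
  have hid : U'' ≤ (𝟙 Y) ⁻¹ᵁ U' := by rwa [Scheme.Hom.id_preimage]
  let r₂ := (𝟙 Y : Y ⟶ Y).resLE U' U'' hid
  have hr : r₂ ≫ r = g.resLE U U'' (h'.trans h) := by
    rw [← cancel_mono U.ι, Category.assoc, Scheme.Hom.resLE_comp_ι, Scheme.Hom.resLE_comp_ι_assoc,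
      Scheme.Hom.resLE_comp_ι, Category.id_comp]
  let W₁ : ι → U'.toScheme.Opens := fun k => r ⁻¹ᵁ Uc k
  let W₂ : ι → U''.toScheme.Opens := fun k => r₂ ⁻¹ᵁ W₁ k
  have hW₁ : ⨆ k, W₁ k = ⊤ := iSup_pre hU r
  have hW₂ : ⨆ k, W₂ k = ⊤ := iSup_pre hW₁ r₂
  have h₃ : ∀ k, W₂ k ≤ g.resLE U U'' (h'.trans h) ⁻¹ᵁ Uc k := fun k => by
    rw [← hr]
    exact le_rfl
  rw [opull_ocls g h F hU hW₁ (fun _ => le_rfl), opull_ocls g (h'.trans h) F hU hW₂ h₃]
  show omap U'' ((Scheme.Modules.pullbackId Y).hom.app G) p (opull (𝟙 Y) U' U'' hid G p _) = _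
  rw [opull_ocls (𝟙 Y) hid G hW₁ hW₂ (fun _ => le_rfl), omap_ocls]
  refine congrArg (ocls G U'' W₂ hW₂ p) (Subtype.ext (funext fun i => ?_))
  let s : Γ(F, U.ι ''ᵁ cOpen Uc i) := (F.restrictAppIso U.ι (cOpen Uc i)).hom (z.1 i)
  have hs : (F.restrictAppIso U.ι (cOpen Uc i)).inv s = z.1 i :=
    (F.restrictAppIso U.ι (cOpen Uc i)).hom_inv_id_apply _
  refine (congrArg (((Scheme.Modules.restrictFunctor U''.ι).map
    ((Scheme.Modules.pullbackId Y).hom.app G)).app (cOpen W₂ i))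
      (pullCocyc_apply (𝟙 Y) hid G (fun _ => le_rfl) p _ i)).trans ?_
  rw [pullCocyc_apply, pullCocyc_apply, ← hs, pullOnIso_unitSec, pullOnIso_unitSec, pullOnIso_unitSec]
  refine Eq.trans (pullbackId_unitSec G
    (show U''.ι ''ᵁ cOpen W₂ i ≤ U'.ι ''ᵁ cOpen W₁ i from
      image_le_preimage (𝟙 Y) hid (cOpen_le_pre (𝟙 Y) hid (fun _ => le_rfl) i)) _) ?_
  exact QC70.res_res _ _ _

end Compose

end Groth.Agent.Mum71
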