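import Groth.Agent.Stage62.NoethDescent
import Groth.Agent.Approx60.ProperDesc
import Groth.Agent.FlatMor66.BCStalk

/-! Noetherian approximation of a proper flat family over an affine base. -/

set_option autoImplicit false
set_option linter.style.haveILetI false
set_option backward.isDefEq.respectTransparency.types false

universe u

open CategoryTheory Limits AlgebraicGeometry TopologicalSpace Opposite

namespace Groth.Agent.Mum71

theorem isNoetherianRing_of_fg {A : Type u} [CommRing A] (A₀ : Subalgebra ℤ A) (h : A₀.FG) :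
    IsNoetherianRing A₀ :=
  haveI : Algebra.FiniteType ℤ A₀ := (Subalgebra.fg_iff_finiteType A₀).mp h
  Algebra.FiniteType.isNoetherianRing ℤ A₀

/-- A proper flat family of finite presentation over an affine scheme comes from one over a Noetherian
ring. -/
theorem exists_proper_model {A : CommRingCat.{u}} {X : Scheme.{u}} (f : X ⟶ Spec A) [IsProper f]
    [LocallyOfFinitePresentation f] (F : X.Modules) [F.IsQuasicoherent] [CohB1.IsFP F]
    (hfl : FlatMod.IsFlatOver f F) :
    ∃ (A₀ : CommRingCat.{u}) (_ : IsNoetherianRing A₀) (φ : A₀ ⟶ A) (X₀ : Scheme.{u})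
      (f₀ : X₀ ⟶ Spec A₀) (_ : IsProper f₀) (F₀ : X₀.Modules) (_ : Coh.IsCoh F₀)
      (_ : FlatMod.IsFlatOver f₀ F₀) (q : X ⟶ X₀),
      IsPullback q f f₀ (Spec.map φ) ∧ Nonempty ((Scheme.Modules.pullback q).obj F₀ ≅ F) := by
  obtain ⟨A₀, hA₀, X₀, f₀, h1, h2, F₀, hF₀, q, hX, e, hflat⟩ :=
    Stage62.hasModelAt_of_flat (A := A) f F hfl
  haveI := h1
  haveI := h2
  haveI := isNoetherianRing_of_fg A₀ hA₀
  haveI : IsLocallyNoetherian X₀ := LocallyOfFiniteType.isLocallyNoetherian f₀
  haveI : QuasiSeparated f₀ :=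
    (HasAffineProperty.iff_of_isAffine (P := @QuasiSeparated)).2 inferInstance
  let i : (Stage62.FgSubring (A : Type u))ᵒᵖ := op ⟨A₀, hA₀⟩
  let D := Stage62.subringSpec (A : Type u)
  let c := Stage62.subringCone (A : Type u)
  have hP : IsProper (pullback.snd f₀ (c.π.app i)) :=
    (LimDesc62.prop_iff_of_isPullback (P := @IsProper) hX).1 ‹IsProper f›
  haveI : CompactSpace (D.obj i) := inferInstanceAs (CompactSpace (Spec (CommRingCat.of A₀)))
  haveI : QuasiSeparatedSpace (D.obj i) :=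
    inferInstanceAs (QuasiSeparatedSpace (Spec (CommRingCat.of A₀)))
  haveI : @QuasiCompact X₀ (D.obj i) f₀ := h2
  haveI : @QuasiSeparated X₀ (D.obj i) f₀ := ‹QuasiSeparated f₀›
  obtain ⟨j, φ, hj⟩ := Approx60.descProp_isProper.desc D c (Stage62.isLimitSubringCone _) i f₀ h1 hP
  obtain ⟨q₁, -, hX₁, ⟨e₁⟩⟩ := Stage62.exists_baseChange_model D c i f₀ F₀ f q hX φ e
  refine ⟨CommRingCat.of ↥j.unop.1, isNoetherianRing_of_fg _ j.unop.2,
    CommRingCat.ofHom j.unop.1.val.toRingHom, _, pullback.snd f₀ (D.map φ), hj,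
    (Scheme.Modules.pullback (pullback.fst f₀ (D.map φ))).obj F₀, ⟨?_, ?_⟩, fun x => ?_, q₁, hX₁, ⟨e₁⟩⟩
  · haveI := hF₀.1
    exact QCPull72.isQuasicoherent_pullback _ F₀
  · haveI := hF₀.1
    haveI := hF₀.2
    exact QCPull72.isFiniteType_pullback _ F₀
  · exact FlatMor66.isFlatOverAt_baseChange (IsPullback.of_hasPullback f₀ (D.map φ)) F₀ hF₀.1 x (hflat _)

end Groth.Agent.Mum71
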