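import Groth.Agent.Mum71.BaseCls
import Groth.Agent.Mum71.Approx
import Groth.Agent.Mum71.SchemeModel
import Groth.Agent.Props58.Ext.Local
import Groth.Prelude.Def_CohCmp

/-! The finite free complex of a flat family over any affine open of the base, with all its base changes. -/

set_option autoImplicit false
set_option maxSynthPendingDepth 6
set_option synthInstance.maxHeartbeats 200000
set_option linter.style.haveILetI false
set_option backward.isDefEq.respectTransparency.types false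

universe u

noncomputable section

open CategoryTheory CategoryTheory.Limits AlgebraicGeometry TopologicalSpace Opposite TensorProduct

namespace Groth.Agent.Mum71

variable {X S : Scheme.{u}} (f : X ⟶ S) (F : X.Modules)

/-- The complex computes cohomology after every base change, compatibly with pullback. -/
def SquareOK (V : S.Opens) (K : CochainComplex (ModuleCat.{u} Γ(S, V)) ℤ)
    (cls : ∀ p : ℕ, LinearMap.ker (K.d (p : ℤ) ((p : ℤ) + 1)).hom →+ Coh.HHon X F (f ⁻¹ᵁ V) p) : Prop :=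
  ∀ ⦃X' S' : Scheme.{u}⦄ (g' : X' ⟶ X) (f' : X' ⟶ S') (g : S' ⟶ S) (hX : IsPullback g' f' f g)
    (V' : S'.Opens) (_ : IsAffineOpen V') (hVV' : V' ≤ g ⁻¹ᵁ V) (p : ℕ),
  letI := (g.appLE V V' hVV').hom.toAlgebra
  ∃ c : LinearMap.ker ((K.d (p : ℤ) ((p : ℤ) + 1)).hom.baseChange Γ(S', V')) →+
      Coh.HHon X' ((Scheme.Modules.pullback g').obj F) (f' ⁻¹ᵁ V') p,
    Function.Surjective c ∧
    (∀ z, c z = 0 ↔ z.1 ∈ LinearMap.range ((K.d ((p : ℤ) - 1) (p : ℤ)).hom.baseChange Γ(S', V'))) ∧
    (∀ (b : Γ(S', V')) z, c (b • z) = oRes (f' ⁻¹ᵁ V') (f'.app V' b) • c z) ∧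
    ∀ z z', z'.1 = (1 : Γ(S', V')) ⊗ₜ[Γ(S, V)] z.1 →
      c z' = ores ((Scheme.Modules.pullback g').obj F) (f'.preimage_mono hVV') p
        (opull g' (f ⁻¹ᵁ V) (f' ⁻¹ᵁ (g ⁻¹ᵁ V)) (CohCmp.sqLE f g f' g' hX.w V) F p (cls p z))

/-- The complex computes the cohomology of the fibres. -/
def FibreOK (V : S.Opens) (K : CochainComplex (ModuleCat.{u} Γ(S, V)) ℤ) : Prop :=
  ∀ (y : S) (hy : y ∈ V) (p : ℕ),
  letI := (S.evaluation V y hy).hom.toAlgebra
  ∃ c : LinearMap.ker ((K.d (p : ℤ) ((p : ℤ) + 1)).hom.baseChange (S.residueField y)) →+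
      CohIII.fiberH f F y p,
    Function.Surjective c ∧
    (∀ z, c z = 0 ↔ z.1 ∈ LinearMap.range ((K.d ((p : ℤ) - 1) (p : ℤ)).hom.baseChange (S.residueField y))) ∧
    ∀ (b : S.residueField y) z, c (b • z) = b • c z

set_option genSizeOfSpec false in
set_option genInjectivity false in
/-- A finite free complex over an affine open of the base computing the cohomology of every base change. -/
structure CohModel (V : S.Opens) where
  /-- the complex -/
  K : CochainComplex (ModuleCat.{u} Γ(S, V)) ℤ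
  finite : ∀ i, Module.Finite Γ(S, V) (K.X i)
  free : ∀ i, Module.Free Γ(S, V) (K.X i)
  bdd : ∃ N : ℤ, ∀ i, N < i → Subsingleton (K.X i)
  exact_neg : ∀ i : ℤ, i < 0 → ∀ (k : Type u) [Field k] [Algebra Γ(S, V) k] (z : k ⊗[Γ(S, V)] K.X i),
    (K.d i (i + 1)).hom.baseChange k z = 0 → z ∈ LinearMap.range ((K.d (i - 1) i).hom.baseChange k)
  /-- the classes of cycles -/
  cls : ∀ p : ℕ, LinearMap.ker (K.d (p : ℤ) ((p : ℤ) + 1)).hom →+ Coh.HHon X F (f ⁻¹ᵁ V) p
  cls_surjective : ∀ p, Function.Surjective (cls p)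
  cls_eq_zero : ∀ p z, cls p z = 0 ↔ z.1 ∈ LinearMap.range (K.d ((p : ℤ) - 1) (p : ℤ)).hom
  cls_smul : ∀ p (a : Γ(S, V)) z, cls p (a • z) = oRes (f ⁻¹ᵁ V) (f.app V a) • cls p z
  square : SquareOK f F V K cls
  fibre : FibreOK f F V K

section Complex

variable {A₀ : Type u} [CommRing A₀] (A : Type u) [CommRing A] [Algebra A₀ A]
  (L : CochainComplex (ModuleCat.{u} A₀) ℤ)

/-- The base change of a complex. -/
def extCx : CochainComplex (ModuleCat.{u} A) ℤ where
  X i := ModuleCat.of A (A ⊗[A₀] L.X i)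
  d i j := ModuleCat.ofHom ((L.d i j).hom.baseChange A)
  shape i j h := by
    rw [L.shape i j h]
    exact ModuleCat.hom_ext LinearMap.baseChange_zero
  d_comp_d' i j k _ _ := ModuleCat.hom_ext (by
    rw [ModuleCat.hom_comp, ModuleCat.hom_ofHom, ModuleCat.hom_ofHom, ← LinearMap.baseChange_comp,
      ← ModuleCat.hom_comp, L.d_comp_d]
    exact LinearMap.baseChange_zero)

lemma extCx_d (i j : ℤ) : ((extCx A L).d i j).hom = (L.d i j).hom.baseChange A := rfl

variable {A} (B : Type u) [CommRing B] [Algebra A B] [Algebra A₀ B] [IsScalarTower A₀ A B]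

/-- Chains on a base change of a base change. -/
def cancelX (i : ℤ) : B ⊗[A] (A ⊗[A₀] L.X i) ≃ₗ[B] B ⊗[A₀] L.X i :=
  AlgebraTensorModule.cancelBaseChange A₀ A B B (L.X i)

lemma cancelX_tmul (i : ℤ) (b : B) (a : A) (c : L.X i) :
    cancelX L B i (b ⊗ₜ (a ⊗ₜ c)) = (a • b) ⊗ₜ c := by
  simp [cancelX]

lemma cancelX_one_tmul (i : ℤ) (x : A ⊗[A₀] L.X i) :
    cancelX L B i ((1 : B) ⊗ₜ x) = coefMap A B i x := by
  induction x with
  | zero => rw [TensorProduct.tmul_zero, map_zero, map_zero]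
  | add x y hx hy => rw [TensorProduct.tmul_add, map_add, map_add, hx, hy]
  | tmul a c =>
    rw [cancelX_tmul, Algebra.smul_def, mul_one]
    rfl

lemma cancelX_d (i j : ℤ) (x : B ⊗[A] (A ⊗[A₀] L.X i)) :
    cancelX L B j (((L.d i j).hom.baseChange A).baseChange B x) = (L.d i j).hom.baseChange B (cancelX L B i x) := by
  induction x with
  | zero => simp only [map_zero]
  | add x y hx hy => simp only [map_add, hx, hy]
  | tmul b y =>
    induction y with
    | zero => simp only [TensorProduct.tmul_zero, map_zero]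
    | add x y hx hy => simp only [TensorProduct.tmul_add, map_add, hx, hy]
    | tmul a c =>
      show cancelX L B j (b ⊗ₜ (a ⊗ₜ (L.d i j).hom c)) = _
      rw [cancelX_tmul, cancelX_tmul]
      rfl

lemma mem_range_cancel (i j : ℤ) (x : B ⊗[A] (A ⊗[A₀] L.X j)) :
    x ∈ LinearMap.range (((L.d i j).hom.baseChange A).baseChange B) ↔
      cancelX L B j x ∈ LinearMap.range ((L.d i j).hom.baseChange B) := by
  constructor
  · rintro ⟨w, rfl⟩
    exact ⟨cancelX L B i w, (cancelX_d L B i j w).symm⟩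
  · rintro ⟨w, hw⟩
    exact ⟨(cancelX L B i).symm w, (cancelX L B j).injective (by
      rw [cancelX_d, LinearEquiv.apply_symm_apply, hw])⟩

/-- Cycles on a base change of a base change. -/
def cancelCyc (i j : ℤ) :
    LinearMap.ker (((L.d i j).hom.baseChange A).baseChange B) ≃ₗ[B] LinearMap.ker ((L.d i j).hom.baseChange B) :=
  (cancelX L B i).ofSubmodules _ _ <| by
    ext x
    rw [LinearMap.mem_ker]
    constructor
    · rintro ⟨w, hw, rfl⟩
      exact ((cancelX_d L B i j w).symm.trans (congrArg _ (LinearMap.mem_ker.1 hw))).trans (map_zero _)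
    · intro hx
      refine ⟨(cancelX L B i).symm x, LinearMap.mem_ker.2 ((cancelX L B j).injective ?_),
        LinearEquiv.apply_symm_apply _ x⟩
      rw [cancelX_d, LinearEquiv.apply_symm_apply, hx, map_zero]

lemma cancelCyc_val (i j : ℤ) (z : LinearMap.ker (((L.d i j).hom.baseChange A).baseChange B)) :
    (cancelCyc L B i j z).1 = cancelX L B i z.1 := rfl

open CohIII (T tensorObj) in
theorem baseChange_exact_of_isZero (i : ℤ) (h : IsZero (T L i (ModuleCat.of A₀ B)))
    (z : B ⊗[A₀] L.X i) (hz : (L.d i (i + 1)).hom.baseChange B z = 0) :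
    z ∈ LinearMap.range ((L.d (i - 1) i).hom.baseChange B) := by
  let w : LinearMap.ker ((tensorObj L (ModuleCat.of A₀ B)).d i (i + 1)).hom :=
    ⟨TensorProduct.comm A₀ B (L.X i) z,
      (rTensor_comm_baseChange (L.d i (i + 1)).hom z).trans ((congrArg _ hz).trans (map_zero _))⟩
  haveI := ModuleCat.subsingleton_of_isZero h
  obtain ⟨v, hv⟩ := (FCx40.hcls_eq_zero_iff (CochainComplex.prev ℤ i) (CochainComplex.next ℤ i) w).1
    (Subsingleton.elim _ _)
  refine ⟨(TensorProduct.comm A₀ B (L.X (i - 1))).symm v, (TensorProduct.comm A₀ B (L.X i)).injective ?_⟩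
  rw [← rTensor_comm_baseChange, LinearEquiv.apply_symm_apply]
  exact hv

end Complex

set_option maxHeartbeats 1000000 in
/-- Existence of the local model. -/
theorem exists_cohModel [IsProper f] [LocallyOfFinitePresentation f] [F.IsQuasicoherent]
    (hfp : CohB1.IsFP F) (hfl : FlatMod.IsFlatOver f F) {V : S.Opens} (hV : IsAffineOpen V) :
    Nonempty (CohModel f F V) := by
  let W := f ⁻¹ᵁ V
  let σ := affBase f hV
  haveI : IsProper σ := inferInstanceAs (IsProper ((f ∣_ V) ≫ hV.isoSpec.hom))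
  haveI : LocallyOfFinitePresentation σ :=
    inferInstanceAs (LocallyOfFinitePresentation ((f ∣_ V) ≫ hV.isoSpec.hom))
  haveI : (F.restrict W.ι).IsQuasicoherent :=
    inferInstanceAs ((Scheme.Modules.restrictFunctor W.ι).obj F).IsQuasicoherent
  haveI : CohB1.IsFP (F.restrict W.ι) :=
    Props58.Ext.isFP_of_fpOn _ ((Props58.Ext.fpOn_restrict_iff W.ι ⊤).2 (Props58.Ext.fpOn_of_isFP F _))
  have hflW : FlatMod.IsFlatOver σ (F.restrict W.ι) := fun x =>
    FlatMor66.isFlatOverAt_of_iso _ ((Scheme.Modules.restrictFunctorIsoPullback W.ι).app F).symm x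
      (FlatMor66.isFlatOverAt_baseChange (isPullback_affBase f hV) F inferInstance x (hfl _))
  obtain ⟨A₀, hA₀, η₀, X₀, f₀, hf₀, F₀, hF₀, hfl₀, q, hq, ⟨e₀⟩⟩ := exists_proper_model σ (F.restrict W.ι) hflW
  haveI := hA₀
  haveI := hF₀.1
  letI : X₀.Over (Spec (CommRingCat.of (A₀ : Type u))) := ⟨f₀⟩
  haveI : IsProper (X₀ ↘ Spec (CommRingCat.of (A₀ : Type u))) := hf₀
  obtain ⟨ι, hι, U, L, φ, N, hU, hU', hL, hN, hφ⟩ := exists_model (A₀ : Type u) F₀ hF₀ hfl₀
  haveI := hι
  letI : Algebra A₀ Γ(S, V) := η₀.hom.toAlgebra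
  letI : W.toScheme.Over (Spec (CommRingCat.of Γ(S, V))) := ⟨σ⟩
  have hsq : IsPullback q (W.toScheme ↘ Spec (CommRingCat.of Γ(S, V))) (X₀ ↘ Spec (CommRingCat.of (A₀ : Type u)))
      (Spec.map (CommRingCat.ofHom (algebraMap A₀ Γ(S, V)))) := hq
  let cl : ∀ p : ℕ, LinearMap.ker (((extCx Γ(S, V) L).d (p : ℤ) ((p : ℤ) + 1)).hom) →+
      Coh.HHon X F W p := fun p => bcls hU hU' φ hsq e₀ p
  refine ⟨{
    K := extCx Γ(S, V) L
    finite := fun i => haveI := (hL i).1; inferInstanceAs (Module.Finite Γ(S, V) (Γ(S, V) ⊗[A₀] L.X i))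
    free := fun i => haveI := (hL i).2; inferInstanceAs (Module.Free Γ(S, V) (Γ(S, V) ⊗[A₀] L.X i))
    bdd := ⟨N, fun i hi => haveI := ModuleCat.subsingleton_of_isZero (hN i hi)
      inferInstanceAs (Subsingleton (Γ(S, V) ⊗[A₀] L.X i))⟩
    exact_neg := fun i hi k _ _ z hz => ?_
    cls := cl
    cls_surjective := fun p => (bcls_spec hU hU' φ hsq e₀ hφ p).1
    cls_eq_zero := fun p z => (bcls_spec hU hU' φ hsq e₀ hφ p).2 z
    cls_smul := fun p a z => ?_
    square := ?_
    fibre := ?_ }⟩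
  · letI : Algebra A₀ k := ((algebraMap Γ(S, V) k).comp (algebraMap A₀ Γ(S, V))).toAlgebra
    haveI : IsScalarTower A₀ Γ(S, V) k := .of_algebraMap_eq' rfl
    refine (mem_range_cancel L k (i - 1) i z).2 (baseChange_exact_of_isZero L k i (isZero_T_of_neg hφ _ i hi) _ ?_)
    exact ((cancelX_d L k i (i + 1) z).symm.trans (congrArg _ hz)).trans (map_zero _)
  · refine (bcls_smul hU hU' φ hsq e₀ p a z).trans ?_
    show Coh.toGlobal σ a • cl p z = _
    rw [toGlobal_affBase]
    rfl
  · intro X' S' g' f' g hX V' hV' hVV' p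
    letI alg : Algebra Γ(S, V) Γ(S', V') := (g.appLE V V' hVV').hom.toAlgebra
    letI : Algebra A₀ Γ(S', V') := ((algebraMap Γ(S, V) Γ(S', V')).comp (algebraMap A₀ Γ(S, V))).toAlgebra
    haveI : IsScalarTower A₀ Γ(S, V) Γ(S', V') := .of_algebraMap_eq' rfl
    let W' := f' ⁻¹ᵁ V'
    letI : W'.toScheme.Over (Spec (CommRingCat.of Γ(S', V'))) := ⟨affBase f' hV'⟩
    have hW : W' ≤ g' ⁻¹ᵁ W := (f'.preimage_mono hVV').trans (CohCmp.sqLE f g f' g' hX.w V)
    let r := g'.resLE W W' hW
    have outer : IsPullback (W'.ι ≫ g') (affBase f' hV') f (Spec.map (g.appLE V V' hVV') ≫ hV.fromSpec) := by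
      rw [hV.SpecMap_appLE_fromSpec g hV' hVV']
      exact (isPullback_affBase f' hV').paste_horiz hX
    have w : r ≫ σ = affBase f' hV' ≫ Spec.map (g.appLE V V' hVV') := by
      rw [← cancel_mono hV.fromSpec, Category.assoc, ← (isPullback_affBase f hV).w, Category.assoc,
        ← outer.w, Scheme.Hom.resLE_comp_ι_assoc, Category.assoc]
    have hr : IsPullback r (affBase f' hV') σ (Spec.map (g.appLE V V' hVV')) := by
      refine IsPullback.of_right ?_ w (isPullback_affBase f hV)
      rwa [show r ≫ W.ι = W'.ι ≫ g' from Scheme.Hom.resLE_comp_ι g' hW]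
    have hsq' : IsPullback (r ≫ q) (W'.toScheme ↘ Spec (CommRingCat.of Γ(S', V')))
        (X₀ ↘ Spec (CommRingCat.of (A₀ : Type u)))
        (Spec.map (CommRingCat.ofHom (algebraMap A₀ Γ(S', V')))) := by
      refine (hr.paste_horiz hq).of_iso (Iso.refl _) (Iso.refl _) (Iso.refl _) (Iso.refl _) ?_ ?_ ?_ ?_
      · simp
      · rw [Iso.refl_hom, Category.comp_id]
        exact (Category.id_comp _).symm
      · rw [Iso.refl_hom, Category.comp_id]
        exact (Category.id_comp _).symm
      · rw [Iso.refl_hom, Iso.refl_hom, Category.comp_id, ← Spec.map_comp]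
        exact (Category.id_comp _).symm
    refine ⟨(bcls hU hU' φ hsq' (pullModel e₀ g' hW) p).comp
      (cancelCyc L Γ(S', V') (p : ℤ) ((p : ℤ) + 1)).toAddEquiv.toAddMonoidHom, ?_, fun z => ?_,
      fun b z => ?_, fun z z' hz' => ?_⟩
    · exact (bcls_spec hU hU' φ hsq' _ hφ p).1.comp (cancelCyc L Γ(S', V') _ _).surjective
    · exact ((bcls_spec hU hU' φ hsq' _ hφ p).2 _).trans (mem_range_cancel L Γ(S', V') _ _ z.1).symm
    · refine Eq.trans (congrArg (bcls hU hU' φ hsq' (pullModel e₀ g' hW) p)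
        ((cancelCyc L Γ(S', V') (p : ℤ) ((p : ℤ) + 1)).map_smul b z)) ?_
      refine (bcls_smul hU hU' φ hsq' _ p b _).trans ?_
      show Coh.toGlobal (affBase f' hV') b • bcls hU hU' φ hsq' (pullModel e₀ g' hW) p _ = _
      rw [toGlobal_affBase]
      rfl
    · show bcls hU hU' φ hsq' _ p (cancelCyc L Γ(S', V') _ _ z') = _
      refine Eq.trans ?_ (ores_opull_ocls g' (CohCmp.sqLE f g f' g' hX.w V) (f'.preimage_mono hVV') F
        (iSup_preU (q := q) hU) p (chCyc hU' φ hsq e₀ p z)).symm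
      refine Eq.trans ?_ (opull_bcls hU hU' φ hsq e₀ g' hW hsq' w p z).symm
      refine congrArg _ (Subtype.ext ?_)
      rw [cancelCyc_val, hz']
      exact cancelX_one_tmul L Γ(S', V') (p : ℤ) z.1
  · intro y hy p
    letI alg : Algebra Γ(S, V) (S.residueField y) := (S.evaluation V y hy).hom.toAlgebra
    letI : Algebra A₀ (S.residueField y) :=
      ((algebraMap Γ(S, V) (S.residueField y)).comp (algebraMap A₀ Γ(S, V))).toAlgebra
    haveI : IsScalarTower A₀ Γ(S, V) (S.residueField y) := .of_algebraMap_eq' rfl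
    have hη : Spec.map (S.evaluation V y hy) ≫ hV.fromSpec = S.fromSpecResidueField y := by
      rw [Scheme.fromSpecResidueField, ← hV.fromSpecStalk_eq_fromSpecStalk hy, IsAffineOpen.fromSpecStalk,
        ← Spec.map_comp_assoc]
      rfl
    have outer : IsPullback (f.fiberι y) (f.fiberToSpecResidueField y) f
        (Spec.map (S.evaluation V y hy) ≫ hV.fromSpec) := by
      rw [hη]
      exact IsPullback.of_hasPullback _ _
    let g := (isPullback_affBase f hV).lift (f.fiberι y)
      (f.fiberToSpecResidueField y ≫ Spec.map (S.evaluation V y hy)) (by rw [outer.w, Category.assoc])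
    have hg : IsPullback g (f.fiberToSpecResidueField y) σ (Spec.map (S.evaluation V y hy)) :=
      outer.of_right' (isPullback_affBase f hV)
    letI : (f.fiber y).Over (Spec (CommRingCat.of (S.residueField y))) := CohIII.fiberOver f y
    have hsqy : IsPullback (g ≫ q) (f.fiber y ↘ Spec (CommRingCat.of (S.residueField y)))
        (X₀ ↘ Spec (CommRingCat.of (A₀ : Type u)))
        (Spec.map (CommRingCat.ofHom (algebraMap A₀ (S.residueField y)))) := by
      refine (hg.paste_horiz hq).of_iso (Iso.refl _) (Iso.refl _) (Iso.refl _) (Iso.refl _) ?_ ?_ ?_ ?_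
      · simp
      · rw [Iso.refl_hom, Category.comp_id]
        exact (Category.id_comp _).symm
      · rw [Iso.refl_hom, Category.comp_id]
        exact (Category.id_comp _).symm
      · rw [Iso.refl_hom, Iso.refl_hom, Category.comp_id, ← Spec.map_comp]
        exact (Category.id_comp _).symm
    let j : (Scheme.Modules.pullback (g ≫ q)).obj F₀ ≅ CohIII.fiberMod f F y :=
      ((Scheme.Modules.pullbackComp g q).app F₀).symm ≪≫
        (Scheme.Modules.pullback g).mapIso (e₀ ≪≫ (Scheme.Modules.restrictFunctorIsoPullback W.ι).app F) ≪≫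
        (Scheme.Modules.pullbackComp g W.ι).app F ≪≫
        (Scheme.Modules.pullbackCongr ((isPullback_affBase f hV).lift_fst _ _ _)).app F
    refine ⟨(bcls hU hU' φ hsqy j p).comp
      (cancelCyc L (S.residueField y) (p : ℤ) ((p : ℤ) + 1)).toAddEquiv.toAddMonoidHom, ?_, fun z => ?_,
      fun b z => ?_⟩
    · exact (bcls_spec hU hU' φ hsqy _ hφ p).1.comp (cancelCyc L (S.residueField y) _ _).surjective
    · exact ((bcls_spec hU hU' φ hsqy _ hφ p).2 _).trans (mem_range_cancel L (S.residueField y) _ _ z.1).symm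
    · refine Eq.trans (congrArg (bcls hU hU' φ hsqy j p)
        ((cancelCyc L (S.residueField y) (p : ℤ) ((p : ℤ) + 1)).map_smul b z)) ?_
      exact bcls_smul hU hU' φ hsqy j p b _

end Groth.Agent.Mum71
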