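import Groth.Agent.Mum71.Strat
import Groth.Agent.Div89.CartierImm

/-! Gluing the strata: the subscheme representing "locally free of rank r, commuting with base change". -/

set_option autoImplicit false
set_option maxSynthPendingDepth 6
set_option linter.style.haveILetI false
set_option linter.unusedSectionVars false
set_option backward.isDefEq.respectTransparency.types false

universe u

noncomputable section

open CategoryTheory CategoryTheory.Limits AlgebraicGeometry TopologicalSpace Opposite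

namespace Groth.Agent.Mum71.Strat

variable {X S : Scheme.{u}}

/-- A closed test scheme of an affine open. -/
theorem appLE_test {V : S.Opens} (hV : IsAffineOpen V) {R : CommRingCat.{u}} (q : Γ(S, V) ⟶ R)
    (e : (⊤ : (Spec R).Opens) ≤ (Spec.map q ≫ hV.fromSpec) ⁻¹ᵁ V) :
    (Spec.map q ≫ hV.fromSpec).appLE V ⊤ e = q ≫ (Scheme.ΓSpecIso R).inv := by
  rw [Scheme.Hom.comp_appLE, IsAffineOpen.fromSpec_app_self, Category.assoc, Scheme.Hom.map_appLE]
  show (Scheme.ΓSpecIso Γ(S, V)).inv ≫ (Spec.map q).appLE ⊤ ⊤ le_top = _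
  rw [show (Spec.map q).appLE ⊤ ⊤ le_top = (Spec.map q).appTop from (Scheme.Hom.app_eq_appLE _).symm,
    Scheme.ΓSpecIso_inv_naturality]

variable (f : X ⟶ S) [IsProper f] [LocallyOfFinitePresentation f] (F : X.Modules) [F.IsQuasicoherent]
  (hfp : CohB1.IsFP F) (hfl : FlatMod.IsFlatOver f F) (r : ℕ)

include hfp hfl in
theorem isOpen_le : IsOpen {s : S | CohIII.fiberRank f F 0 s ≤ r} := by
  refine isOpen_iff_forall_mem_open.2 fun s hs => ?_
  obtain ⟨_, ⟨V, hV, rfl⟩, hsV, -⟩ :=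
    S.isBasis_affineOpens.exists_subset_of_mem_open (Set.mem_univ s) isOpen_univ
  obtain ⟨a, ha, has⟩ := SetLike.not_le_iff_exists.1 ((mem_G_iff f F hfp hfl r ⟨V, hV⟩ hsV).2 hs)
  refine ⟨S.basicOpen a, fun s' hs' => ?_, (S.basicOpen a).2, (QC70.mem_basicOpen_iff_primeCompl hV hsV a).2 has⟩
  have hs'V : s' ∈ V := S.basicOpen_le a hs'
  exact (mem_G_iff f F hfp hfl r ⟨V, hV⟩ hs'V).1
    fun hle => (QC70.mem_basicOpen_iff_primeCompl hV hs'V a).1 hs' (hle ha)

/-- The open where the fibre rank is at most `r`. -/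
def upperOpen : S.Opens := ⟨{s : S | CohIII.fiberRank f F 0 s ≤ r}, isOpen_le f F hfp hfl r⟩

theorem chartG_eq_top (V : S.affineOpens) (h : V.1 ≤ upperOpen f F hfp hfl r) :
    chartG f F hfp hfl r V = ⊤ := by
  by_contra hne
  obtain ⟨m, hm, hle⟩ := Ideal.exists_le_maximal _ hne
  let p : PrimeSpectrum Γ(S, V.1) := ⟨m, hm.isPrime⟩
  have hp := (mem_G_iff f F hfp hfl r V (mem_of_prime V.2 p)).2 (h (mem_of_prime V.2 p))
  rw [primeIdealOf_fromSpec V.2 p] at hp
  exact hp hle

theorem chartI_map (O O' : S.affineOpens) (h : O'.1 ≤ O.1) (hO : O.1 ≤ upperOpen f F hfp hfl r) :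
    (chartI f F hfp hfl r O).map (S.presheaf.map (homOfLE h).op).hom = chartI f F hfp hfl r O' := by
  have hO' : O'.1 ≤ upperOpen f F hfp hfl r := h.trans hO
  set ρ := S.presheaf.map (homOfLE h).op with hρ
  have main : ∀ J : Ideal Γ(S, O'.1),
      ((chartI f F hfp hfl r O).map ρ.hom ≤ J ↔ chartI f F hfp hfl r O' ≤ J) := by
    intro J
    let q : Γ(S, O'.1) ⟶ CommRingCat.of (Γ(S, O'.1) ⧸ J) := CommRingCat.ofHom (Ideal.Quotient.mk J)
    let t := Spec.map q ≫ O'.2.fromSpec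
    have e' : (⊤ : (Spec _).Opens) ≤ t ⁻¹ᵁ O'.1 := fun z _ =>
      O'.2.range_fromSpec.subset ⟨Spec.map q z, rfl⟩
    have e : (⊤ : (Spec _).Opens) ≤ t ⁻¹ᵁ O.1 := fun z hz => h (e' hz)
    have a' : t.appLE O'.1 ⊤ e' = q ≫ (Scheme.ΓSpecIso _).inv := appLE_test O'.2 q e'
    have a : t.appLE O.1 ⊤ e = ρ ≫ q ≫ (Scheme.ΓSpecIso _).inv := by
      rw [← a', hρ, Scheme.Hom.map_appLE]
    have hker : ∀ x, (q ≫ (Scheme.ΓSpecIso _).inv).hom x = 0 ↔ x ∈ J := fun x => by
      refine Iff.trans ⟨fun h0 => ?_, fun h0 => ?_⟩ (Ideal.Quotient.eq_zero_iff_mem (I := J))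
      · exact (Scheme.ΓSpecIso (CommRingCat.of (Γ(S, O'.1) ⧸ J))).symm.commRingCatIsoToRingEquiv.injective
          (h0.trans (map_zero _).symm)
      · exact (congrArg (Scheme.ΓSpecIso (CommRingCat.of (Γ(S, O'.1) ⧸ J))).inv.hom h0).trans (map_zero _)
    have hI : chartI f F hfp hfl r O' ≤ RingHom.ker (t.appLE O'.1 ⊤ e').hom ↔ chartI f F hfp hfl r O' ≤ J := by
      rw [a']
      exact forall₂_congr fun x _ => hker x
    have hJ : chartI f F hfp hfl r O ≤ RingHom.ker (t.appLE O.1 ⊤ e).hom ↔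
        (chartI f F hfp hfl r O).map ρ.hom ≤ J := by
      rw [a, Ideal.map_le_iff_le_comap]
      exact forall₂_congr fun x _ => hker (ρ.hom x)
    rw [← hI, ← hJ]
    constructor
    · intro hl
      exact (condT_necessary f F hfp hfl r O' (condT_of_tests f F hfp hfl r fun z =>
        ⟨O, ⊤, isAffineOpen_top _, e, trivial, hl, by rw [chartG_eq_top f F hfp hfl r O hO, Ideal.map_top]⟩)
        (isAffineOpen_top _) e').1
    · intro hl
      exact (condT_necessary f F hfp hfl r O (condT_of_tests f F hfp hfl r fun z =>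
        ⟨O', ⊤, isAffineOpen_top _, e', trivial, hl, by rw [chartG_eq_top f F hfp hfl r O' hO', Ideal.map_top]⟩)
        (isAffineOpen_top _) e).1
  exact le_antisymm ((main _).2 le_rfl) ((main _).1 le_rfl)

/-- The image of an affine open of the open stratum. -/
def imageAff (U : (upperOpen f F hfp hfl r).toScheme.affineOpens) : S.affineOpens :=
  ⟨(upperOpen f F hfp hfl r).ι ''ᵁ U.1, U.2.image_of_isOpenImmersion _⟩

theorem imageAff_le (U : (upperOpen f F hfp hfl r).toScheme.affineOpens) :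
    (imageAff f F hfp hfl r U).1 ≤ upperOpen f F hfp hfl r :=
  (upperOpen f F hfp hfl r).ι_image_le U.1

/-- The ideal sheaf of the stratum in the open stratum. -/
def stratIdeal : (upperOpen f F hfp hfl r).toScheme.IdealSheafData where
  ideal U := chartI f F hfp hfl r (imageAff f F hfp hfl r U)
  map_ideal_basicOpen U a := chartI_map f F hfp hfl r (imageAff f F hfp hfl r U)
    (imageAff f F hfp hfl r ((upperOpen f F hfp hfl r).toScheme.affineBasicOpen a))
    ((upperOpen f F hfp hfl r).ι.image_mono ((upperOpen f F hfp hfl r).toScheme.basicOpen_le a))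
    (imageAff_le f F hfp hfl r U)

/-- The stratum. -/
abbrev stratum : Scheme.{u} := (stratIdeal f F hfp hfl r).subscheme

/-- The immersion of the stratum. -/
def stratumι : stratum f F hfp hfl r ⟶ S :=
  (stratIdeal f F hfp hfl r).subschemeι ≫ (upperOpen f F hfp hfl r).ι

theorem isImmersion_stratumι : IsImmersion (stratumι f F hfp hfl r) := by
  unfold stratumι; infer_instance

theorem lfp_stratumι : LocallyOfFinitePresentation (stratumι f F hfp hfl r) := by
  haveI : LocallyOfFinitePresentation (stratIdeal f F hfp hfl r).subschemeι :=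
    Div89.lfp_subschemeι _ fun x _ => by
      obtain ⟨_, ⟨U, hU, rfl⟩, hxU, -⟩ :=
        (upperOpen f F hfp hfl r).toScheme.isBasis_affineOpens.exists_subset_of_mem_open (Set.mem_univ x) isOpen_univ
      exact ⟨⟨U, hU⟩, hxU, chartI_fg f F hfp hfl r _⟩
  unfold stratumι; infer_instance

theorem quasiCompact_upperOpen : QuasiCompact (upperOpen f F hfp hfl r).ι := by
  refine quasiCompact_iff_forall_isAffineOpen.2 fun V hV => ?_
  obtain ⟨gs, hgs⟩ := chartG_fg f F hfp hfl r ⟨V, hV⟩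
  have key : ((upperOpen f F hfp hfl r : Set S) ∩ V) = ⋃ a ∈ gs, (S.basicOpen a : Set S) := by
    ext s
    simp only [Set.mem_inter_iff, Set.mem_iUnion, SetLike.mem_coe, exists_prop]
    constructor
    · rintro ⟨hs, hsV⟩
      have := (mem_G_iff f F hfp hfl r ⟨V, hV⟩ hsV).2 hs
      rw [← hgs, Submodule.span_le] at this
      obtain ⟨a, ha, has⟩ := Set.not_subset.1 this
      exact ⟨a, ha, (QC70.mem_basicOpen_iff_primeCompl hV hsV a).2 has⟩
    · rintro ⟨a, ha, hs⟩
      have hsV : s ∈ V := S.basicOpen_le a hs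
      exact ⟨(mem_G_iff f F hfp hfl r ⟨V, hV⟩ hsV).1 fun hle =>
        (QC70.mem_basicOpen_iff_primeCompl hV hsV a).1 hs (hle (hgs ▸ Ideal.subset_span ha)), hsV⟩
  refine (upperOpen f F hfp hfl r).ι.isOpenEmbedding.isInducing.isCompact_iff.2 ?_
  show IsCompact ((upperOpen f F hfp hfl r).ι '' ((upperOpen f F hfp hfl r).ι ⁻¹' (V : Set S)))
  rw [Set.image_preimage_eq_inter_range, Scheme.Opens.range_ι, Set.inter_comm, key]
  exact gs.finite_toSet.isCompact_biUnion fun a _ => (hV.basicOpen a).isCompact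

theorem quasiCompact_stratumι : QuasiCompact (stratumι f F hfp hfl r) := by
  haveI := quasiCompact_upperOpen f F hfp hfl r
  unfold stratumι; infer_instance

theorem appLE_upperOpen {U : (upperOpen f F hfp hfl r).toScheme.Opens} {T : Scheme.{u}}
    (g : T ⟶ upperOpen f F hfp hfl r) {V' : T.Opens} (e₀ : V' ≤ g ⁻¹ᵁ U)
    (e : V' ≤ (g ≫ (upperOpen f F hfp hfl r).ι) ⁻¹ᵁ ((upperOpen f F hfp hfl r).ι ''ᵁ U)) :
    (g ≫ (upperOpen f F hfp hfl r).ι).appLE ((upperOpen f F hfp hfl r).ι ''ᵁ U) V' e = g.appLE U V' e₀ := by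
  have e₁ : U ≤ (upperOpen f F hfp hfl r).ι ⁻¹ᵁ ((upperOpen f F hfp hfl r).ι ''ᵁ U) :=
    ((upperOpen f F hfp hfl r).ι.preimage_image_eq U).ge
  have h := Scheme.Hom.appLE_comp_appLE g (upperOpen f F hfp hfl r).ι _ U V' e₁ e₀
  rw [Scheme.Opens.ι_appLE] at h
  rw [← h]
  refine Eq.trans ?_ (Category.id_comp _)
  congr 1
  exact (congrArg S.presheaf.map (Subsingleton.elim _ _)).trans (S.presheaf.map_id _)

set_option maxHeartbeats 1000000 in
theorem factors_iff {T : Scheme.{u}} (u : T ⟶ S) :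
    (∃ u' : T ⟶ stratum f F hfp hfl r, u' ≫ stratumι f F hfp hfl r = u) ↔ CondT f F r u := by
  constructor
  · rintro ⟨u', rfl⟩
    refine condT_of_tests f F hfp hfl r fun t => ?_
    let j : T ⟶ (upperOpen f F hfp hfl r).toScheme := u' ≫ (stratIdeal f F hfp hfl r).subschemeι
    obtain ⟨_, ⟨U, hU, rfl⟩, hxU, -⟩ :=
      (upperOpen f F hfp hfl r).toScheme.isBasis_affineOpens.exists_subset_of_mem_open (Set.mem_univ (j t)) isOpen_univ
    obtain ⟨_, ⟨V', hV', rfl⟩, htV', e₀⟩ :=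
      T.isBasis_affineOpens.exists_subset_of_mem_open (show t ∈ j ⁻¹ᵁ U from hxU) (j ⁻¹ᵁ U).2
    have eqj : u' ≫ stratumι f F hfp hfl r = j ≫ (upperOpen f F hfp hfl r).ι := (Category.assoc _ _ _).symm
    have e : V' ≤ (j ≫ (upperOpen f F hfp hfl r).ι) ⁻¹ᵁ (imageAff f F hfp hfl r ⟨U, hU⟩).1 :=
      fun z hz => ⟨j z, e₀ hz, rfl⟩
    refine ⟨imageAff f F hfp hfl r ⟨U, hU⟩, V', hV', eqj ▸ e, htV', ?_, ?_⟩
    · intro x hx
      have hle : stratIdeal f F hfp hfl r ≤ j.ker :=
        (Scheme.IdealSheafData.ker_subschemeι (stratIdeal f F hfp hfl r)).ge.trans (u'.le_ker_comp _)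
      have h0 : (j.app U).hom x = 0 := j.ideal_ker_le ⟨U, hU⟩ (hle ⟨U, hU⟩ hx)
      show ((u' ≫ stratumι f F hfp hfl r).appLE _ V' _).hom x = 0
      simp only [eqj]
      refine (congrArg (fun φ => φ.hom x) (appLE_upperOpen f F hfp hfl r j e₀ e)).trans ?_
      exact (congrArg (T.presheaf.map (homOfLE e₀).op).hom h0).trans (map_zero _)
    · rw [chartG_eq_top f F hfp hfl r _ (imageAff_le f F hfp hfl r ⟨U, hU⟩), Ideal.map_top]
  · intro hc
    have hW : Set.range u ⊆ Set.range (upperOpen f F hfp hfl r).ι := by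
      rw [Scheme.Opens.range_ι]
      rintro _ ⟨t, rfl⟩
      obtain ⟨_, ⟨V, hV, rfl⟩, htV, -⟩ :=
        S.isBasis_affineOpens.exists_subset_of_mem_open (Set.mem_univ (u t)) isOpen_univ
      obtain ⟨_, ⟨V', hV', rfl⟩, htV', e⟩ :=
        T.isBasis_affineOpens.exists_subset_of_mem_open (show t ∈ u ⁻¹ᵁ V from htV) (u ⁻¹ᵁ V).2
      have hG := (condT_necessary f F hfp hfl r ⟨V, hV⟩ hc hV' e).2
      refine (mem_G_iff f F hfp hfl r ⟨V, hV⟩ htV).1 fun hle => ?_
      refine (hV'.primeIdealOf ⟨t, htV'⟩).isPrime.ne_top (top_le_iff.1 (hG.ge.trans ?_))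
      refine Ideal.map_le_iff_le_comap.2 fun a ha => ?_
      by_contra hnot
      have h1 : t ∈ T.basicOpen ((u.appLE V V' e).hom a) :=
        (QC70.mem_basicOpen_iff_primeCompl hV' htV' _).2 hnot
      rw [Scheme.basicOpen_appLE] at h1
      exact (QC70.mem_basicOpen_iff_primeCompl hV htV a).1 h1.2 (hle ha)
    let u₀ := IsOpenImmersion.lift (upperOpen f F hfp hfl r).ι u hW
    have hu₀ : u₀ ≫ (upperOpen f F hfp hfl r).ι = u := IsOpenImmersion.lift_fac _ _ _
    have hker : stratIdeal f F hfp hfl r ≤ u₀.ker := by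
      refine Scheme.IdealSheafData.le_ofIdeals_iff.2 fun U x hx => ?_
      show (u₀.app U.1).hom x = 0
      apply T.IsSheaf.section_ext
      intro t ht
      obtain ⟨_, ⟨V', hV', rfl⟩, htV', e₀⟩ :=
        T.isBasis_affineOpens.exists_subset_of_mem_open (show t ∈ u₀ ⁻¹ᵁ U.1 from ht) (u₀ ⁻¹ᵁ U.1).2
      refine ⟨V', e₀, htV', ?_⟩
      rw [map_zero]
      have e : V' ≤ (u₀ ≫ (upperOpen f F hfp hfl r).ι) ⁻¹ᵁ (imageAff f F hfp hfl r U).1 :=
        fun z hz => ⟨u₀ z, e₀ hz, rfl⟩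
      have h0 := (condT_necessary f F hfp hfl r (imageAff f F hfp hfl r U) hc hV' (hu₀ ▸ e)).1 hx
      rw [RingHom.mem_ker] at h0
      simp only [← hu₀] at h0
      exact (congrArg (fun φ => φ.hom x) (appLE_upperOpen f F hfp hfl r u₀ e₀ e)).symm.trans h0
    refine ⟨IsClosedImmersion.lift (stratIdeal f F hfp hfl r).subschemeι u₀
      ((Scheme.IdealSheafData.ker_subschemeι (stratIdeal f F hfp hfl r)).le.trans hker), ?_⟩
    exact (Category.assoc _ _ _).symm.trans ((congrArg (· ≫ _) (IsClosedImmersion.lift_fac _ _ _)).trans hu₀)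

theorem mem_support_iff {U : (upperOpen f F hfp hfl r).toScheme.affineOpens}
    {x : (upperOpen f F hfp hfl r).toScheme} (hx : x ∈ U.1) :
    x ∈ (stratIdeal f F hfp hfl r).support ↔ r ≤ CohIII.fiberRank f F 0 ((upperOpen f F hfp hfl r).ι x) := by
  rw [Scheme.IdealSheafData.mem_support_iff_of_mem hx, Scheme.mem_zeroLocus_iff]
  have hx' : (upperOpen f F hfp hfl r).ι x ∈ (imageAff f F hfp hfl r U).1 := ⟨x, hx, rfl⟩
  rw [← mem_I_iff f F hfp hfl r (imageAff f F hfp hfl r U) hx']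
  refine forall₂_congr fun a _ => ?_
  have himg : (upperOpen f F hfp hfl r).ι ''ᵁ ((upperOpen f F hfp hfl r).toScheme.basicOpen a) =
      S.basicOpen (show Γ(S, (imageAff f F hfp hfl r U).1) from a) := by
    rw [Scheme.image_basicOpen, Scheme.Opens.ι_appIso]
    rfl
  have h1 : x ∈ (upperOpen f F hfp hfl r).toScheme.basicOpen a ↔
      (upperOpen f F hfp hfl r).ι x ∈ S.basicOpen (show Γ(S, (imageAff f F hfp hfl r U).1) from a) := by
    rw [← himg]
    exact ((upperOpen f F hfp hfl r).ι.isOpenEmbedding.injective.mem_set_image).symm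
  rw [h1, QC70.mem_basicOpen_iff_primeCompl (imageAff f F hfp hfl r U).2 hx']
  exact not_not

theorem range_stratumι : Set.range (stratumι f F hfp hfl r) = {s : S | CohIII.fiberRank f F 0 s = r} := by
  ext s
  constructor
  · rintro ⟨z, rfl⟩
    let x := (stratIdeal f F hfp hfl r).subschemeι z
    obtain ⟨_, ⟨U, hU, rfl⟩, hxU, -⟩ :=
      (upperOpen f F hfp hfl r).toScheme.isBasis_affineOpens.exists_subset_of_mem_open (Set.mem_univ x) isOpen_univ
    exact le_antisymm x.2 ((mem_support_iff f F hfp hfl r (U := ⟨U, hU⟩) hxU).1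
      (Div89.subschemeι_mem_support _ z))
  · intro hs
    let x : (upperOpen f F hfp hfl r).toScheme := ⟨s, le_of_eq hs⟩
    obtain ⟨_, ⟨U, hU, rfl⟩, hxU, -⟩ :=
      (upperOpen f F hfp hfl r).toScheme.isBasis_affineOpens.exists_subset_of_mem_open (Set.mem_univ x) isOpen_univ
    have hmem : x ∈ ((stratIdeal f F hfp hfl r).support : Set (upperOpen f F hfp hfl r).toScheme) :=
      (mem_support_iff f F hfp hfl r (U := ⟨U, hU⟩) hxU).2 (ge_of_eq hs)
    rw [← (stratIdeal f F hfp hfl r).range_subschemeι] at hmem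
    obtain ⟨z, hz⟩ := hmem
    exact ⟨z, congrArg (upperOpen f F hfp hfl r).ι hz⟩

end Groth.Agent.Mum71.Strat
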