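import Groth.Agent.Mum71.LocalModel

/-! Base change of the local models: the complex of a base change is the base change of the complex. -/

set_option autoImplicit false
set_option maxSynthPendingDepth 6
set_option synthInstance.maxHeartbeats 200000
set_option linter.style.haveILetI false
set_option backward.isDefEq.respectTransparency.types false

universe u

noncomputable section

open CategoryTheory CategoryTheory.Limits AlgebraicGeometry TopologicalSpace Opposite TensorProduct

open Groth.Agent.Coh69 Groth.Agent.CechComp71 Groth.Agent.QC70 Groth.Agent.QCPull72 Groth.Agent.FF71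

namespace Groth.Agent.Mum71

variable {X S : Scheme.{u}} {f : X ⟶ S} {F : X.Modules}

set_option maxHeartbeats 1000000 in
/-- The model given by a complex over a ring mapping to the functions of an affine open. -/
theorem exists_model_over {A₀ : Type u} [CommRing A₀] {X₀ : Scheme.{u}}
    [X₀.Over (Spec (CommRingCat.of A₀))] {ι : Type u} [Finite ι] {U : ι → X₀.Opens} {F₀ : X₀.Modules}
    [F₀.IsQuasicoherent]
    (hU : ⨆ i, U i = ⊤) (hU' : ∀ (n : ℕ) (i : Fin (n + 1) → ι), IsAffineOpen (cOpen U i))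
    {L : CochainComplex (ModuleCat.{u} A₀) ℤ} (φ : L ⟶ chCx A₀ U F₀)
    (hφ : ∀ M : ModuleCat.{u} A₀, QuasiIso
      (((MonoidalCategory.tensorRight M).mapHomologicalComplex (ComplexShape.up ℤ)).map φ))
    (hL : ∀ i, Module.Finite A₀ (L.X i) ∧ Module.Free A₀ (L.X i)) {N : ℤ} (hN : ∀ i, N < i → IsZero (L.X i))
    {V : S.Opens} (hV : IsAffineOpen V) [Algebra A₀ Γ(S, V)] {q : (f ⁻¹ᵁ V).toScheme ⟶ X₀}
    (hq : IsPullback q (affBase f hV) (X₀ ↘ Spec (CommRingCat.of A₀))
      (Spec.map (CommRingCat.ofHom (algebraMap A₀ Γ(S, V)))))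
    (e₀ : (Scheme.Modules.pullback q).obj F₀ ≅ F.restrict (f ⁻¹ᵁ V).ι) :
    ∃ (M : CohModel f F V) (e : ∀ i, M.K.X i ≃ₗ[Γ(S, V)] Γ(S, V) ⊗[A₀] L.X i),
      ∀ i j x, e j ((M.K.d i j).hom x) = (L.d i j).hom.baseChange Γ(S, V) (e i x) := by
  let W := f ⁻¹ᵁ V
  let σ := affBase f hV
  letI : W.toScheme.Over (Spec (CommRingCat.of Γ(S, V))) := ⟨σ⟩
  have hsq : IsPullback q (W.toScheme ↘ Spec (CommRingCat.of Γ(S, V))) (X₀ ↘ Spec (CommRingCat.of A₀))
      (Spec.map (CommRingCat.ofHom (algebraMap A₀ Γ(S, V)))) := hq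
  let cl : ∀ p : ℕ, LinearMap.ker (((extCx Γ(S, V) L).d (p : ℤ) ((p : ℤ) + 1)).hom) →+
      Coh.HHon X F W p := fun p => bcls hU hU' φ hsq e₀ p
  refine ⟨{
    K := extCx Γ(S, V) L
    finite := fun i => haveI := (hL i).1; inferInstanceAs (Module.Finite Γ(S, V) (Γ(S, V) ⊗[A₀] L.X i))
    free := fun i => haveI := (hL i).2; inferInstanceAs (Module.Free Γ(S, V) (Γ(S, V) ⊗[A₀] L.X i))
    bdd := ⟨N, fun i hi => haveI := ModuleCat.subsingleton_of_isZero (hN i hi)
      inferInstanceAs (Subsingleton (Γ(S, V) ⊗[A₀] L.X i))⟩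
    exact_neg := fun i hi k _ _ z hz => ?_
    cls := cl
    cls_surjective := fun p => (bcls_spec hU hU' φ hsq e₀ hφ p).1
    cls_eq_zero := fun p z => (bcls_spec hU hU' φ hsq e₀ hφ p).2 z
    cls_smul := fun p a z => ?_
    square := ?_
    fibre := ?_ }, fun i => LinearEquiv.refl _ _, fun _ _ _ => rfl⟩
  · letI : Algebra A₀ k := ((algebraMap Γ(S, V) k).comp (algebraMap A₀ Γ(S, V))).toAlgebra
    haveI : IsScalarTower A₀ Γ(S, V) k := .of_algebraMap_eq' rfl
    refine (mem_range_cancel L k (i - 1) i z).2 (baseChange_exact_of_isZero L k i (isZero_T_of_neg hφ _ i hi) _ ?_)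
    exact ((cancelX_d L k i (i + 1) z).symm.trans (congrArg _ hz)).trans (map_zero _)
  · refine (bcls_smul hU hU' φ hsq e₀ p a z).trans ?_
    show Coh.toGlobal σ a • cl p z = _
    rw [toGlobal_affBase]
    rfl
  · intro X' S' g' f' g hX V' hV' hVV' p
    letI alg : Algebra Γ(S, V) Γ(S', V') := (g.appLE V V' hVV').hom.toAlgebra
    letI : Algebra A₀ Γ(S', V') := ((algebraMap Γ(S, V) Γ(S', V')).comp (algebraMap A₀ Γ(S, V))).toAlgebra
    haveI : IsScalarTower A₀ Γ(S, V) Γ(S', V') := .of_algebraMap_eq' rfl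
    let W' := f' ⁻¹ᵁ V'
    letI : W'.toScheme.Over (Spec (CommRingCat.of Γ(S', V'))) := ⟨affBase f' hV'⟩
    have hW : W' ≤ g' ⁻¹ᵁ W := (f'.preimage_mono hVV').trans (CohCmp.sqLE f g f' g' hX.w V)
    let r := g'.resLE W W' hW
    have outer : IsPullback (W'.ι ≫ g') (affBase f' hV') f (Spec.map (g.appLE V V' hVV') ≫ hV.fromSpec) := by
      rw [hV.SpecMap_appLE_fromSpec g hV' hVV']
      exact (isPullback_affBase f' hV').paste_horiz hX
    have w : r ≫ σ = affBase f' hV' ≫ Spec.map (g.appLE V V' hVV') := by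
      rw [← cancel_mono hV.fromSpec, Category.assoc, ← (isPullback_affBase f hV).w, Category.assoc,
        ← outer.w, Scheme.Hom.resLE_comp_ι_assoc, Category.assoc]
    have hr : IsPullback r (affBase f' hV') σ (Spec.map (g.appLE V V' hVV')) := by
      refine IsPullback.of_right ?_ w (isPullback_affBase f hV)
      rwa [show r ≫ W.ι = W'.ι ≫ g' from Scheme.Hom.resLE_comp_ι g' hW]
    have hsq' : IsPullback (r ≫ q) (W'.toScheme ↘ Spec (CommRingCat.of Γ(S', V')))
        (X₀ ↘ Spec (CommRingCat.of (A₀ : Type u)))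
        (Spec.map (CommRingCat.ofHom (algebraMap A₀ Γ(S', V')))) := by
      refine (hr.paste_horiz hq).of_iso (Iso.refl _) (Iso.refl _) (Iso.refl _) (Iso.refl _) ?_ ?_ ?_ ?_
      · simp
      · rw [Iso.refl_hom, Category.comp_id]
        exact (Category.id_comp _).symm
      · rw [Iso.refl_hom, Category.comp_id]
        exact (Category.id_comp _).symm
      · rw [Iso.refl_hom, Iso.refl_hom, Category.comp_id, ← Spec.map_comp]
        exact (Category.id_comp _).symm
    refine ⟨(bcls hU hU' φ hsq' (pullModel e₀ g' hW) p).comp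
      (cancelCyc L Γ(S', V') (p : ℤ) ((p : ℤ) + 1)).toAddEquiv.toAddMonoidHom, ?_, fun z => ?_,
      fun b z => ?_, fun z z' hz' => ?_⟩
    · exact (bcls_spec hU hU' φ hsq' _ hφ p).1.comp (cancelCyc L Γ(S', V') _ _).surjective
    · exact ((bcls_spec hU hU' φ hsq' _ hφ p).2 _).trans (mem_range_cancel L Γ(S', V') _ _ z.1).symm
    · refine Eq.trans (congrArg (bcls hU hU' φ hsq' (pullModel e₀ g' hW) p)
        ((cancelCyc L Γ(S', V') (p : ℤ) ((p : ℤ) + 1)).map_smul b z)) ?_
      refine (bcls_smul hU hU' φ hsq' _ p b _).trans ?_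
      show Coh.toGlobal (affBase f' hV') b • bcls hU hU' φ hsq' (pullModel e₀ g' hW) p _ = _
      rw [toGlobal_affBase]
      rfl
    · show bcls hU hU' φ hsq' _ p (cancelCyc L Γ(S', V') _ _ z') = _
      refine Eq.trans ?_ (ores_opull_ocls g' (CohCmp.sqLE f g f' g' hX.w V) (f'.preimage_mono hVV') F
        (iSup_preU (q := q) hU) p (chCyc hU' φ hsq e₀ p z)).symm
      refine Eq.trans ?_ (opull_bcls hU hU' φ hsq e₀ g' hW hsq' w p z).symm
      refine congrArg _ (Subtype.ext ?_)
      rw [cancelCyc_val, hz']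
      exact cancelX_one_tmul L Γ(S', V') (p : ℤ) z.1
  · intro y hy p
    letI alg : Algebra Γ(S, V) (S.residueField y) := (S.evaluation V y hy).hom.toAlgebra
    letI : Algebra A₀ (S.residueField y) :=
      ((algebraMap Γ(S, V) (S.residueField y)).comp (algebraMap A₀ Γ(S, V))).toAlgebra
    haveI : IsScalarTower A₀ Γ(S, V) (S.residueField y) := .of_algebraMap_eq' rfl
    have hη : Spec.map (S.evaluation V y hy) ≫ hV.fromSpec = S.fromSpecResidueField y := by
      rw [Scheme.fromSpecResidueField, ← hV.fromSpecStalk_eq_fromSpecStalk hy, IsAffineOpen.fromSpecStalk,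
        ← Spec.map_comp_assoc]
      rfl
    have outer : IsPullback (f.fiberι y) (f.fiberToSpecResidueField y) f
        (Spec.map (S.evaluation V y hy) ≫ hV.fromSpec) := by
      rw [hη]
      exact IsPullback.of_hasPullback _ _
    let g := (isPullback_affBase f hV).lift (f.fiberι y)
      (f.fiberToSpecResidueField y ≫ Spec.map (S.evaluation V y hy)) (by rw [outer.w, Category.assoc])
    have hg : IsPullback g (f.fiberToSpecResidueField y) σ (Spec.map (S.evaluation V y hy)) :=
      outer.of_right' (isPullback_affBase f hV)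
    letI : (f.fiber y).Over (Spec (CommRingCat.of (S.residueField y))) := CohIII.fiberOver f y
    have hsqy : IsPullback (g ≫ q) (f.fiber y ↘ Spec (CommRingCat.of (S.residueField y)))
        (X₀ ↘ Spec (CommRingCat.of (A₀ : Type u)))
        (Spec.map (CommRingCat.ofHom (algebraMap A₀ (S.residueField y)))) := by
      refine (hg.paste_horiz hq).of_iso (Iso.refl _) (Iso.refl _) (Iso.refl _) (Iso.refl _) ?_ ?_ ?_ ?_
      · simp
      · rw [Iso.refl_hom, Category.comp_id]
        exact (Category.id_comp _).symm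
      · rw [Iso.refl_hom, Category.comp_id]
        exact (Category.id_comp _).symm
      · rw [Iso.refl_hom, Iso.refl_hom, Category.comp_id, ← Spec.map_comp]
        exact (Category.id_comp _).symm
    let j : (Scheme.Modules.pullback (g ≫ q)).obj F₀ ≅ CohIII.fiberMod f F y :=
      ((Scheme.Modules.pullbackComp g q).app F₀).symm ≪≫
        (Scheme.Modules.pullback g).mapIso (e₀ ≪≫ (Scheme.Modules.restrictFunctorIsoPullback W.ι).app F) ≪≫
        (Scheme.Modules.pullbackComp g W.ι).app F ≪≫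
        (Scheme.Modules.pullbackCongr ((isPullback_affBase f hV).lift_fst _ _ _)).app F
    refine ⟨(bcls hU hU' φ hsqy j p).comp
      (cancelCyc L (S.residueField y) (p : ℤ) ((p : ℤ) + 1)).toAddEquiv.toAddMonoidHom, ?_, fun z => ?_,
      fun b z => ?_⟩
    · exact (bcls_spec hU hU' φ hsqy _ hφ p).1.comp (cancelCyc L (S.residueField y) _ _).surjective
    · exact ((bcls_spec hU hU' φ hsqy _ hφ p).2 _).trans (mem_range_cancel L (S.residueField y) _ _ z.1).symm
    · refine Eq.trans (congrArg (bcls hU hU' φ hsqy j p)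
        ((cancelCyc L (S.residueField y) (p : ℤ) ((p : ℤ) + 1)).map_smul b z)) ?_
      exact bcls_smul hU hU' φ hsqy j p b _

set_option maxHeartbeats 2000000 in
/-- Local models whose complexes are compatible with base change. -/
theorem exists_cohModel_bc [IsProper f] [LocallyOfFinitePresentation f] [F.IsQuasicoherent]
    (hfp : CohB1.IsFP F) (hfl : FlatMod.IsFlatOver f F) {V : S.Opens} (hV : IsAffineOpen V) :
    ∃ M : CohModel f F V, ∀ ⦃X' S' : Scheme.{u}⦄ (g' : X' ⟶ X) (f' : X' ⟶ S') (g : S' ⟶ S)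
      (_ : IsPullback g' f' f g) (V' : S'.Opens) (_ : IsAffineOpen V') (hVV' : V' ≤ g ⁻¹ᵁ V),
      letI := (g.appLE V V' hVV').hom.toAlgebra
      ∃ (M' : CohModel f' ((Scheme.Modules.pullback g').obj F) V')
        (e : ∀ i, M'.K.X i ≃ₗ[Γ(S', V')] Γ(S', V') ⊗[Γ(S, V)] M.K.X i),
        ∀ i j x, e j ((M'.K.d i j).hom x) = (M.K.d i j).hom.baseChange Γ(S', V') (e i x) := by
  let W := f ⁻¹ᵁ V
  let σ := affBase f hV
  haveI : IsProper σ := inferInstanceAs (IsProper ((f ∣_ V) ≫ hV.isoSpec.hom))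
  haveI : LocallyOfFinitePresentation σ :=
    inferInstanceAs (LocallyOfFinitePresentation ((f ∣_ V) ≫ hV.isoSpec.hom))
  haveI : (F.restrict W.ι).IsQuasicoherent :=
    inferInstanceAs ((Scheme.Modules.restrictFunctor W.ι).obj F).IsQuasicoherent
  haveI : CohB1.IsFP (F.restrict W.ι) :=
    Props58.Ext.isFP_of_fpOn _ ((Props58.Ext.fpOn_restrict_iff W.ι ⊤).2 (Props58.Ext.fpOn_of_isFP F _))
  have hflW : FlatMod.IsFlatOver σ (F.restrict W.ι) := fun x =>
    FlatMor66.isFlatOverAt_of_iso _ ((Scheme.Modules.restrictFunctorIsoPullback W.ι).app F).symm x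
      (FlatMor66.isFlatOverAt_baseChange (isPullback_affBase f hV) F inferInstance x (hfl _))
  obtain ⟨A₀, hA₀, η₀, X₀, f₀, hf₀, F₀, hF₀, hfl₀, q, hq, ⟨e₀⟩⟩ := exists_proper_model σ (F.restrict W.ι) hflW
  haveI := hA₀
  haveI := hF₀.1
  letI : X₀.Over (Spec (CommRingCat.of (A₀ : Type u))) := ⟨f₀⟩
  haveI : IsProper (X₀ ↘ Spec (CommRingCat.of (A₀ : Type u))) := hf₀
  obtain ⟨ι, hι, U, L, φ, N, hU, hU', hL, hN, hφ⟩ := exists_model (A₀ : Type u) F₀ hF₀ hfl₀
  haveI := hι
  letI : Algebra A₀ Γ(S, V) := η₀.hom.toAlgebra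
  letI : W.toScheme.Over (Spec (CommRingCat.of Γ(S, V))) := ⟨σ⟩
  have hsq : IsPullback q (W.toScheme ↘ Spec (CommRingCat.of Γ(S, V))) (X₀ ↘ Spec (CommRingCat.of (A₀ : Type u)))
      (Spec.map (CommRingCat.ofHom (algebraMap A₀ Γ(S, V)))) := hq
  obtain ⟨M, eM, heM⟩ := exists_model_over hU hU' φ hφ hL hN hV hq e₀
  refine ⟨M, fun X' S' g' f' g hX V' hV' hVV' => ?_⟩
  letI alg : Algebra Γ(S, V) Γ(S', V') := (g.appLE V V' hVV').hom.toAlgebra
  letI : Algebra A₀ Γ(S', V') := ((algebraMap Γ(S, V) Γ(S', V')).comp (algebraMap A₀ Γ(S, V))).toAlgebra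
  haveI : IsScalarTower A₀ Γ(S, V) Γ(S', V') := .of_algebraMap_eq' rfl
  let W' := f' ⁻¹ᵁ V'
  have hW : W' ≤ g' ⁻¹ᵁ W := (f'.preimage_mono hVV').trans (CohCmp.sqLE f g f' g' hX.w V)
  let r := g'.resLE W W' hW
  have outer : IsPullback (W'.ι ≫ g') (affBase f' hV') f (Spec.map (g.appLE V V' hVV') ≫ hV.fromSpec) := by
    rw [hV.SpecMap_appLE_fromSpec g hV' hVV']
    exact (isPullback_affBase f' hV').paste_horiz hX
  have w : r ≫ σ = affBase f' hV' ≫ Spec.map (g.appLE V V' hVV') := by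
    rw [← cancel_mono hV.fromSpec, Category.assoc, ← (isPullback_affBase f hV).w, Category.assoc,
      ← outer.w, Scheme.Hom.resLE_comp_ι_assoc, Category.assoc]
  have hr : IsPullback r (affBase f' hV') σ (Spec.map (g.appLE V V' hVV')) := by
    refine IsPullback.of_right ?_ w (isPullback_affBase f hV)
    rwa [show r ≫ W.ι = W'.ι ≫ g' from Scheme.Hom.resLE_comp_ι g' hW]
  have hsq' : IsPullback (r ≫ q) (affBase f' hV')
      (X₀ ↘ Spec (CommRingCat.of (A₀ : Type u)))
      (Spec.map (CommRingCat.ofHom (algebraMap A₀ Γ(S', V')))) := by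
    refine (hr.paste_horiz hq).of_iso (Iso.refl _) (Iso.refl _) (Iso.refl _) (Iso.refl _) ?_ ?_ ?_ ?_
    · simp
    · rw [Iso.refl_hom, Category.comp_id]
      exact (Category.id_comp _).symm
    · rw [Iso.refl_hom, Category.comp_id]
      exact (Category.id_comp _).symm
    · rw [Iso.refl_hom, Iso.refl_hom, Category.comp_id, ← Spec.map_comp]
      exact (Category.id_comp _).symm
  obtain ⟨M', e', he'⟩ := exists_model_over hU hU' φ hφ hL hN hV' hsq' (pullModel e₀ g' hW)
  let T := fun i => (eM i).baseChange Γ(S, V) Γ(S', V') (M.K.X i) (Γ(S, V) ⊗[A₀] L.X i)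
  have hT : ∀ i j y, T j ((M.K.d i j).hom.baseChange Γ(S', V') y) =
      ((L.d i j).hom.baseChange Γ(S, V)).baseChange Γ(S', V') (T i y) := fun i j y => by
    induction y with
    | zero => simp only [map_zero]
    | add x y hx hy => simp only [map_add, hx, hy]
    | tmul b m =>
      show T j (b ⊗ₜ (M.K.d i j).hom m) = ((L.d i j).hom.baseChange Γ(S, V)).baseChange Γ(S', V') (T i (b ⊗ₜ m))
      simp only [T, LinearEquiv.baseChange_tmul, LinearMap.baseChange_tmul, heM]
  refine ⟨M', fun i => (e' i).trans ((cancelX L Γ(S', V') i).symm.trans (T i).symm), fun i j x => ?_⟩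
  apply (T j).injective
  rw [hT i j]
  simp only [LinearEquiv.trans_apply, LinearEquiv.apply_symm_apply]
  apply (cancelX L Γ(S', V') j).injective
  rw [LinearEquiv.apply_symm_apply, cancelX_d, LinearEquiv.apply_symm_apply]
  exact he' i j x

end Groth.Agent.Mum71
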