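import Groth.Agent.S2373
import Groth.Agent.S14613
import Groth.Agent.DR39.Elem
import Groth.Prelude.Def_ega3
import Mathlib.Algebra.Homology.CochainComplexOpposite

/-! Finite free models of complexes of flat modules which are universally exact above a degree. -/

set_option autoImplicit false
set_option linter.style.haveILetI false

universe u

noncomputable section

open CategoryTheory CategoryTheory.Limits TensorProduct
open Function (Injective Surjective Exact Bijective)

namespace Groth.Agent.Mum71

variable {A : Type u} [CommRing A] (C : CochainComplex (ModuleCat.{u} A) ℤ)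

/-- Exactness in a degree after tensoring with any module. -/
def UExact (i : ℤ) : Prop :=
  ∀ (M : Type u) [AddCommGroup M] [Module A M] (x : C.X i ⊗[A] M),
    (C.d i (i + 1)).hom.rTensor M x = 0 → x ∈ LinearMap.range ((C.d (i - 1) i).hom.rTensor M)

/-- The terms of the truncation above `N`. -/
def truncSub (N i : ℤ) : Submodule A (C.X i) :=
  if i < N then ⊤ else if i = N then LinearMap.ker (C.d i (i + 1)).hom else ⊥

variable {C}

lemma truncSub_of_lt {N i : ℤ} (h : i < N) : truncSub C N i = ⊤ := if_pos h

lemma truncSub_self (N : ℤ) : truncSub C N N = LinearMap.ker (C.d N (N + 1)).hom := by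
  simp [truncSub]

lemma truncSub_of_gt {N i : ℤ} (h : N < i) : truncSub C N i = ⊥ := by
  simp [truncSub, h.not_gt, h.ne']

lemma d_mem_truncSub (N i j : ℤ) (x : C.X i) (hx : x ∈ truncSub C N i) :
    (C.d i j).hom x ∈ truncSub C N j := by
  by_cases h : i + 1 = j
  · subst h
    rcases lt_trichotomy i N with hi | rfl | hi
    · rcases lt_or_eq_of_le (show i + 1 ≤ N by omega) with h' | h'
      · simp [truncSub_of_lt h']
      · subst h'
        rw [truncSub_self]
        exact ConcreteCategory.congr_hom (C.d_comp_d i (i + 1) (i + 1 + 1)) x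
    · rw [truncSub_self] at hx
      rw [LinearMap.mem_ker.1 hx]
      exact zero_mem _
    · rw [truncSub_of_gt hi] at hx
      rw [(Submodule.mem_bot A).1 hx, map_zero]
      exact zero_mem _
  · rw [C.shape i j h]
    exact zero_mem _

variable (C) in
/-- The truncation above `N`. -/
def trunc (N : ℤ) : CochainComplex (ModuleCat.{u} A) ℤ where
  X i := ModuleCat.of A (truncSub C N i)
  d i j := ModuleCat.ofHom ((C.d i j).hom.restrict (fun x hx => d_mem_truncSub N i j x hx))
  shape i j h := by
    ext x
    exact LinearMap.congr_fun (congrArg ModuleCat.Hom.hom (C.shape i j h)) x.1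
  d_comp_d' i j k _ _ := by
    ext x
    exact ConcreteCategory.congr_hom (C.d_comp_d i j k) x.1

variable (C) in
/-- The inclusion of the truncation. -/
def truncι (N : ℤ) : trunc C N ⟶ C where
  f i := ModuleCat.ofHom (truncSub C N i).subtype
  comm' _ _ _ := by ext x; rfl

lemma isZero_trunc {N i : ℤ} (h : N < i) : IsZero ((trunc C N).X i) := by
  have : Subsingleton ((trunc C N).X i) := by
    show Subsingleton (truncSub C N i)
    rw [truncSub_of_gt h]; infer_instance
  exact ModuleCat.isZero_of_subsingleton _

lemma isZero_trunc_of_isZero {N i : ℤ} (h : IsZero (C.X i)) : IsZero ((trunc C N).X i) := by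
  have : Subsingleton (C.X i) := ModuleCat.subsingleton_of_isZero h
  have : Subsingleton ((trunc C N).X i) := (Subtype.coe_injective (p := (· ∈ truncSub C N i))).subsingleton
  exact ModuleCat.isZero_of_subsingleton _

section

variable (hflat : ∀ i, Module.Flat A (C.X i)) {N : ℤ} (hex : ∀ i, N < i → UExact C i)

include hflat hex

lemma flat_coker_d : Module.Flat A (C.X (N + 1) ⧸ LinearMap.range (C.d N (N + 1)).hom) := by
  have := hflat (N + 1 + 1)
  rw [← FCx40.bdReflect_iff_flat]
  intro M' M _ _ _ _ ι hι y ⟨x, hx⟩
  have h : (C.d (N + 1) (N + 1 + 1)).hom.rTensor M' y = 0 := by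
    apply Module.Flat.lTensor_preserves_injective_linearMap (M := C.X (N + 1 + 1)) ι hι
    rw [map_zero, ← FCx40.comm_rTensor_lTensor, ← hx, ← LinearMap.comp_apply, ← LinearMap.rTensor_comp,
      ← ModuleCat.hom_comp, C.d_comp_d, ModuleCat.hom_zero, LinearMap.rTensor_zero]
    rfl
  have := hex (N + 1) (by omega) M' y h
  rwa [show N + 1 - 1 = N by omega] at this

lemma flat_trunc (i : ℤ) : Module.Flat A ((trunc C N).X i) := by
  show Module.Flat A (truncSub C N i)
  rcases lt_trichotomy i N with hi | rfl | hi
  · haveI := hflat i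
    rw [truncSub_of_lt hi]
    exact Module.Flat.of_linearEquiv Submodule.topEquiv
  · haveI := hflat i
    haveI := hflat (i + 1)
    haveI := flat_coker_d hflat hex
    haveI := FCx40.flat_range (C.d i (i + 1)).hom
    rw [truncSub_self]
    exact FCx40.flat_of_exact_of_flat (Submodule.injective_subtype _)
      (by rw [LinearMap.exact_iff, LinearMap.ker_rangeRestrict, Submodule.range_subtype])
      (C.d i (i + 1)).hom.surjective_rangeRestrict
  · rw [truncSub_of_gt hi]
    infer_instance

lemma quasiIso_tensor_truncι (M : ModuleCat.{u} A) :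
    QuasiIso (((MonoidalCategory.tensorRight M).mapHomologicalComplex (ComplexShape.up ℤ)).map
      (truncι C N)) := by
  have hinj : ∀ i, i ≤ N → Injective ((truncSub C N i).subtype.rTensor M) := fun i hi => by
    rcases lt_or_eq_of_le hi with h | rfl
    · rw [truncSub_of_lt h]
      exact ((Submodule.topEquiv (R := A) (M := C.X i)).rTensor M).injective
    · haveI := hflat (i + 1)
      haveI := flat_coker_d hflat hex
      rw [truncSub_self]
      exact (FCx40.rTensor_ker_of_flat_coker _ M).1
  have hsurj : ∀ i, i < N → Surjective ((truncSub C N i).subtype.rTensor M) := fun i hi => by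
    rw [truncSub_of_lt hi]
    exact ((Submodule.topEquiv (R := A) (M := C.X i)).rTensor M).surjective
  have hcomm : ∀ i j (x : truncSub C N i ⊗[A] M),
      (truncSub C N j).subtype.rTensor M (((trunc C N).d i j).hom.rTensor M x) =
        (C.d i j).hom.rTensor M ((truncSub C N i).subtype.rTensor M x) := fun i j x => by
    erw [← LinearMap.rTensor_comp_apply, ← LinearMap.rTensor_comp_apply]
    rfl
  refine ⟨fun i => DR39.quasiIsoAt_of_elements _ _ ?_ ?_⟩
  · intro x _ y hy
    by_cases hi : i ≤ N
    · obtain ⟨w, hw⟩ := hsurj (i - 1) (by omega) y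
      refine ⟨w, hinj i hi ?_⟩
      exact (hcomm (i - 1) i w).trans ((congrArg _ hw).trans hy)
    · haveI := ModuleCat.subsingleton_of_isZero (isZero_trunc (C := C) (not_le.1 hi))
      exact ⟨0, @Subsingleton.elim ((trunc C N).X i ⊗[A] M) _ _ _⟩
  · intro z hz
    rcases lt_trichotomy i N with hi | rfl | hi
    · obtain ⟨w, hw⟩ := hsurj i hi z
      refine ⟨w, hinj (i + 1) (by omega) ?_, 0, ?_⟩
      · exact (hcomm i (i + 1) w).trans (((congrArg _ hw).trans hz).trans (map_zero _).symm)
      · exact (map_zero _).trans (sub_eq_zero.2 hw).symm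
    · haveI := hflat (i + 1)
      haveI := flat_coker_d hflat hex
      have hk : Exact ((truncSub C i i).subtype.rTensor M) ((C.d i (i + 1)).hom.rTensor M) := by
        rw [truncSub_self]
        exact (FCx40.rTensor_ker_of_flat_coker _ M).2
      obtain ⟨w, hw⟩ := (hk z).1 hz
      haveI := ModuleCat.subsingleton_of_isZero (isZero_trunc (C := C) (N := i) (i := i + 1) (by omega))
      exact ⟨w, @Subsingleton.elim ((trunc C i).X (i + 1) ⊗[A] M) _ _ _, 0,
        (map_zero _).trans (sub_eq_zero.2 hw).symm⟩
    · obtain ⟨y, hy⟩ := hex i hi M z hz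
      refine ⟨0, map_zero _, -y, ?_⟩
      refine ((map_neg _ y).trans (congrArg Neg.neg hy)).trans ?_
      exact (zero_sub z).symm.trans (congrArg (· - z) (map_zero _).symm)

end

/-- A complex of flat modules with finite cohomology, universally exact above `N`, has a finite free
model computing its cohomology with any coefficients. -/
theorem exists_finite_free [IsNoetherianRing A] (hflat : ∀ i, Module.Flat A (C.X i))
    (hfin : ∀ i, Module.Finite A (C.homology i)) {N : ℤ} (hex : ∀ i, N < i → UExact C i) :
    ∃ (L : CochainComplex (ModuleCat.{u} A) ℤ) (φ : L ⟶ C),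
      (∀ i, Module.Finite A (L.X i) ∧ Module.Free A (L.X i)) ∧ (∀ i, N < i → IsZero (L.X i)) ∧
      ∀ M : ModuleCat.{u} A, QuasiIso
        (((MonoidalCategory.tensorRight M).mapHomologicalComplex (ComplexShape.up ℤ)).map φ) := by
  let E := ChainComplex.cochainComplexEquivalence (ModuleCat.{u} A)
  let P := E.inverse.obj (trunc C N)
  have htr : QuasiIso (truncι C N) := by
    refine ⟨fun i => DR39.quasiIsoAt_of_elements _ _ ?_ ?_⟩
    · intro x _ y hy
      by_cases hi : i ≤ N
      · exact ⟨⟨y, by rw [truncSub_of_lt (show i - 1 < N by omega)]; trivial⟩, Subtype.ext hy⟩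
      · haveI := ModuleCat.subsingleton_of_isZero (isZero_trunc (C := C) (not_le.1 hi))
        exact ⟨0, Subsingleton.elim _ _⟩
    · intro z hz
      by_cases hi : i ≤ N
      · have hzm : z ∈ truncSub C N i := by
          rcases lt_or_eq_of_le hi with h | rfl
          · rw [truncSub_of_lt h]; trivial
          · rw [truncSub_self]; exact hz
        refine ⟨⟨z, hzm⟩, Subtype.ext hz, 0, ?_⟩
        exact (map_zero _).trans (sub_self _).symm
      · obtain ⟨w, hw⟩ := hex i (not_le.1 hi) A (z ⊗ₜ 1) (by simp [hz])
        refine ⟨0, map_zero _, -TensorProduct.rid A _ w, ?_⟩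
        have h := congrArg (TensorProduct.rid A _) hw
        rw [TensorProduct.rid_tmul, one_smul] at h
        have h2 : ∀ w, TensorProduct.rid A _ ((C.d (i - 1) i).hom.rTensor A w) =
            (C.d (i - 1) i).hom (TensorProduct.rid A _ w) := fun w => by
          induction w using TensorProduct.induction_on with
          | zero => simp
          | tmul a b => simp
          | add a b ha hb => simp [ha, hb]
        rw [map_zero, zero_sub, map_neg, ← h, h2]
  have hP : ∀ j : ℤ, Nonempty (P.homology j ≅ (trunc C N).homology (-j)) := fun j =>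
    ⟨(trunc C N).restrictionHomologyIso (ComplexShape.embeddingDownIntUpInt) (j + 1) j (j - 1)
      (by simp) (by simp) (i' := -(j + 1)) (j' := -j) (k' := -(j - 1)) rfl rfl rfl (by simp; omega)
      (by simp; omega)⟩
  obtain ⟨Q, u, hQ, hQ0, hu⟩ := S2373.result P (fun j => by
      obtain ⟨e⟩ := hP j
      haveI := hfin (-j)
      exact Module.Finite.equiv (e ≪≫ asIso (HomologicalComplex.homologyMap (truncι C N) (-j))).toLinearEquiv.symm)
    (-N) (fun j hj => by
      obtain ⟨e⟩ := hP j
      exact (HomologicalComplex.ExactAt.isZero_homology (K := trunc C N)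
        ((HomologicalComplex.exactAt_iff _ _).2 (ShortComplex.exact_of_isZero_X₂ _
          (isZero_trunc (C := C) (show N < -j by omega))))).of_iso e)
  let L := E.functor.obj Q
  let v : L ⟶ trunc C N := E.functor.map u ≫ E.counitIso.hom.app _
  refine ⟨L, v ≫ truncι C N, fun i => hQ _, fun i hi => hQ0 _ (by
    simp [ComplexShape.embeddingUpIntDownInt]; omega), fun M => ?_⟩
  haveI : QuasiIso v := by
    haveI : QuasiIso (E.functor.map u) := by
      refine ⟨fun i => ?_⟩
      rw [quasiIsoAt_iff' _ (i - 1) i (i + 1) (by simp) (by simp)]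
      have h := hu.quasiIsoAt (-i)
      rw [quasiIsoAt_iff' _ (-(i - 1)) (-i) (-(i + 1)) (by simp; omega) (by simp; omega)] at h
      exact h
    infer_instance
  haveI := S14613.result A L (trunc C N)
    (fun i => by haveI := (hQ (-i)).2; exact (inferInstanceAs (Module.Flat A (Q.X (-i)))))
    (flat_trunc hflat hex) ⟨N, fun i hi => hQ0 _ (by
      simp [ComplexShape.embeddingUpIntDownInt]; omega)⟩ ⟨N, fun i hi => isZero_trunc hi⟩ v M
  haveI := quasiIso_tensor_truncι hflat hex M
  rw [Functor.map_comp]
  infer_instance

end Groth.Agent.Mum71
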