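import Groth.Agent.Mum71.SquareLin
import Groth.Agent.Mum71.OnCoc

/-! Classes of cycles of the complex on every base change, with their pullbacks. -/

set_option autoImplicit false
set_option maxSynthPendingDepth 6
set_option synthInstance.maxHeartbeats 200000
set_option linter.style.haveILetI false
set_option backward.isDefEq.respectTransparency.types false

universe u

noncomputable section

open CategoryTheory CategoryTheory.Limits AlgebraicGeometry TopologicalSpace Opposite TensorProduct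
open CohIII (T tensorObj)

namespace Groth.Agent.Mum71

open Coh69 CechComp71 QC70 QCPull72 FF71

variable {A₀ : Type u} [CommRing A₀] {X₀ : Scheme.{u}} [X₀.Over (Spec (CommRingCat.of A₀))]
  {ι : Type u} [Finite ι] {U : ι → X₀.Opens} {F₀ : X₀.Modules} [F₀.IsQuasicoherent]
  (hU : ⨆ i, U i = ⊤) (hU' : ∀ (n : ℕ) (i : Fin (n + 1) → ι), IsAffineOpen (cOpen U i))
  {L : CochainComplex (ModuleCat.{u} A₀) ℤ} (φ : L ⟶ chCx A₀ U F₀)

section Square

variable {B : Type u} [CommRing B] [Algebra A₀ B] {X' : Scheme.{u}} [X'.Over (Spec (CommRingCat.of B))]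
  {q : X' ⟶ X₀}
  (hsq : IsPullback q (X' ↘ Spec (CommRingCat.of B)) (X₀ ↘ Spec (CommRingCat.of A₀))
    (Spec.map (CommRingCat.ofHom (algebraMap A₀ B))))
  {N : X'.Modules} (j : (Scheme.Modules.pullback q).obj F₀ ≅ N)

/-- The cochain of a chain of the complex, as a map of `A₀`-modules. -/
def φLin (p : ℕ) : L.X (p : ℤ) →ₗ[A₀] Ch U F₀ p := (φ.f (p : ℤ)).hom

/-- Cochains on a base change. -/
def chMap (p : ℕ) : B ⊗[A₀] L.X (p : ℤ) →+ Cochain (preU q U) N.presheaf p :=
  (cmap (preU q U) ((SheafOfModules.toSheaf X'.ringCatSheaf).map j.hom).hom p).comp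
    (((sqBCoef hsq F₀ hU').Φ p).toAddMonoidHom.comp
      (((φLin φ p).rTensor B).toAddMonoidHom.comp (TensorProduct.comm A₀ B (L.X (p : ℤ))).toAddMonoidHom))

lemma chMap_tmul (p : ℕ) (b : B) (c : L.X (p : ℤ)) (i : Fin (p + 1) → ι) :
    chMap hU' φ hsq j p (b ⊗ₜ c) i = rA B X' (cOpen (preU q U) i) b •
      j.hom.app (cOpen (preU q U) i) (unitSec q F₀ (cOpen_preU q i).le (φLin φ p c i)) := by
  refine Eq.trans (congrArg (j.hom.app (cOpen (preU q U) i))
    (((sqBCoef hsq F₀ hU').Φ_tmul p (φLin φ p c) b i).trans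
      (sqBEquiv_tmul hsq (hU' p i) (cOpen_preU q i) (φLin φ p c i) b))) ?_
  exact Scheme.Modules.Hom.app_smul j.hom _ _

/-- Cycles on a base change. -/
abbrev bCyc (p : ℕ) : Submodule B (B ⊗[A₀] L.X (p : ℤ)) :=
  LinearMap.ker ((L.d (p : ℤ) ((p : ℤ) + 1)).hom.baseChange B)

omit [Finite ι] in
lemma rTensor_comm_baseChange {M N' : Type u} [AddCommGroup M] [Module A₀ M] [AddCommGroup N'] [Module A₀ N']
    (f : M →ₗ[A₀] N') (x : B ⊗[A₀] M) :
    f.rTensor B (TensorProduct.comm A₀ B M x) = TensorProduct.comm A₀ B N' (f.baseChange B x) := by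
  induction x with
  | zero => simp only [map_zero]
  | add x y hx hy => simp only [map_add, hx, hy]
  | tmul b y => rfl

omit [Finite ι] in
variable (B) in
/-- Cycles on a base change, with the factors in the other order. -/
def bCycComm (p : ℕ) :
    bCyc (L := L) (B := B) p →+ LinearMap.ker ((tensorObj L (ModuleCat.of A₀ B)).d (p : ℤ) ((p : ℤ) + 1)).hom :=
  AddMonoidHom.mk' (fun z => ⟨TensorProduct.comm A₀ B (L.X (p : ℤ)) z.1,
    (rTensor_comm_baseChange (L.d (p : ℤ) ((p : ℤ) + 1)).hom z.1).trans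
      ((congrArg _ z.2).trans (map_zero _))⟩) fun z z' =>
    Subtype.ext (map_add (TensorProduct.comm A₀ B (L.X (p : ℤ))) z.1 z'.1)

/-- The map induced by `φ` with coefficients in `B`. -/
abbrev φB : tensorObj L (ModuleCat.of A₀ B) ⟶ tensorObj (chCx A₀ U F₀) (ModuleCat.of A₀ B) :=
  ((MonoidalCategory.tensorRight (ModuleCat.of A₀ B)).mapHomologicalComplex (ComplexShape.up ℤ)).map φ

/-- The cocycle of a cycle. -/
def chCyc (p : ℕ) (z : bCyc (L := L) (B := B) p) : MZ (preU q U) N p :=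
  zmap ((SheafOfModules.toSheaf X'.ringCatSheaf).map j.hom) p
    ((sqBCoef hsq F₀ hU').cyc p ⟨((φB (B := B) φ).f (p : ℤ)).hom (bCycComm B p z).1,
      FCx40.map_mem_ker (φB (B := B) φ) (bCycComm B p z)⟩)

lemma chCyc_val (p : ℕ) (z : bCyc (L := L) (B := B) p) :
    (chCyc hU' φ hsq j p z).1 = chMap hU' φ hsq j p z.1 := rfl

include hU in
omit [Finite ι] [F₀.IsQuasicoherent] in
lemma iSup_preU : ⨆ i, preU q U i = ⊤ := by
  show ⨆ i, q ⁻¹ᵁ U i = ⊤
  rw [← Scheme.Hom.preimage_iSup, hU]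
  rfl

/-- The class of a cycle. -/
def bcls (p : ℕ) : bCyc (L := L) (B := B) p →+ Coh.HH X' N p :=
  (toHH (preU q U) (iSup_preU hU) N p).comp
    (AddMonoidHom.mk' (chCyc hU' φ hsq j p) fun z z' => Subtype.ext (by
      rw [chCyc_val, AddSubgroup.coe_add, chCyc_val, chCyc_val, Submodule.coe_add, map_add]
      rfl))

lemma bcls_apply (p : ℕ) (z : bCyc (L := L) (B := B) p) :
    bcls hU hU' φ hsq j p z = toHH (preU q U) (iSup_preU hU) N p (chCyc hU' φ hsq j p z) := rfl

lemma chMap_smul (p : ℕ) (b : B) (x : B ⊗[A₀] L.X (p : ℤ)) :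
    chMap hU' φ hsq j p (b • x) = smulC (A := B) (preU q U) N p b (chMap hU' φ hsq j p x) := by
  induction x with
  | zero => rw [smul_zero, map_zero, map_zero]
  | add x y hx hy => rw [smul_add, map_add, map_add, hx, hy, map_add]
  | tmul b' c =>
    funext i
    rw [TensorProduct.smul_tmul', smulC_apply, chMap_tmul, chMap_tmul, smul_eq_mul, map_mul, mul_smul]

lemma bcls_smul (p : ℕ) (b : B) (z : bCyc (L := L) (B := B) p) :
    bcls hU hU' φ hsq j p (b • z) = b • bcls hU hU' φ hsq j p z := by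
  rw [bcls_apply, bcls_apply, ← toHH_smulZ]
  congr 1
  refine Subtype.ext ?_
  rw [smulZ_val, chCyc_val, chCyc_val]
  exact chMap_smul hU' φ hsq j p b z.1

variable (hφ : ∀ M : ModuleCat.{u} A₀, QuasiIso
    (((MonoidalCategory.tensorRight M).mapHomologicalComplex (ComplexShape.up ℤ)).map φ))

include hφ in
theorem bcls_spec (p : ℕ) :
    Function.Surjective (bcls hU hU' φ hsq j p) ∧ ∀ z, bcls hU hU' φ hsq j p z = 0 ↔
      z.1 ∈ LinearMap.range ((L.d ((p : ℤ) - 1) (p : ℤ)).hom.baseChange B) := by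
  haveI := isAffineHom_of_sq hsq
  haveI : ((Scheme.Modules.pullback q).obj F₀).IsQuasicoherent := isQuasicoherent_pullback _ _
  have hac : AcyclicOn (preU q U) (Coh.toAb ((Scheme.Modules.pullback q).obj F₀)) :=
    acyclicOn_of_isAffineOpen _ _ fun n i => by
      rw [cOpen_preU]
      exact (hU' n i).preimage _
  obtain ⟨e, he⟩ := (sqBCoef hsq F₀ hU').exists_equiv (iSup_preU hU) hac p
  haveI := hφ (ModuleCat.of A₀ B)
  haveI : IsIso (HomologicalComplex.homologyMap (φB (B := B) φ) (p : ℤ)) :=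
    (quasiIsoAt_iff_isIso_homologyMap _ _).1 ((hφ (ModuleCat.of A₀ B)).quasiIsoAt _)
  let ψ := (asIso (HomologicalComplex.homologyMap (φB (B := B) φ) (p : ℤ))).toLinearEquiv
  obtain ⟨E, hE⟩ : ∃ E : Coh.HH X' ((Scheme.Modules.pullback q).obj F₀) p ≃+ Coh.HH X' N p,
      ∀ x, E x = Sheaf.H.map ((SheafOfModules.toSheaf X'.ringCatSheaf).map j.hom) p x :=
    ⟨((SheafOfModules.toSheaf X'.ringCatSheaf ⋙
      Sheaf.functorH (Opens.grothendieckTopology X') p).mapIso j).addCommGroupIsoToAddEquiv, fun _ => rfl⟩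
  let cl := FCx40.hcls (tensorObj L (ModuleCat.of A₀ B)) (p : ℤ) ((p : ℤ) + 1) (CochainComplex.next ℤ (p : ℤ))
  have key : ∀ z, bcls hU hU' φ hsq j p z = E (e (ψ (cl (bCycComm B p z)))) := fun z => by
    rw [hE, show ψ (cl (bCycComm B p z)) = _ from FCx40.hcls_map (φB (B := B) φ) _ _, he]
    exact toHH_natural _ _ _ p _
  refine ⟨fun y => ?_, fun z => ?_⟩
  · obtain ⟨w, hw⟩ := FCx40.hcls_surjective (K := tensorObj L (ModuleCat.of A₀ B))
      (CochainComplex.next ℤ (p : ℤ)) (ψ.symm (e.symm (E.symm y)))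
    refine ⟨⟨(TensorProduct.comm A₀ B (L.X (p : ℤ))).symm w.1, ?_⟩, (key _).trans ?_⟩
    · rw [LinearMap.mem_ker]
      apply (TensorProduct.comm A₀ B (L.X ((p : ℤ) + 1))).injective
      rw [← rTensor_comm_baseChange, LinearEquiv.apply_symm_apply, map_zero]
      exact w.2
    · rw [show bCycComm B p ⟨(TensorProduct.comm A₀ B (L.X (p : ℤ))).symm w.1, _⟩ = w from
        Subtype.ext (LinearEquiv.apply_symm_apply _ _), hw, LinearEquiv.apply_symm_apply,
        AddEquiv.apply_symm_apply, AddEquiv.apply_symm_apply]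
  · rw [key, map_eq_zero_iff E E.injective, map_eq_zero_iff e e.injective, map_eq_zero_iff ψ ψ.injective,
      FCx40.hcls_eq_zero_iff (i := (p : ℤ) - 1) (CochainComplex.prev ℤ (p : ℤ))]
    constructor
    · rintro ⟨w, hw⟩
      refine ⟨(TensorProduct.comm A₀ B (L.X ((p : ℤ) - 1))).symm w,
        (TensorProduct.comm A₀ B (L.X (p : ℤ))).injective ?_⟩
      rw [← rTensor_comm_baseChange, LinearEquiv.apply_symm_apply]
      exact hw
    · rintro ⟨w, hw⟩
      exact ⟨TensorProduct.comm A₀ B (L.X ((p : ℤ) - 1)) w,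
        (rTensor_comm_baseChange _ w).trans (congrArg _ hw)⟩

end Square

section Pullback

variable {A B : Type u} [CommRing A] [CommRing B] [Algebra A₀ A] [Algebra A₀ B] [Algebra A B]
  [IsScalarTower A₀ A B] {X Y : Scheme.{u}} {W : X.Opens} {W' : Y.Opens} {F : X.Modules}
  [W.toScheme.Over (Spec (CommRingCat.of A))] [W'.toScheme.Over (Spec (CommRingCat.of B))]
  {q : W.toScheme ⟶ X₀}
  (hsq : IsPullback q (W.toScheme ↘ Spec (CommRingCat.of A)) (X₀ ↘ Spec (CommRingCat.of A₀))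
    (Spec.map (CommRingCat.ofHom (algebraMap A₀ A))))
  (j : (Scheme.Modules.pullback q).obj F₀ ≅ F.restrict W.ι)
  (g : Y ⟶ X) (h : W' ≤ g ⁻¹ᵁ W)
  (hsq' : IsPullback (g.resLE W W' h ≫ q) (W'.toScheme ↘ Spec (CommRingCat.of B))
    (X₀ ↘ Spec (CommRingCat.of A₀)) (Spec.map (CommRingCat.ofHom (algebraMap A₀ B))))

/-- The model of the pullback. -/
def pullModel : (Scheme.Modules.pullback (g.resLE W W' h ≫ q)).obj F₀ ≅
    ((Scheme.Modules.pullback g).obj F).restrict W'.ι :=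
  ((Scheme.Modules.pullbackComp (g.resLE W W' h) q).app F₀).symm ≪≫
    (Scheme.Modules.pullback (g.resLE W W' h)).mapIso j ≪≫ CohPull.pullOnIso g W W' h F

omit [Finite ι] [F₀.IsQuasicoherent] in
lemma pullModel_unitSec {O : X₀.Opens} {O₁ : W.toScheme.Opens} {O₂ : W'.toScheme.Opens}
    (e₁ : O₁ ≤ q ⁻¹ᵁ O) (e₂ : O₂ ≤ g.resLE W W' h ⁻¹ᵁ O₁) (e : O₂ ≤ (g.resLE W W' h ≫ q) ⁻¹ᵁ O)
    (c : Γ(F₀, O)) :
    (pullModel j g h).hom.app O₂ (unitSec (g.resLE W W' h ≫ q) F₀ e c) =
      (CohPull.pullOnIso g W W' h F).hom.app O₂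
        (unitSec (g.resLE W W' h) (F.restrict W.ι) e₂ (j.hom.app O₁ (unitSec q F₀ e₁ c))) := by
  show (CohPull.pullOnIso g W W' h F).hom.app O₂ (((Scheme.Modules.pullback (g.resLE W W' h)).map j.hom).app O₂
    (((Scheme.Modules.pullbackComp (g.resLE W W' h) q).app F₀).inv.app O₂
      (unitSec (g.resLE W W' h ≫ q) F₀ e c))) = _
  rw [← pullbackComp_unitSec (g.resLE W W' h) q F₀ e₂ e₁ e c]
  refine congrArg _ ((congrArg _ ?_).trans (pullback_map_unitSec (g.resLE W W' h) j.hom e₂ _))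
  exact congr(Scheme.Modules.Hom.app
    $(((Scheme.Modules.pullbackComp (g.resLE W W' h) q).app F₀).hom_inv_id) O₂
    (unitSec (g.resLE W W' h) ((Scheme.Modules.pullback q).obj F₀) e₂ (unitSec q F₀ e₁ c)))

variable (A B) in
/-- Functoriality of chains in the coefficients. -/
def coefMap (p : ℤ) : A ⊗[A₀] L.X p →ₗ[A₀] B ⊗[A₀] L.X p :=
  (IsScalarTower.toAlgHom A₀ A B).toLinearMap.rTensor (L.X p)

omit [Finite ι] in
variable (L) (A B) in
lemma coefMap_mem {p : ℕ} (z : bCyc (L := L) (B := A) p) :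
    coefMap (A₀ := A₀) (L := L) A B (p : ℤ) z.1 ∈ bCyc (L := L) (B := B) p := by
  rw [LinearMap.mem_ker]
  have hc : ∀ x : A ⊗[A₀] L.X (p : ℤ), (L.d (p : ℤ) ((p : ℤ) + 1)).hom.baseChange B (coefMap A B _ x) =
      coefMap A B _ ((L.d (p : ℤ) ((p : ℤ) + 1)).hom.baseChange A x) := fun x => by
    induction x with
    | zero => simp only [map_zero]
    | add x y hx hy => simp only [map_add, hx, hy]
    | tmul a c => rfl
  rw [hc, LinearMap.mem_ker.1 z.2, map_zero]

lemma rA_natural {S T : Scheme.{u}} [S.Over (Spec (CommRingCat.of A))] [T.Over (Spec (CommRingCat.of B))]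
    (r : T ⟶ S) (w : r ≫ (S ↘ Spec (CommRingCat.of A)) =
      (T ↘ Spec (CommRingCat.of B)) ≫ Spec.map (CommRingCat.ofHom (algebraMap A B)))
    {O : S.Opens} {O' : T.Opens} (e : O' ≤ r ⁻¹ᵁ O) (a : A) :
    r.appLE O O' e (rA A S O a) = rA B T O' (algebraMap A B a) := by
  have h1 : ∀ x : Γ(Spec (CommRingCat.of A), ⊤), r.appTop ((S ↘ Spec (CommRingCat.of A)).appTop x) =
      (T ↘ Spec (CommRingCat.of B)).appTop ((Spec.map (CommRingCat.ofHom (algebraMap A B))).appTop x) :=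
    fun x => by
      rw [← CommRingCat.comp_apply, ← CommRingCat.comp_apply, ← Scheme.Hom.comp_appTop,
        ← Scheme.Hom.comp_appTop, w]
  have h2 : (Spec.map (CommRingCat.ofHom (algebraMap A B))).appTop
      ((Scheme.ΓSpecIso (CommRingCat.of A)).inv a) =
      (Scheme.ΓSpecIso (CommRingCat.of B)).inv (algebraMap A B a) :=
    (ConcreteCategory.congr_hom (Scheme.ΓSpecIso_inv_naturality (CommRingCat.ofHom (algebraMap A B))) a).symm
  show (S.presheaf.map (homOfLE (le_top : O ≤ ⊤)).op ≫ r.appLE O O' e)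
    ((S ↘ Spec (CommRingCat.of A)).appTop ((Scheme.ΓSpecIso (CommRingCat.of A)).inv a)) = _
  rw [Scheme.Hom.map_appLE, Scheme.Hom.appLE, CommRingCat.comp_apply]
  refine (congrArg _ (h1 _)).trans ?_
  rw [h2]
  rfl

set_option maxRecDepth 4000 in
/-- Pullback of the classes of cycles. -/
theorem opull_bcls (w : g.resLE W W' h ≫ (W.toScheme ↘ Spec (CommRingCat.of A)) =
      (W'.toScheme ↘ Spec (CommRingCat.of B)) ≫ Spec.map (CommRingCat.ofHom (algebraMap A B)))
    (p : ℕ) (z : bCyc (L := L) (B := A) p) :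
    opull g W W' h F p (bcls hU hU' φ hsq j p z) =
      bcls hU hU' φ hsq' (pullModel j g h) p ⟨coefMap A B (p : ℤ) z.1, coefMap_mem L A B z⟩ := by
  let r := g.resLE W W' h
  have hWU : ∀ k, preU (r ≫ q) U k ≤ r ⁻¹ᵁ preU q U k := fun _ => le_rfl
  refine (opull_ocls g h F (iSup_preU (q := q) hU) (iSup_preU (q := r ≫ q) hU) hWU p
    (chCyc hU' φ hsq j p z)).trans ?_
  refine congrArg (toHH (preU (r ≫ q) U) (iSup_preU hU) _ p) (Subtype.ext (funext fun i => ?_))
  rw [pullCocyc_apply]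
  have he := cOpen_le_pre g h hWU i
  refine Eq.trans (congrArg (fun t => (CohPull.pullOnIso g W W' h F).hom.app (cOpen (preU (r ≫ q) U) i)
    (unitSec r (F.restrict W.ι) he t)) (congrFun (chCyc_val hU' φ hsq j p z) i)) ?_
  refine Eq.trans ?_ (congrFun
    (chCyc_val hU' φ hsq' (pullModel j g h) p ⟨coefMap A B (p : ℤ) z.1, coefMap_mem L A B z⟩) i).symm
  suffices key : ∀ x : A ⊗[A₀] L.X (p : ℤ), (CohPull.pullOnIso g W W' h F).hom.app (cOpen (preU (r ≫ q) U) i)
      (unitSec r (F.restrict W.ι) he (chMap hU' φ hsq j p x i)) =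
    chMap hU' φ hsq' (pullModel j g h) p (coefMap A B (p : ℤ) x) i from key z.1
  intro x
  induction x with
  | zero =>
    simp only [map_zero, Pi.zero_apply]
    rw [LimTop61.unitSec_zero, map_zero]
  | add x y hx hy =>
    simp only [map_add, Pi.add_apply]
    rw [← hx, ← hy, LimTop61.unitSec_add, map_add]
  | tmul a c =>
    rw [show coefMap A B (p : ℤ) (a ⊗ₜ c) = algebraMap A B a ⊗ₜ[A₀] c from rfl, chMap_tmul, chMap_tmul,
      LimTop61.unitSec_smul, Scheme.Modules.Hom.app_smul, rA_natural r w he]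
    exact congrArg (_ • ·) (pullModel_unitSec j g h (cOpen_preU q i).le he (cOpen_preU (r ≫ q) i).le
      (φLin φ p c i)).symm

end Pullback

end Groth.Agent.Mum71
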