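import Groth.Agent.Mum71.HHApi

/-! The comparison maps of `CohCmp.SectCmp`: linearity, restriction, bijectivity over affine opens. -/

set_option autoImplicit false
set_option maxSynthPendingDepth 6
set_option linter.style.haveILetI false
set_option backward.isDefEq.respectTransparency.types false

universe u

noncomputable section

open CategoryTheory CategoryTheory.Limits AlgebraicGeometry TopologicalSpace Opposite CategoryTheory.Abelian

namespace Groth.Agent.Mum71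

open Coh69

variable {X : Scheme.{u}}

variable {S : Scheme.{u}} (f : X ⟶ S) [HasInjectiveResolutions X.Modules]

/-- A resolution by injective modules, with its cycles. -/
structure CycRes (X : Scheme.{u}) where
  Z : ℕ → X.Modules
  I : ℕ → X.Modules
  ι : ∀ j, Z j ⟶ I j
  π : ∀ j, I j ⟶ Z (j + 1)
  w : ∀ j, ι j ≫ π j = 0
  shortExact : ∀ j, (ShortComplex.mk (ι j) (π j) (w j)).ShortExact
  injective : ∀ j, Injective (I j)

attribute [instance] CycRes.injective

/-- The short exact sequence of cycles. -/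
abbrev CycRes.ses (R : CycRes X) (j : ℕ) : ShortComplex X.Modules := ShortComplex.mk (R.ι j) (R.π j) (R.w j)

/-- The flasque resolution. -/
def CycRes.flRes (R : CycRes X) : FlRes X where
  Z := R.Z
  I := R.I
  ι := R.ι
  π := R.π
  w j := ((R.ses j).map (QC70.abSheafFunctor X)).zero
  shortExact j := (R.shortExact j).map_of_exact (QC70.abSheafFunctor X)
  flasque j := isFlasque_of_injective (R.I j)

omit [HasInjectiveResolutions X.Modules] in
theorem exists_cycRes [HasInjectiveResolutions X.Modules] (F : X.Modules) :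
    ∃ R : CycRes X, Nonempty (F ≅ R.Z 0) :=
  let P := injectiveResolution F
  ⟨{ Z := cycZ P
     I := P.cocomplex.X
     ι := fun _ => kernel.ι _
     π := cycπ P
     w := cyc_w P
     shortExact := cyc_shortExact P
     injective := P.injective },
   ⟨IsLimit.conePointUniqueUpToIso P.isLimitKernelFork (limit.isLimit _)⟩⟩

variable {Δ : RDer.DerivedLES (Scheme.Modules.pushforward f)}

/-- Classes shifted up from sections of cycles: `L` gives them, `D` their sections of the higher direct image. -/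
def ShiftData (E : CohCmp.SectCmp f Δ) (R : CycRes X) (j n k : ℕ)
    (D : (Scheme.Modules.pushforward f).obj (R.Z (n + 1)) ⟶ (Coh.Rpush f k).obj (R.Z j))
    (L : ∀ V : S.Opens, Γ(R.Z (n + 1), f ⁻¹ᵁ V) →+ Coh.HHon X (R.Z j) (f ⁻¹ᵁ V) k) : Prop :=
  (∀ (V : S.Opens) s, oeps f E V (R.Z j) k (L V s) = D.app V s) ∧
  (∀ V : S.Opens, Function.Surjective (L V)) ∧
  (∀ (V : S.Opens) t, L V ((R.π n).app (f ⁻¹ᵁ V) t) = 0) ∧
  (∀ (V : S.Opens) (a : Γ(X, f ⁻¹ᵁ V)) (s : Γ(R.Z (n + 1), f ⁻¹ᵁ V)),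
    L V (a • s) = oRes (f ⁻¹ᵁ V) a • L V s) ∧
  (∀ (V V' : S.Opens) (h : f ⁻¹ᵁ V' ≤ f ⁻¹ᵁ V) (s : Γ(R.Z (n + 1), f ⁻¹ᵁ V)),
    ores (R.Z j) h k (L V s) = L V' (QC70.res (R.Z (n + 1)) h s))

variable (E : CohCmp.SectCmp f Δ) (R : CycRes X)

section Fixed

variable {E} {T : ShortComplex X.Modules} (hT : T.ShortExact) (V : S.Opens)

/-- The first shift. -/
def shiftOne : Γ(T.X₃, f ⁻¹ᵁ V) →+ Coh.HHon X T.X₁ (f ⁻¹ᵁ V) 1 :=
  (odlt hT (f ⁻¹ᵁ V) 0).comp (osect T.X₃ (f ⁻¹ᵁ V)).toAddMonoidHom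

/-- The next shift. -/
def shiftNext {A : Type u} [AddCommGroup A] (k : ℕ) (L₀ : A →+ Coh.HHon X T.X₃ (f ⁻¹ᵁ V) k) :
    A →+ Coh.HHon X T.X₁ (f ⁻¹ᵁ V) (k + 1) :=
  (odlt hT (f ⁻¹ᵁ V) k).comp L₀

lemma eps_shiftOne (E : CohCmp.SectCmp f Δ) (s : Γ(T.X₃, f ⁻¹ᵁ V)) :
    oeps f E V T.X₁ 1 (shiftOne f hT V s) =
      ((Scheme.Modules.pushforward f).toRightDerivedZero.app T.X₃ ≫ Δ.δ T hT 0 1 rfl).app V s :=
  (oeps_delta f E V T hT 0 _).trans
    (congrArg ((Δ.δ T hT 0 1 rfl).app V) (oeps_zero f E V T.X₃ s))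

lemma shiftOne_surjective [Injective T.X₂] : Function.Surjective (shiftOne f hT V) :=
  (odlt_surjective hT (f ⁻¹ᵁ V) 0).comp (AddEquiv.surjective _)

lemma shiftOne_kills (t : Γ(T.X₂, f ⁻¹ᵁ V)) : shiftOne f hT V (T.g.app (f ⁻¹ᵁ V) t) = 0 :=
  (congrArg (odlt hT (f ⁻¹ᵁ V) 0) (osect_natural T.g (f ⁻¹ᵁ V) t).symm).trans
    (odlt_omap_g hT (f ⁻¹ᵁ V) 0 _)

lemma shiftOne_smul (a : Γ(X, f ⁻¹ᵁ V)) (s : Γ(T.X₃, f ⁻¹ᵁ V)) :
    shiftOne f hT V (a • s) = oRes (f ⁻¹ᵁ V) a • shiftOne f hT V s :=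
  (congrArg (odlt hT (f ⁻¹ᵁ V) 0) (osect_smul T.X₃ (f ⁻¹ᵁ V) a s)).trans (odlt_smul hT (f ⁻¹ᵁ V) 0 _ _)

lemma shiftOne_res (V' : S.Opens) (h : f ⁻¹ᵁ V' ≤ f ⁻¹ᵁ V) (s : Γ(T.X₃, f ⁻¹ᵁ V)) :
    ores T.X₁ h 1 (shiftOne f hT V s) = shiftOne f hT V' (QC70.res T.X₃ h s) :=
  (ores_odlt hT h 0 _).trans (congrArg (odlt hT (f ⁻¹ᵁ V') 0) (ores_osect _ h s))

variable {N : X.Modules} (k : ℕ) (L₀ : Γ(N, f ⁻¹ᵁ V) →+ Coh.HHon X T.X₃ (f ⁻¹ᵁ V) k)

lemma eps_shiftNext (E : CohCmp.SectCmp f Δ) (D₀ : (Scheme.Modules.pushforward f).obj N ⟶ (Coh.Rpush f k).obj T.X₃)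
    (h : ∀ s, oeps f E V T.X₃ k (L₀ s) = D₀.app V s) (s : Γ(N, f ⁻¹ᵁ V)) :
    oeps f E V T.X₁ (k + 1) (shiftNext f hT V k L₀ s) = (D₀ ≫ Δ.δ T hT k (k + 1) rfl).app V s :=
  (oeps_delta f E V T hT k _).trans (congrArg ((Δ.δ T hT k (k + 1) rfl).app V) (h s))

lemma shiftNext_surjective [Injective T.X₂] (h : Function.Surjective L₀) :
    Function.Surjective (shiftNext f hT V k L₀) :=
  (odlt_surjective hT (f ⁻¹ᵁ V) k).comp h

lemma shiftNext_eq_zero (s : Γ(N, f ⁻¹ᵁ V)) (h : L₀ s = 0) : shiftNext f hT V k L₀ s = 0 :=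
  (congrArg (odlt hT (f ⁻¹ᵁ V) k) h).trans (map_zero _)

lemma shiftNext_smul (a : Γ(X, f ⁻¹ᵁ V)) (s : Γ(N, f ⁻¹ᵁ V))
    (h : L₀ (a • s) = oRes (f ⁻¹ᵁ V) a • L₀ s) :
    shiftNext f hT V k L₀ (a • s) = oRes (f ⁻¹ᵁ V) a • shiftNext f hT V k L₀ s :=
  (congrArg (odlt hT (f ⁻¹ᵁ V) k) h).trans (odlt_smul hT (f ⁻¹ᵁ V) k _ _)

lemma shiftNext_res (V' : S.Opens) (h : f ⁻¹ᵁ V' ≤ f ⁻¹ᵁ V)
    (L' : Γ(N, f ⁻¹ᵁ V') →+ Coh.HHon X T.X₃ (f ⁻¹ᵁ V') k) (s : Γ(N, f ⁻¹ᵁ V))
    (h' : ores T.X₃ h k (L₀ s) = L' (QC70.res N h s)) :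
    ores T.X₁ h (k + 1) (shiftNext f hT V k L₀ s) = shiftNext f hT V' k L' (QC70.res N h s) :=
  (ores_odlt hT h k _).trans (congrArg (odlt hT (f ⁻¹ᵁ V') k) h')

end Fixed

theorem exists_shift_one (n : ℕ) :
    ∃ (D : _) (L : _) (w : (Scheme.Modules.pushforward f).map (R.π n) ≫ D = 0),
      (ShortComplex.mk _ D w).Exact ∧ Epi D ∧ ShiftData f E R n n 1 D L := by
  have hS := R.shortExact n
  let P := Scheme.Modules.pushforward f
  let d := Δ.δ (R.ses n) hS 0 1 rfl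
  let D : P.obj (R.Z (n + 1)) ⟶ (Coh.Rpush f 1).obj (R.Z n) := P.toRightDerivedZero.app _ ≫ d
  have hnat : P.map (R.π n) ≫ P.toRightDerivedZero.app (R.Z (n + 1)) =
      P.toRightDerivedZero.app (R.I n) ≫ (P.rightDerived 0).map (R.π n) :=
    P.toRightDerivedZero.naturality (R.π n)
  have w : P.map (R.π n) ≫ D = 0 := by
    show P.map (R.π n) ≫ P.toRightDerivedZero.app _ ≫ d = 0
    rw [← Category.assoc, hnat, Category.assoc,
      show (P.rightDerived 0).map (R.π n) ≫ d = 0 from Δ.comp_δ (R.ses n) hS 0 1 rfl, comp_zero]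
  haveI : Epi d :=
    (Δ.exact₁ (R.ses n) hS 0 1 rfl).epi_f
      ((P.isZero_rightDerived_obj_injective_succ 0 (R.I n)).eq_of_tgt _ _)
  let S₁ := ShortComplex.mk _ _ (Δ.comp_δ (R.ses n) hS 0 1 rfl)
  let S₂ := ShortComplex.mk (P.map (R.π n)) D w
  let eI := asIso (P.toRightDerivedZero.app (R.I n))
  let eZ := asIso (P.toRightDerivedZero.app (R.Z (n + 1)))
  let e : S₂ ≅ S₁ := ShortComplex.isoMk eI eZ (Iso.refl _) hnat.symm (Category.comp_id _).symm
  have he : S₂.Exact := ShortComplex.exact_of_iso e.symm (Δ.exact₃ (R.ses n) hS 0 1 rfl)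
  exact ⟨D, fun V => shiftOne f hS V, w, he, epi_comp _ _, fun V => eps_shiftOne f hS V E,
    fun V => haveI : Injective (R.ses n).X₂ := R.injective n; shiftOne_surjective f hS V,
    fun V => shiftOne_kills f hS V, fun V => shiftOne_smul f hS V, fun V => shiftOne_res f hS V⟩

theorem exists_shift_succ (j n k : ℕ)
    (h : ∃ (D : _) (L : _) (w : (Scheme.Modules.pushforward f).map (R.π n) ≫ D = 0),
      (ShortComplex.mk _ D w).Exact ∧ Epi D ∧ ShiftData f E R (j + 1) n (k + 1) D L) :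
    ∃ (D : _) (L : _) (w : (Scheme.Modules.pushforward f).map (R.π n) ≫ D = 0),
      (ShortComplex.mk _ D w).Exact ∧ Epi D ∧ ShiftData f E R j n (k + 2) D L := by
  obtain ⟨D₀, L₀, w₀, he₀, hepi, h1, h2, h3, h4, h5⟩ := h
  have hS := R.shortExact j
  let P := Scheme.Modules.pushforward f
  let d := Δ.δ (R.ses j) hS (k + 1) (k + 2) rfl
  haveI : Epi d :=
    (Δ.exact₁ (R.ses j) hS (k + 1) (k + 2) rfl).epi_f
      ((P.isZero_rightDerived_obj_injective_succ (k + 1) (R.I j)).eq_of_tgt _ _)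
  haveI : Mono d :=
    (Δ.exact₃ (R.ses j) hS (k + 1) (k + 2) rfl).mono_g
      ((P.isZero_rightDerived_obj_injective_succ k (R.I j)).eq_of_src _ _)
  haveI : IsIso d := isIso_of_mono_of_epi d
  haveI := hepi
  have w : P.map (R.π n) ≫ D₀ ≫ d = 0 := by
    rw [← Category.assoc, w₀, zero_comp]
  let e : ShortComplex.mk _ D₀ w₀ ≅ ShortComplex.mk _ (D₀ ≫ d) w :=
    ShortComplex.isoMk (Iso.refl _) (Iso.refl _) (asIso d) (by simp [P]) (by simp)
  exact ⟨D₀ ≫ d, fun V => shiftNext f hS V (k + 1) (L₀ V), w, ShortComplex.exact_of_iso e he₀, epi_comp _ _,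
    fun V => eps_shiftNext f hS V (k + 1) (L₀ V) E D₀ (h1 V),
    fun V => haveI : Injective (R.ses j).X₂ := R.injective j; shiftNext_surjective f hS V (k + 1) (L₀ V) (h2 V),
    fun V t => shiftNext_eq_zero f hS V (k + 1) (L₀ V) _ (h3 V t),
    fun V a s => shiftNext_smul f hS V (k + 1) (L₀ V) a s (h4 V a s),
    fun V V' h s => shiftNext_res f hS V (k + 1) (L₀ V) V' h (L₀ V') s (h5 V V' h s)⟩

theorem exists_shift : ∀ (k j n : ℕ), n = j + k →
    ∃ (D : _) (L : _) (w : (Scheme.Modules.pushforward f).map (R.π n) ≫ D = 0),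
      (ShortComplex.mk _ D w).Exact ∧ Epi D ∧ ShiftData f E R j n (k + 1) D L := by
  intro k
  induction k with
  | zero =>
    intro j n h
    obtain rfl : n = j := h
    exact exists_shift_one f E R n
  | succ k ih =>
    intro j n h
    exact exists_shift_succ f E R j n k (ih (j + 1) n (by omega))

omit [HasInjectiveResolutions X.Modules] in
lemma app_bijective {Y : Scheme.{u}} {A B : Y.Modules} (e : A ≅ B) (V : Y.Opens) :
    Function.Bijective (fun x : Γ(A, V) => e.hom.app V x) :=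
  Function.bijective_iff_has_inverse.2 ⟨fun y => e.inv.app V y,
    fun x => congr(Scheme.Modules.Hom.app $(e.hom_inv_id) V x),
    fun y => congr(Scheme.Modules.Hom.app $(e.inv_hom_id) V y)⟩

variable (F : X.Modules)

/-- The comparison maps are linear. -/
theorem sectCmp_smul (V : S.Opens) (p : ℕ) (a : Γ(S, V)) (x : Coh.HHon X F (f ⁻¹ᵁ V) p) :
    oeps f E V F p (oRes (f ⁻¹ᵁ V) (f.app V a) • x) =
      a • oeps f E V F p x := by
  cases p with
  | zero =>
    obtain ⟨s, rfl⟩ := (osect F (f ⁻¹ᵁ V)).surjective x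
    rw [← osect_smul, oeps_zero, oeps_zero]
    exact Scheme.Modules.Hom.app_smul ((Scheme.Modules.pushforward f).toRightDerivedZero.app F) a s
  | succ k =>
    obtain ⟨R, ⟨i⟩⟩ := exists_cycRes F
    obtain ⟨D, L, w, he, hepi, h1, h2, h3, h4, h5⟩ := exists_shift f E R k 0 k (Nat.zero_add k).symm
    apply (app_bijective ((Coh.Rpush f (k + 1)).mapIso i) V).injective
    obtain ⟨s, hs⟩ := h2 V (omap (f ⁻¹ᵁ V) i.hom (k + 1) x)
    show ((Coh.Rpush f (k + 1)).map i.hom).app V _ = ((Coh.Rpush f (k + 1)).map i.hom).app V (a • _)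
    rw [Scheme.Modules.Hom.app_smul, ← oeps_natural f E V i.hom (k + 1) x, ← oeps_natural f E V i.hom (k + 1),
      omap_smul, ← hs, ← h4, h1, h1]
    exact Scheme.Modules.Hom.app_smul D a s

/-- The comparison maps commute with restriction. -/
theorem sectCmp_resLE (V V' : S.Opens) (hV : V' ≤ V) (p : ℕ) (x : Coh.HHon X F (f ⁻¹ᵁ V) p) :
    QC70.res ((Coh.Rpush f p).obj F) hV (oeps f E V F p x) =
      oeps f E V' F p (ores F (f.preimage_mono hV) p x) := by
  cases p with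
  | zero =>
    obtain ⟨s, rfl⟩ := (osect F (f ⁻¹ᵁ V)).surjective x
    rw [ores_osect, oeps_zero, oeps_zero]
    exact (QC70.app_res ((Scheme.Modules.pushforward f).toRightDerivedZero.app F) hV s).symm
  | succ k =>
    obtain ⟨R, ⟨i⟩⟩ := exists_cycRes F
    obtain ⟨D, L, w, he, hepi, h1, h2, h3, h4, h5⟩ := exists_shift f E R k 0 k (Nat.zero_add k).symm
    apply (app_bijective ((Coh.Rpush f (k + 1)).mapIso i) V').injective
    obtain ⟨s, hs⟩ := h2 V (omap (f ⁻¹ᵁ V) i.hom (k + 1) x)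
    show ((Coh.Rpush f (k + 1)).map i.hom).app V' _ = ((Coh.Rpush f (k + 1)).map i.hom).app V' _
    refine (QC70.app_res ((Coh.Rpush f (k + 1)).map i.hom) hV (oeps f E V F (k + 1) x)).trans ?_
    rw [← oeps_natural f E V i.hom (k + 1) x, ← oeps_natural f E V' i.hom (k + 1), ← ores_natural, ← hs, h5,
      h1, h1]
    exact (QC70.app_res D hV s).symm

variable [QuasiCompact f] [QuasiSeparated f]

theorem shift_app [(R.Z 0).IsQuasicoherent] {m j k : ℕ}
    (D : (Scheme.Modules.pushforward f).obj (R.Z (m + 1)) ⟶ (Coh.Rpush f k).obj (R.Z j))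
    (w : (Scheme.Modules.pushforward f).map (R.π m) ≫ D = 0) (he : (ShortComplex.mk _ D w).Exact) [Epi D]
    {V : S.Opens} (hV : IsAffineOpen V) :
    Function.Surjective (fun s : Γ((Scheme.Modules.pushforward f).obj (R.Z (m + 1)), V) => D.app V s) ∧
      ∀ s, D.app V s = 0 → ∃ t : Γ(R.I m, f ⁻¹ᵁ V), (R.π m).app (f ⁻¹ᵁ V) t = s := by
  let W := f ⁻¹ᵁ V
  have : (R.flRes.Z 0).IsQuasicoherent := ‹(R.Z 0).IsQuasicoherent›
  have : IsAffine V.toScheme := hV
  have : QuasiSeparatedSpace W.toScheme := quasiSeparatedSpace_of_quasiSeparated (f ∣_ V)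
  have hloc := fun a : Γ(S, V) => R.flRes.loc_cycles_within W
    (f.isCompact_preimage hV.isCompact) (f.app V a) m
  have hB : ∀ a : Γ(S, V), f ⁻¹ᵁ S.basicOpen a = X.basicOpen (f.app V a) := fun a =>
    Scheme.preimage_basicOpen f a
  obtain ⟨hπ, hπ0⟩ := coker_app_surjective_and_ker ((Scheme.Modules.pushforward f).map (R.π m)) hV
    (fun a s hs => by
      obtain ⟨t, ht⟩ := hs
      obtain ⟨k, t', ht'⟩ := (hloc a).1 s ⟨QC70.res (R.I m) (hB a).ge t, by
        refine (QC70.app_res (R.π m) (hB a).ge t).trans ?_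
        refine (congrArg (QC70.res (R.Z (m + 1)) (hB a).ge) ht).trans ?_
        exact QC70.res_res _ _ _⟩
      refine ⟨k, t', ht'.trans ?_⟩
      exact congrArg (fun z : Γ(X, W) => z • (show Γ(R.Z (m + 1), W) from s))
        (map_pow (f.app V).hom a k).symm)
    (fun a s' => by
      obtain ⟨k, s, t, ht⟩ := (hloc a).2 (QC70.res (R.Z (m + 1)) (hB a).ge s')
      refine ⟨k, s, QC70.res (R.I m) (hB a).le t, ?_⟩
      refine (QC70.app_res (R.π m) (hB a).le t).trans ?_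
      refine (congrArg (QC70.res (R.Z (m + 1)) (hB a).le) ht).trans ?_
      refine (QC70.res_sub _ _ _).trans ?_
      refine congrArg₂ (· - ·) (QC70.res_res _ _ _) ?_
      refine (QC70.res_pow_smul _ _ _ _).trans ?_
      refine congrArg₂ (· • ·) ?_ ((QC70.res_res _ _ _).trans (QC70.res_self _))
      refine (congrArg (· ^ k) (QC70.resO_resO _ _ _)).trans ?_
      refine Eq.trans ?_ (map_pow (f.app (S.basicOpen a)).hom _ k).symm
      exact congrArg (· ^ k) (ConcreteCategory.congr_hom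
        (f.naturality (homOfLE (S.basicOpen_le a)).op) a).symm)
  let e := IsColimit.coconePointUniqueUpToIso
    (colimit.isColimit (parallelPair ((Scheme.Modules.pushforward f).map (R.π m)) 0))
    he.gIsCokernel
  have hD : cokernel.π ((Scheme.Modules.pushforward f).map (R.π m)) ≫ e.hom = D :=
    IsColimit.comp_coconePointUniqueUpToIso_hom _ _ WalkingParallelPair.one
  have hs' : ∀ s, D.app V s = e.hom.app V
      ((cokernel.π ((Scheme.Modules.pushforward f).map (R.π m))).app V s) := fun s =>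
    (congrArg (fun ψ : (Scheme.Modules.pushforward f).obj (R.Z (m + 1)) ⟶ (Coh.Rpush f k).obj (R.Z j) =>
      Scheme.Modules.Hom.app ψ V s) hD).symm
  refine ⟨fun y => ?_, fun s hs => ?_⟩
  · obtain ⟨z, rfl⟩ := (app_bijective e V).2 y
    obtain ⟨s, rfl⟩ := hπ z
    exact ⟨s, hs' s⟩
  · exact (hπ0 s).1 ((app_bijective e V).1 ((hs' s).symm.trans (hs.trans (map_zero _).symm)))

/-- The comparison maps are bijective over affine opens, for quasi-coherent modules. -/
theorem sectCmp_bijective [F.IsQuasicoherent] {V : S.Opens} (hV : IsAffineOpen V) (p : ℕ) :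
    Function.Bijective (oeps f E V F p) := by
  cases p with
  | zero =>
    have h : oeps f E V F 0 ∘ osect F (f ⁻¹ᵁ V) =
        fun s => ((Scheme.Modules.pushforward f).toRightDerivedZero.app F).app V s :=
      funext fun s => oeps_zero f E V F s
    refine (Function.Bijective.of_comp_iff _ (osect F (f ⁻¹ᵁ V)).bijective).1 ?_
    rw [h]
    exact app_bijective (asIso ((Scheme.Modules.pushforward f).toRightDerivedZero.app F)) V
  | succ m =>
    obtain ⟨R, ⟨i⟩⟩ := exists_cycRes F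
    obtain ⟨D, L, w, he, hepi, h1', h2', h3, h4, h5⟩ := exists_shift f E R m 0 m (Nat.zero_add m).symm
    haveI : (R.Z 0).IsQuasicoherent := QC70.isQuasicoherent_of_iso i ‹F.IsQuasicoherent›
    have hm := omap_bijective i (f ⁻¹ᵁ V) (m + 1)
    have hr := app_bijective ((Coh.Rpush f (m + 1)).mapIso i) V
    obtain ⟨h1, h2⟩ := shift_app f R D w he hV
    have hb : Function.Bijective (oeps f E V (R.Z 0) (m + 1)) := by
      refine ⟨(injective_iff_map_eq_zero _).2 fun x hx => ?_, fun y => ?_⟩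
      · obtain ⟨s, rfl⟩ := h2' V x
        obtain ⟨t, rfl⟩ := h2 s ((h1' V s).symm.trans hx)
        exact h3 V t
      · obtain ⟨s, hs⟩ := h1 y
        exact ⟨L V s, (h1' V s).trans hs⟩
    refine (Function.Bijective.of_comp_iff' hr _).1 ?_
    rw [show (fun y => ((Coh.Rpush f (m + 1)).mapIso i).hom.app V y) ∘ oeps f E V F (m + 1) =
      oeps f E V (R.Z 0) (m + 1) ∘ omap (f ⁻¹ᵁ V) i.hom (m + 1) from
      funext fun x => (oeps_natural f E V i.hom (m + 1) x).symm]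
    exact hb.comp hm

end Groth.Agent.Mum71
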