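import Mathlib.RingTheory.LocalRing.Module
import Mathlib.RingTheory.Support
import Mathlib.RingTheory.LocalProperties.Projective
import Mathlib.LinearAlgebra.TensorProduct.Pi
import Mathlib.LinearAlgebra.Dual.Lemmas
import Mathlib.RingTheory.Flat.FaithfullyFlat.Basic
import Mathlib.RingTheory.Localization.BaseChange
import Mathlib.Topology.LocallyConstant.Basic
import Mathlib.RingTheory.Spectrum.Prime.Topology

/-! Three-term complexes of finite free modules and their base changes, through generalised inverses. -/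

set_option autoImplicit false
set_option backward.isDefEq.respectTransparency.types false
set_option linter.style.haveILetI false
set_option linter.unusedSectionVars false

universe u

open TensorProduct

noncomputable section

namespace Groth.Agent.Mum71.Split

variable {A : Type u} [CommRing A] {M N P₀ P Q : Type u} [AddCommGroup M] [Module A M]
  [AddCommGroup N] [Module A N] [AddCommGroup P₀] [Module A P₀] [AddCommGroup P] [Module A P]
  [AddCommGroup Q] [Module A Q]

/-- A generalised inverse of `e`, up to the scalar `a`. -/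
def SplitsAt (e : P →ₗ[A] Q) (a : A) : Prop := ∃ s : Q →ₗ[A] P, e ∘ₗ s ∘ₗ e = a • e

lemma SplitsAt.mul {e : P →ₗ[A] Q} {a : A} (h : SplitsAt e a) (b : A) : SplitsAt e (b * a) := by
  obtain ⟨s, hs⟩ := h
  refine ⟨b • s, ?_⟩
  rw [LinearMap.smul_comp, LinearMap.comp_smul, hs, smul_smul]

/-- Nakayama at the point of a field-valued point. -/
theorem exists_smul_mem_range (K : Type u) [Field K] [Algebra A K] [Module.Finite A N] (φ : M →ₗ[A] N)
    (h : Function.Surjective (φ.baseChange K)) :
    ∃ a : A, algebraMap A K a ≠ 0 ∧ ∀ n, a • n ∈ LinearMap.range φ := by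
  let T := N ⧸ LinearMap.range φ
  let p : PrimeSpectrum A := ⟨RingHom.ker (algebraMap A K), RingHom.ker_isPrime _⟩
  haveI : p.asIdeal.IsPrime := p.2
  have h0 : Subsingleton (K ⊗[A] T) := by
    refine subsingleton_of_forall_eq 0 fun t => ?_
    obtain ⟨y, rfl⟩ := LinearMap.lTensor_surjective K (LinearMap.range φ).mkQ_surjective t
    obtain ⟨x, rfl⟩ := h y
    show (LinearMap.range φ).mkQ.lTensor K (φ.lTensor K x) = 0
    rw [← LinearMap.comp_apply, ← LinearMap.lTensor_comp, LinearMap.range_mkQ_comp, LinearMap.lTensor_zero,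
      LinearMap.zero_apply]
  let j : p.asIdeal.ResidueField →+* K := IsFractionRing.lift (A := A ⧸ p.asIdeal)
    (g := RingHom.kerLift (algebraMap A K)) (RingHom.kerLift_injective _)
  letI : Algebra p.asIdeal.ResidueField K := j.toAlgebra
  haveI : IsScalarTower A p.asIdeal.ResidueField K := .of_algebraMap_eq fun a => by
    rw [RingHom.algebraMap_toAlgebra, IsScalarTower.algebraMap_apply A (A ⧸ p.asIdeal) p.asIdeal.ResidueField]
    exact (IsFractionRing.lift_algebraMap (A := A ⧸ p.asIdeal) (K := p.asIdeal.ResidueField)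
      (RingHom.kerLift_injective (algebraMap A K)) (Ideal.Quotient.mk p.asIdeal a)).symm
  have h1 : Subsingleton (p.asIdeal.ResidueField ⊗[A] T) :=
    haveI : Subsingleton (K ⊗[p.asIdeal.ResidueField] (p.asIdeal.ResidueField ⊗[A] T)) :=
      (AlgebraTensorModule.cancelBaseChange A p.asIdeal.ResidueField K K T).toEquiv.subsingleton
    Module.FaithfullyFlat.lTensor_reflects_triviality p.asIdeal.ResidueField K
      (p.asIdeal.ResidueField ⊗[A] T)
  have hp : p ∉ Module.support A T := fun hp =>
    not_nontrivial_iff_subsingleton.2 h1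
      ((Module.mem_support_iff_nontrivial_residueField_tensorProduct p).1 hp)
  rw [Module.mem_support_iff_of_finite, SetLike.not_le_iff_exists] at hp
  obtain ⟨a, ha, ha'⟩ := hp
  exact ⟨a, fun h => ha' h, fun n => (Submodule.Quotient.mk_eq_zero _).1 <| by
    rw [Submodule.Quotient.mk_smul]
    exact Module.mem_annihilator.1 ha _⟩

/-- The rank at a field-valued point. -/
def rk (K : Type u) [Field K] [Algebra A K] (e : P →ₗ[A] Q) : ℕ :=
  Module.finrank K (LinearMap.range (e.baseChange K))

section Free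

variable [Module.Finite A P] [Module.Free A P] [Module.Finite A Q] [Module.Free A Q]

/-- Vectors with independent images at a point, with dual functionals. -/
theorem exists_dual (K : Type u) [Field K] [Algebra A K] (e : P →ₗ[A] Q) :
    ∃ (r : Type u) (_ : Fintype r) (_ : DecidableEq r) (v : r → P) (ψ : r → (Q →ₗ[A] A)) (a : A),
      algebraMap A K a ≠ 0 ∧ Fintype.card r = rk K e ∧
      (∀ i j, ψ i (e (v j)) = Pi.single (M := fun _ => A) i a j) ∧
      Submodule.span K (Set.range fun i => (1 : K) ⊗ₜ[A] e (v i)) = LinearMap.range (e.baseChange K) := by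
  classical
  let bP := Module.Free.chooseBasis A P
  let bQ := Module.Free.chooseBasis A Q
  let f := fun k => (1 : K) ⊗ₜ[A] e (bP k)
  obtain ⟨r, idx, hidx, hspan, hli⟩ := exists_linearIndependent' K f
  haveI : Finite r := Finite.of_injective idx hidx
  letI := Fintype.ofFinite r
  let v := fun i => bP (idx i)
  have hrange : Submodule.span K (Set.range fun i => (1 : K) ⊗ₜ[A] e (v i)) =
      LinearMap.range (e.baseChange K) := by
    refine hspan.trans (le_antisymm (Submodule.span_le.2 ?_) ?_)
    · rintro _ ⟨k, rfl⟩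
      exact ⟨1 ⊗ₜ bP k, LinearMap.baseChange_tmul _ _ _⟩
    · rintro _ ⟨z, rfl⟩
      rw [← (bP.baseChange K).sum_repr z, map_sum]
      refine Submodule.sum_mem _ fun k _ => ?_
      rw [map_smul, Module.Basis.baseChange_apply, LinearMap.baseChange_tmul]
      exact Submodule.smul_mem _ _ (Submodule.subset_span ⟨k, rfl⟩)
  let g : (Q →ₗ[A] A) →ₗ[A] (r → A) := LinearMap.pi fun i => LinearMap.applyₗ (e (v i))
  have hg : Function.Surjective (g.baseChange K) := by
    let E := TensorProduct.piScalarRight A K K r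
    suffices LinearMap.range (E.toLinearMap ∘ₗ g.baseChange K) = ⊤ by
      intro y
      obtain ⟨x, hx⟩ : E y ∈ LinearMap.range (E.toLinearMap ∘ₗ g.baseChange K) := this ▸ Submodule.mem_top
      exact ⟨x, E.injective hx⟩
    by_contra hne
    obtain ⟨L, hL0, hL⟩ := Submodule.exists_le_ker_of_lt_top _ (lt_top_iff_ne_top.2 hne)
    let c := fun i => L (Pi.single i 1)
    have hL' : ∀ y : r → K, L y = ∑ i, y i * c i := fun y => by
      conv_lhs => rw [pi_eq_sum_univ' y, map_sum]
      exact Finset.sum_congr rfl fun i _ => by rw [map_smul, smul_eq_mul]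
    have h2 : ∑ i, c i • ((1 : K) ⊗ₜ[A] e (v i)) = 0 := by
      apply (bQ.baseChange K).repr.injective
      refine Finsupp.ext fun j => ?_
      rw [map_sum, map_zero, Finsupp.finsetSum_apply]
      refine Eq.trans ?_ ((hL' _).symm.trans (hL ⟨(1 : K) ⊗ₜ bQ.coord j, rfl⟩))
      refine Finset.sum_congr rfl fun i _ => ?_
      rw [map_smul, Finsupp.smul_apply, Module.Basis.baseChange_repr_tmul, smul_eq_mul, mul_comm]
      simp [E, g, TensorProduct.piScalarRight_apply, Algebra.smul_def]
    refine hL0 (LinearMap.ext fun y => ?_)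
    rw [hL', LinearMap.zero_apply]
    exact Finset.sum_eq_zero fun i _ => by rw [Fintype.linearIndependent_iff.1 hli c h2 i, mul_zero]
  obtain ⟨a, ha, hmem⟩ := exists_smul_mem_range K g hg
  choose ψ hψ using fun i => hmem (Pi.single i 1)
  refine ⟨r, inferInstance, inferInstance, v, ψ, a, ha, ?_, fun i j => ?_, hrange⟩
  · exact (finrank_span_eq_card hli).symm.trans
      (congrArg (fun S : Submodule K (K ⊗[A] Q) => Module.finrank K S) hrange)
  · refine (congrFun (hψ i) j).trans ?_
    by_cases h : j = i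
    · subst h; simp
    · simp [Pi.single_eq_of_ne h]

/-- Dual functionals bound the rank from below. -/
theorem linearIndependent_of_dual (L : Type u) [Field L] [Algebra A L] {e : P →ₗ[A] Q} {r : Type u} [Fintype r]
    [DecidableEq r] {v : r → P} {ψ : r → (Q →ₗ[A] A)} {a : A}
    (hψ : ∀ i j, ψ i (e (v j)) = Pi.single (M := fun _ => A) i a j) (ha : algebraMap A L a ≠ 0) :
    LinearIndependent L fun i => (1 : L) ⊗ₜ[A] e (v i) := by
  refine Fintype.linearIndependent_iff.2 fun c hc i => ?_
  have h := congrArg ((TensorProduct.AlgebraTensorModule.rid A L L).toLinearMap ∘ₗ (ψ i).baseChange L) hc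
  rw [map_zero, map_sum, Finset.sum_eq_single i] at h
  · simp only [map_smul, LinearMap.comp_apply, LinearMap.baseChange_tmul, hψ, Pi.single_eq_same] at h
    simpa [Algebra.smul_def, ha] using h
  · intro j _ hj
    simp [hψ, Pi.single_eq_of_ne hj]
  · simp

theorem le_rk_of_dual (L : Type u) [Field L] [Algebra A L] {e : P →ₗ[A] Q} {r : Type u} [Fintype r]
    [DecidableEq r] {v : r → P} {ψ : r → (Q →ₗ[A] A)} {a : A}
    (hψ : ∀ i j, ψ i (e (v j)) = Pi.single (M := fun _ => A) i a j) (ha : algebraMap A L a ≠ 0) :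
    Fintype.card r ≤ rk L e := by
  rw [← finrank_span_eq_card (linearIndependent_of_dual L hψ ha)]
  refine Submodule.finrank_mono (Submodule.span_le.2 ?_)
  rintro _ ⟨i, rfl⟩
  exact ⟨1 ⊗ₜ v i, LinearMap.baseChange_tmul _ _ _⟩

/-- If the cycles at a point all lift, the map splits near the point. -/
theorem exists_splitsAt_of_lifts (K : Type u) [Field K] [Algebra A K] (e : P →ₗ[A] Q)
    (h : ∀ z, e.baseChange K z = 0 → z ∈ LinearMap.range ((LinearMap.ker e).subtype.baseChange K)) :
    ∃ a : A, algebraMap A K a ≠ 0 ∧ SplitsAt e a := by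
  classical
  obtain ⟨r, _, _, v, ψ, a₂, ha₂, -, hψ, hspan⟩ := exists_dual K e
  let φ : ((r → A) × LinearMap.ker e) →ₗ[A] P :=
    (Fintype.linearCombination A v).coprod (LinearMap.ker e).subtype
  have hφ : Function.Surjective (φ.baseChange K) := fun z => by
    have hz : e.baseChange K z ∈ Submodule.span K (Set.range fun i => (1 : K) ⊗ₜ[A] e (v i)) :=
      hspan.ge ⟨z, rfl⟩
    obtain ⟨c, hc⟩ := (Submodule.mem_span_range_iff_exists_fun K).1 hz
    obtain ⟨w, hw⟩ := h (z - ∑ i, c i • ((1 : K) ⊗ₜ[A] v i)) (by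
      simp [← hc])
    refine ⟨(LinearMap.inr A (r → A) (LinearMap.ker e)).baseChange K w +
      ∑ i, c i • ((1 : K) ⊗ₜ[A] (Pi.single (M := fun _ : r => A) i 1, (0 : LinearMap.ker e))), ?_⟩
    rw [map_add, ← LinearMap.comp_apply, ← LinearMap.baseChange_comp,
      show φ ∘ₗ LinearMap.inr A (r → A) (LinearMap.ker e) = (LinearMap.ker e).subtype from
        LinearMap.coprod_inr _ _, hw]
    simp [φ, Fintype.linearCombination_apply_single]
  obtain ⟨a₁, ha₁, hmem⟩ := exists_smul_mem_range K φ hφ
  let s₀ : Q →ₗ[A] P := ∑ i, (ψ i).smulRight (v i)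
  have hs₀ : ∀ x, e (s₀ (e (φ x))) = a₂ • e (φ x) := fun ⟨c, z⟩ => by
    have hφe : e (φ (c, z)) = ∑ i, c i • e (v i) := by
      show e (Fintype.linearCombination A v c + z.1) = _
      rw [map_add, z.2, add_zero, Fintype.linearCombination_apply, map_sum]
      simp only [map_smul]
    simp only [hφe, s₀, LinearMap.coe_sum, Finset.sum_apply, LinearMap.smulRight_apply, map_sum, map_smul,
      hψ, Finset.smul_sum, smul_smul]
    refine Finset.sum_congr rfl fun i _ => ?_
    rw [Finset.sum_eq_single i]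
    · simp [mul_comm]
    · intro j _ hj
      simp [hj.symm]
    · simp
  refine ⟨a₁ * a₂, by rw [map_mul]; exact mul_ne_zero ha₁ ha₂, a₁ • s₀, LinearMap.ext fun p => ?_⟩
  obtain ⟨x, hx⟩ := hmem p
  have := hs₀ x
  rw [hx, map_smul, map_smul, map_smul] at this
  simp only [LinearMap.comp_apply, LinearMap.smul_apply, map_smul]
  rw [this, smul_smul, mul_comm]

end Free

section BaseChange

variable {d : P₀ →ₗ[A] P} {e : P →ₗ[A] Q} (hde : e ∘ₗ d = 0) (B : Type u) [CommRing B] [Algebra A B]

/-- The projection to the cycles given by a generalised inverse. -/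
def proj {s : Q →ₗ[A] P} {a : A} (hs : e ∘ₗ s ∘ₗ e = a • e) : P →ₗ[A] LinearMap.ker e :=
  LinearMap.codRestrict _ (a • LinearMap.id - s ∘ₗ e) fun v => by
    have h := LinearMap.congr_fun hs v
    simp only [LinearMap.comp_apply, LinearMap.smul_apply] at h
    simp [h]

lemma proj_val {s : Q →ₗ[A] P} {a : A} (hs : e ∘ₗ s ∘ₗ e = a • e) (v : P) :
    (proj hs v).1 = a • v - s (e v) := rfl

theorem mem_range_of_splitsAt {a : A} (h : SplitsAt e a) (hu : IsUnit (algebraMap A B a)) (z : B ⊗[A] P)
    (hz : e.baseChange B z = 0) : z ∈ LinearMap.range ((LinearMap.ker e).subtype.baseChange B) := by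
  obtain ⟨s, hs⟩ := h
  refine ⟨(↑hu.unit⁻¹ : B) • (proj hs).baseChange B z, ?_⟩
  rw [map_smul, ← LinearMap.comp_apply, ← LinearMap.baseChange_comp,
    show (LinearMap.ker e).subtype ∘ₗ proj hs = a • LinearMap.id - s ∘ₗ e from LinearMap.ext fun _ => rfl,
    LinearMap.baseChange_sub, LinearMap.sub_apply, LinearMap.baseChange_comp, LinearMap.comp_apply, hz,
    map_zero, sub_zero, LinearMap.baseChange_smul, LinearMap.smul_apply, LinearMap.baseChange_id,
    LinearMap.id_apply, ← algebraMap_smul B a z, smul_smul, IsUnit.val_inv_mul, one_smul]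

include hde in
theorem mem_range_codRestrict_of_splitsAt {a : A} (h : SplitsAt e a) (hu : IsUnit (algebraMap A B a))
    (ξ : B ⊗[A] LinearMap.ker e)
    (hξ : (LinearMap.ker e).subtype.baseChange B ξ ∈ LinearMap.range (d.baseChange B)) :
    ξ ∈ LinearMap.range ((d.codRestrict (LinearMap.ker e) fun v => LinearMap.congr_fun hde v).baseChange B) := by
  obtain ⟨s, hs⟩ := h
  obtain ⟨η, hη⟩ := hξ
  refine ⟨η, ?_⟩
  have h1 : (proj hs) ∘ₗ (LinearMap.ker e).subtype = a • LinearMap.id := LinearMap.ext fun v =>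
    Subtype.ext (by simp [proj_val])
  have h2 : (proj hs) ∘ₗ d = a • d.codRestrict (LinearMap.ker e) fun v => LinearMap.congr_fun hde v :=
    LinearMap.ext fun v => Subtype.ext (by
      have : e (d v) = 0 := LinearMap.congr_fun hde v
      simp [proj_val, this])
  have h3 := congrArg ((proj hs).baseChange B) hη
  rw [← LinearMap.comp_apply, ← LinearMap.comp_apply, ← LinearMap.baseChange_comp, ← LinearMap.baseChange_comp,
    h1, h2, LinearMap.baseChange_smul, LinearMap.baseChange_smul, LinearMap.smul_apply, LinearMap.smul_apply,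
    LinearMap.baseChange_id, LinearMap.id_apply] at h3
  rw [← algebraMap_smul B a, ← algebraMap_smul B a ξ] at h3
  exact hu.smul_left_cancel.1 h3

include hde in
lemma range_le : LinearMap.range d ≤ LinearMap.ker e := by
  rintro _ ⟨v, rfl⟩
  exact LinearMap.congr_fun hde v

/-- The homology. -/
abbrev Hom0 (d : P₀ →ₗ[A] P) (e : P →ₗ[A] Q) :=
  LinearMap.ker e ⧸ (LinearMap.range d).submoduleOf (LinearMap.ker e)

include hde in
/-- If both maps split, the homology is a retract of the middle term up to a scalar. -/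
theorem exists_retract {a b : A} (ha : SplitsAt e a) (hb : SplitsAt d b) :
    ∃ (ι : Hom0 d e →ₗ[A] P) (q : P →ₗ[A] Hom0 d e), q ∘ₗ ι = (a * b) • LinearMap.id := by
  obtain ⟨s, hs⟩ := ha
  obtain ⟨t, ht⟩ := hb
  let π' : P →ₗ[A] P := b • LinearMap.id - d ∘ₗ t
  refine ⟨Submodule.liftQ _ (π' ∘ₗ (LinearMap.ker e).subtype) ?_, (Submodule.mkQ _) ∘ₗ proj hs, ?_⟩
  · rintro ⟨v, hv⟩ ⟨w, hw⟩
    have h := LinearMap.congr_fun ht w
    simp only [LinearMap.comp_apply, LinearMap.smul_apply] at h
    obtain rfl : d w = v := hw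
    simp [π', h]
  · refine LinearMap.ext fun x => ?_
    obtain ⟨z, rfl⟩ := Submodule.mkQ_surjective _ x
    show Submodule.Quotient.mk (p := (LinearMap.range d).submoduleOf (LinearMap.ker e)) (proj hs (π' z.1)) =
      (a * b) • Submodule.Quotient.mk (p := (LinearMap.range d).submoduleOf (LinearMap.ker e)) z
    rw [← Submodule.Quotient.mk_smul, Submodule.Quotient.eq]
    refine ⟨-(a • t z.1), ?_⟩
    have hz : e z.1 = 0 := z.2
    have hed : e (d (t z.1)) = 0 := LinearMap.congr_fun hde _
    simp [proj_val, π', hz, hed, smul_smul, mul_comm b a]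

include hde in
/-- If both maps split, the homology is finite projective where the scalars are invertible. -/
theorem projective_of_splitsAt [Module.Finite A P] [Module.Projective A P] {a b : A} (ha : SplitsAt e a)
    (hb : SplitsAt d b) (hu : IsUnit (algebraMap A B (a * b))) :
    Module.Projective B (B ⊗[A] Hom0 d e) ∧ Module.Finite B (B ⊗[A] Hom0 d e) := by
  obtain ⟨ι, q, h⟩ := exists_retract hde ha hb
  let q' := (↑hu.unit⁻¹ : B) • q.baseChange B
  have h' : q' ∘ₗ ι.baseChange B = LinearMap.id := by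
    rw [LinearMap.smul_comp, ← LinearMap.baseChange_comp, h, LinearMap.baseChange_smul, LinearMap.baseChange_id]
    refine LinearMap.ext fun x => ?_
    rw [LinearMap.smul_apply, LinearMap.smul_apply, LinearMap.id_apply, ← algebraMap_smul B (a * b) x,
      smul_smul, IsUnit.val_inv_mul, one_smul]
  exact ⟨Module.Projective.of_split (ι.baseChange B) q' h',
    Module.Finite.of_surjective q' fun x => ⟨ι.baseChange B x, LinearMap.congr_fun h' x⟩⟩

include hde in
/-- Projective homology splits the previous map. -/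
theorem exists_splitsAt_of_projective [Module.Finite A P₀] [Module.Free A P₀] [Module.Finite A P]
    [Module.Free A P] {a : A} (ha : SplitsAt e a) (c : A) [IsLocalization.Away c B]
    (hu : IsUnit (algebraMap A B a)) [Module.Projective B (B ⊗[A] Hom0 d e)] :
    ∃ m : ℕ, SplitsAt d (a * c ^ m) := by
  classical
  obtain ⟨s, hs⟩ := ha
  let q : P →ₗ[A] Hom0 d e := (Submodule.mkQ _) ∘ₗ proj hs
  have hqsurj : Function.Surjective (q.baseChange B) := fun x => by
    obtain ⟨y, rfl⟩ := LinearMap.lTensor_surjective B (Submodule.mkQ_surjective _) x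
    refine ⟨(↑hu.unit⁻¹ : B) • (LinearMap.ker e).subtype.baseChange B y, ?_⟩
    have hq : q ∘ₗ (LinearMap.ker e).subtype = a • Submodule.mkQ _ := LinearMap.ext fun v => by
      show Submodule.Quotient.mk (p := (LinearMap.range d).submoduleOf (LinearMap.ker e)) (proj hs v.1) =
        a • Submodule.Quotient.mk (p := (LinearMap.range d).submoduleOf (LinearMap.ker e)) v
      rw [← Submodule.Quotient.mk_smul]
      congr 1
      exact Subtype.ext (by simp [proj_val])
    rw [map_smul, ← LinearMap.comp_apply, ← LinearMap.baseChange_comp, hq, LinearMap.baseChange_smul,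
      LinearMap.smul_apply, ← algebraMap_smul B a, smul_smul, IsUnit.val_inv_mul, one_smul]
    rfl
  obtain ⟨σ, hσ⟩ := Module.projective_lifting_property (q.baseChange B) LinearMap.id hqsurj
  let jP := TensorProduct.mk A B P 1
  let jH := TensorProduct.mk A B (Hom0 d e) 1
  haveI : IsLocalizedModule (Submonoid.powers c) jP :=
    (isLocalizedModule_iff_isBaseChange (Submonoid.powers c) B jP).2 (TensorProduct.isBaseChange A P B)
  haveI : IsLocalizedModule (Submonoid.powers c) jH :=
    (isLocalizedModule_iff_isBaseChange (Submonoid.powers c) B jH).2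
      (TensorProduct.isBaseChange A (Hom0 d e) B)
  let bP := Module.Free.chooseBasis A P
  obtain ⟨⟨_, ⟨n, rfl⟩⟩, hn⟩ := IsLocalizedModule.exist_integer_multiples_of_finite (Submonoid.powers c) jP
    fun j => σ (jH (q (bP j)))
  choose w hw using fun j => hn j
  let ε : P →ₗ[A] P := bP.constr A w
  have hε : jP ∘ₗ ε = (c ^ n) • ((σ.restrictScalars A) ∘ₗ jH ∘ₗ q) :=
    bP.ext fun j => by
      simp only [ε, LinearMap.comp_apply, Module.Basis.constr_basis, LinearMap.smul_apply,
        LinearMap.restrictScalars_apply]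
      exact hw j
  have hqd : ∀ w, q (d w) = 0 := fun w => (Submodule.Quotient.mk_eq_zero _).2 ⟨a • w, by
    have : e (d w) = 0 := LinearMap.congr_fun hde w
    simp [proj_val, this]⟩
  let bP₀ := Module.Free.chooseBasis A P₀
  have h1 : ∀ v, jH (q (ε v)) = jH (c ^ n • q v) := fun v => by
    have := congrArg (q.baseChange B) (LinearMap.congr_fun hε v)
    simp only [LinearMap.comp_apply, LinearMap.smul_apply, LinearMap.restrictScalars_apply,
      LinearMap.map_smul_of_tower] at this
    rw [show q.baseChange B (σ (jH (q v))) = jH (q v) from LinearMap.congr_fun hσ _] at this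
    rw [map_smul]
    exact (LinearMap.baseChange_tmul _ _ _).symm.trans this
  have h2 : ∀ v, jP (ε (d v)) = 0 := fun v => by
    refine (LinearMap.congr_fun hε (d v)).trans ?_
    simp [hqd]
  choose k₁ hk₁ using fun j => (IsLocalizedModule.eq_iff_exists (Submonoid.powers c) jH).1 (h1 (bP j))
  choose k₂ hk₂ using fun j => (IsLocalizedModule.eq_zero_iff (Submonoid.powers c) jP).1 (h2 (bP₀ j))
  choose n₁ hn₁ using fun j => (k₁ j).2
  choose n₂ hn₂ using fun j => (k₂ j).2
  obtain ⟨N, hN₁, hN₂⟩ : ∃ N, (∀ j, n₁ j ≤ N) ∧ ∀ j, n₂ j ≤ N :=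
    ⟨max (Finset.univ.sup n₁) (Finset.univ.sup n₂),
      fun j => (Finset.le_sup (Finset.mem_univ j)).trans (le_max_left _ _),
      fun j => (Finset.le_sup (Finset.mem_univ j)).trans (le_max_right _ _)⟩
  have h1' : ∀ v, c ^ N • q (ε v) = c ^ N • c ^ n • q v := LinearMap.congr_fun
    (show c ^ N • (q ∘ₗ ε) = c ^ N • c ^ n • q from bP.ext fun j => by
      have h := hk₁ j
      rw [Submonoid.smul_def, Submonoid.smul_def, show ((k₁ j : Submonoid.powers c) : A) = c ^ n₁ j from
        (hn₁ j).symm] at h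
      simp only [LinearMap.smul_apply, LinearMap.comp_apply]
      rw [← Nat.sub_add_cancel (hN₁ j), pow_add, mul_smul, h, mul_smul])
  have h2' : ∀ v, c ^ N • ε (d v) = 0 := LinearMap.congr_fun
    (show c ^ N • (ε ∘ₗ d) = 0 from bP₀.ext fun j => by
      have h := hk₂ j
      rw [Submonoid.smul_def, show ((k₂ j : Submonoid.powers c) : A) = c ^ n₂ j from (hn₂ j).symm] at h
      simp only [LinearMap.smul_apply, LinearMap.comp_apply, LinearMap.zero_apply]
      rw [← Nat.sub_add_cancel (hN₂ j), pow_add, mul_smul, h, smul_zero])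
  let g : P →ₗ[A] P := (LinearMap.ker e).subtype ∘ₗ proj hs ∘ₗ (c ^ N • (c ^ n • LinearMap.id - ε))
  have hg : ∀ j, g (bP j) ∈ LinearMap.range d := fun j => by
    have h : q (c ^ N • (c ^ n • bP j - ε (bP j))) = 0 := by
      rw [map_smul, map_sub, map_smul, smul_sub, h1', sub_self]
    exact ((Submodule.Quotient.mk_eq_zero ((LinearMap.range d).submoduleOf (LinearMap.ker e))).1 h :)
  choose τ hτ using hg
  have hdt : d ∘ₗ bP.constr A τ = g := bP.ext fun j => by simp [hτ]
  refine ⟨N + n, bP.constr A τ, LinearMap.ext fun w => ?_⟩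
  refine (LinearMap.congr_fun hdt (d w)).trans ?_
  have hedw : e (d w) = 0 := LinearMap.congr_fun hde w
  show (proj hs (c ^ N • (c ^ n • d w - ε (d w)))).1 = _
  rw [smul_sub, h2', sub_zero, proj_val]
  simp [hedw, smul_smul, pow_add]

include hde in
/-- Vanishing at a point. -/
theorem exists_splitsAt_of_exact_at [Module.Finite A P₀] [Module.Free A P₀] [Module.Finite A P]
    [Module.Free A P] [Module.Finite A Q] [Module.Free A Q] (K : Type u) [Field K] [Algebra A K]
    (h : ∀ z, e.baseChange K z = 0 → z ∈ LinearMap.range (d.baseChange K)) :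
    ∃ a : A, algebraMap A K a ≠ 0 ∧ SplitsAt e a ∧ SplitsAt d a ∧
      ∀ v, e v = 0 → a • v ∈ LinearMap.range d := by
  classical
  let d' := d.codRestrict (LinearMap.ker e) fun v => LinearMap.congr_fun hde v
  obtain ⟨a, ha, s, hs⟩ := exists_splitsAt_of_lifts K e fun z hz => by
    obtain ⟨w, rfl⟩ := h z hz
    exact ⟨d'.baseChange K w, by rw [← LinearMap.comp_apply, ← LinearMap.baseChange_comp]; rfl⟩
  let φ : P₀ × P →ₗ[A] P := d.coprod (s ∘ₗ e)
  have hφ : Function.Surjective (φ.baseChange K) := fun z => by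
    let π := (LinearMap.ker e).subtype ∘ₗ proj hs
    obtain ⟨η, hη⟩ := h (π.baseChange K z) (by
      rw [← LinearMap.comp_apply, ← LinearMap.baseChange_comp,
        show e ∘ₗ π = 0 from LinearMap.ext fun v => (proj hs v).2, LinearMap.baseChange_zero,
        LinearMap.zero_apply])
    refine ⟨(algebraMap A K a)⁻¹ • ((LinearMap.inl A P₀ P).baseChange K η +
      (LinearMap.inr A P₀ P).baseChange K z), ?_⟩
    rw [map_smul, map_add, ← LinearMap.comp_apply, ← LinearMap.comp_apply, ← LinearMap.baseChange_comp,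
      ← LinearMap.baseChange_comp, LinearMap.coprod_inl, LinearMap.coprod_inr, hη, ← LinearMap.add_apply,
      ← LinearMap.baseChange_add, show π + s ∘ₗ e = a • LinearMap.id from
        LinearMap.ext fun v => sub_add_cancel _ _, LinearMap.baseChange_smul, LinearMap.smul_apply,
      LinearMap.baseChange_id, LinearMap.id_apply, ← algebraMap_smul K a z, smul_smul, inv_mul_cancel₀ ha,
      one_smul]
  obtain ⟨b, hb, hmem⟩ := exists_smul_mem_range K φ hφ
  have hker : ∀ v, e v = 0 → (a * b) • v ∈ LinearMap.range d := fun v hv => by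
    obtain ⟨⟨u, w⟩, huw⟩ := hmem v
    have h1 : d u + s (e w) = b • v := huw
    have h2 := congrArg e h1
    have hse : e (s (e w)) = a • e w := LinearMap.congr_fun hs w
    rw [map_add, map_smul, hv, smul_zero, hse, show e (d u) = 0 from LinearMap.congr_fun hde u,
      zero_add] at h2
    refine ⟨a • u, ?_⟩
    rw [map_smul, mul_smul, ← h1, smul_add, ← map_smul s a (e w), h2, map_zero, add_zero]
  let bP := Module.Free.chooseBasis A P
  choose τ hτ using fun j => hker (proj hs (bP j)).1 (proj hs (bP j)).2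
  have hdt : d ∘ₗ bP.constr A τ = (a * b) • ((LinearMap.ker e).subtype ∘ₗ proj hs) :=
    bP.ext fun j => by simp [hτ]
  have hd : SplitsAt d ((a * b) * a) := ⟨bP.constr A τ, LinearMap.ext fun w => by
    refine (LinearMap.congr_fun hdt (d w)).trans ?_
    have : e (d w) = 0 := LinearMap.congr_fun hde w
    simp [proj_val, this, smul_smul]⟩
  refine ⟨(a * b) * a, by rw [map_mul, map_mul]; exact mul_ne_zero (mul_ne_zero ha hb) ha,
    SplitsAt.mul ⟨s, hs⟩ _, hd, fun v hv => ?_⟩
  rw [mul_comm, mul_smul]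
  exact Submodule.smul_mem _ a (hker v hv)

end BaseChange

section Reduced

variable [IsReduced A] [Module.Finite A P₀] [Module.Free A P₀] [Module.Finite A P] [Module.Free A P]
  [Module.Finite A Q] [Module.Free A Q]

/-- Where the rank is the least one, vectors with dual functionals give a generalised inverse. -/
theorem splitsAt_of_rk_le {e : P →ₗ[A] Q} {r : Type u} [Fintype r] [DecidableEq r] {v : r → P}
    {ψ : r → (Q →ₗ[A] A)} {a c : A} (hψ : ∀ i j, ψ i (e (v j)) = Pi.single (M := fun _ => A) i a j)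
    (hc : ∀ y : PrimeSpectrum A, c ∉ y.asIdeal →
      a ∉ y.asIdeal ∧ rk y.asIdeal.ResidueField e ≤ Fintype.card r) :
    SplitsAt e (c * a) := by
  let s₀ : Q →ₗ[A] P := ∑ i, (ψ i).smulRight (v i)
  let Φ : P →ₗ[A] Q := a • e - e ∘ₗ s₀ ∘ₗ e
  suffices h : c • Φ = 0 by
    refine ⟨c • s₀, LinearMap.ext fun p => ?_⟩
    have := LinearMap.congr_fun h p
    simp only [Φ, LinearMap.smul_apply, LinearMap.sub_apply, LinearMap.comp_apply, LinearMap.zero_apply,
      smul_sub, sub_eq_zero, smul_smul] at this
    simp only [LinearMap.comp_apply, LinearMap.smul_apply, map_smul, this]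
  let bQ := Module.Free.chooseBasis A Q
  refine LinearMap.ext fun p => bQ.ext_elem fun j => ?_
  rw [LinearMap.zero_apply, map_zero, Finsupp.zero_apply]
  refine IsNilpotent.eq_zero ?_
  rw [← mem_nilradical, nilradical_eq_sInf, Submodule.mem_sInf]
  intro (I : Ideal A) (hI : Ideal.IsPrime I)
  by_cases hcI : c ∈ I
  · simp only [LinearMap.smul_apply, map_smul, Finsupp.smul_apply, smul_eq_mul]
    exact I.mul_mem_right _ hcI
  obtain ⟨haI, hrk⟩ := hc ⟨I, hI⟩ hcI
  have haL : algebraMap A I.ResidueField a ≠ 0 := fun h => haI (Ideal.algebraMap_residueField_eq_zero.1 h)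
  have hspan : Submodule.span I.ResidueField (Set.range fun i => (1 : I.ResidueField) ⊗ₜ[A] e (v i)) =
      LinearMap.range (e.baseChange I.ResidueField) := by
    refine Submodule.eq_of_le_of_finrank_le (Submodule.span_le.2 ?_) ?_
    · rintro _ ⟨i, rfl⟩
      exact ⟨1 ⊗ₜ v i, LinearMap.baseChange_tmul _ _ _⟩
    · rw [finrank_span_eq_card (linearIndependent_of_dual _ hψ haL)]
      exact hrk
  have hz : (a • LinearMap.id - e ∘ₗ s₀).baseChange I.ResidueField ((1 : I.ResidueField) ⊗ₜ[A] e p) = 0 := by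
    have : (1 : I.ResidueField) ⊗ₜ[A] e p ∈
        Submodule.span I.ResidueField (Set.range fun i => (1 : I.ResidueField) ⊗ₜ[A] e (v i)) :=
      hspan.ge ⟨1 ⊗ₜ p, LinearMap.baseChange_tmul _ _ _⟩
    refine (Submodule.span_le (p := LinearMap.ker ((a • LinearMap.id - e ∘ₗ s₀).baseChange I.ResidueField))).2
      ?_ this
    rintro _ ⟨i, rfl⟩
    rw [SetLike.mem_coe, LinearMap.mem_ker, LinearMap.baseChange_tmul]
    have : s₀ (e (v i)) = a • v i := by
      simp only [s₀, LinearMap.coe_sum, Finset.sum_apply, LinearMap.smulRight_apply, hψ]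
      rw [Finset.sum_eq_single i]
      · simp
      · intro k _ hk
        simp [Pi.single_eq_of_ne' hk]
      · simp
    simp [this]
  rw [LinearMap.baseChange_tmul] at hz
  have := congrArg (fun t => (bQ.baseChange I.ResidueField).repr t j) hz
  simp only [Module.Basis.baseChange_repr_tmul, map_zero, Finsupp.zero_apply, Algebra.smul_def, mul_one] at this
  simp only [LinearMap.smul_apply, map_smul, Finsupp.smul_apply, smul_eq_mul]
  exact I.mul_mem_left _ (Ideal.algebraMap_residueField_eq_zero.1 this)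

/-- Over a reduced ring, a locally constant sum of ranks splits both maps. -/
theorem exists_splitsAt_of_locallyConstant (e : P →ₗ[A] Q) (d : P₀ →ₗ[A] P)
    (h : IsLocallyConstant fun y : PrimeSpectrum A =>
      rk y.asIdeal.ResidueField e + rk y.asIdeal.ResidueField d)
    (x : PrimeSpectrum A) :
    ∃ a : A, a ∉ x.asIdeal ∧ SplitsAt e a ∧ SplitsAt d a := by
  classical
  obtain ⟨r, _, _, v, ψ, a, ha, hr, hψ, -⟩ := exists_dual x.asIdeal.ResidueField e
  obtain ⟨r', _, _, v', ψ', a', ha', hr', hψ', -⟩ := exists_dual x.asIdeal.ResidueField d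
  have hne : ∀ (b : A) (y : PrimeSpectrum A), algebraMap A y.asIdeal.ResidueField b ≠ 0 ↔ b ∉ y.asIdeal :=
    fun b y => Ideal.algebraMap_residueField_eq_zero.not
  rw [hne] at ha ha'
  obtain ⟨_, ⟨c, rfl⟩, hxc, hcU⟩ := PrimeSpectrum.isTopologicalBasis_basic_opens.exists_subset_of_mem_open
    (show x ∈ (PrimeSpectrum.basicOpen (a * a') : Set (PrimeSpectrum A)) ∩
      {y | rk y.asIdeal.ResidueField e + rk y.asIdeal.ResidueField d =
        rk x.asIdeal.ResidueField e + rk x.asIdeal.ResidueField d} from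
      ⟨fun hm => (x.2.mem_or_mem hm).elim ha ha', rfl⟩)
    ((PrimeSpectrum.basicOpen (a * a')).2.inter (h.isOpen_fiber _))
  have hy : ∀ y : PrimeSpectrum A, c ∉ y.asIdeal → a ∉ y.asIdeal ∧ a' ∉ y.asIdeal ∧
      rk y.asIdeal.ResidueField e ≤ Fintype.card r ∧ rk y.asIdeal.ResidueField d ≤ Fintype.card r' := by
    intro y hcy
    obtain ⟨h1, h2⟩ := hcU hcy
    simp only [Set.mem_ofPred_eq] at h2
    have h1a : a ∉ y.asIdeal := fun hm => h1 (y.asIdeal.mul_mem_right _ hm)
    have h1a' : a' ∉ y.asIdeal := fun hm => h1 (y.asIdeal.mul_mem_left _ hm)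
    have := le_rk_of_dual y.asIdeal.ResidueField hψ ((hne a y).2 h1a)
    have := le_rk_of_dual y.asIdeal.ResidueField hψ' ((hne a' y).2 h1a')
    exact ⟨h1a, h1a', by omega, by omega⟩
  have he := splitsAt_of_rk_le hψ (c := c) fun y hc => ⟨(hy y hc).1, (hy y hc).2.2.1⟩
  have hd := splitsAt_of_rk_le hψ' (c := c) fun y hc => ⟨(hy y hc).2.1, (hy y hc).2.2.2⟩
  refine ⟨c * a * (c * a'), fun hm => ?_, mul_comm (c * a) (c * a') ▸ he.mul _, hd.mul _⟩
  rcases x.2.mem_or_mem hm with hm | hm <;> rcases x.2.mem_or_mem hm with hm | hm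
  exacts [hxc hm, ha hm, hxc hm, ha' hm]

end Reduced

end Groth.Agent.Mum71.Split
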