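import Groth.Agent.Mum71.LocalModel
import Groth.Agent.Mum71.SectCmpBij
import Groth.Agent.Mum71.Split
import Groth.Agent.Coh69.RpushQCoh
import Groth.Agent.EGAProj74.BasisIso

/-! The base change maps from the local models. -/

set_option autoImplicit false
set_option maxSynthPendingDepth 6
set_option synthInstance.maxHeartbeats 200000
set_option linter.style.haveILetI false
set_option backward.isDefEq.respectTransparency.types false

universe u

noncomputable section

open CategoryTheory CategoryTheory.Limits AlgebraicGeometry TopologicalSpace Opposite TensorProduct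

namespace Groth.Agent.Mum71

open Split (SplitsAt)

section Alg

variable {A : Type u} [CommRing A] {P₀ P Q R : Type u} [AddCommGroup P₀] [Module A P₀] [AddCommGroup P]
  [Module A P] [AddCommGroup Q] [Module A Q] [AddCommGroup R] [Module A R]

/-- All cycles after base change lift. -/
def Lifts (e : P →ₗ[A] Q) (B : Type u) [CommRing B] [Algebra A B] : Prop :=
  ∀ z, e.baseChange B z = 0 → z ∈ LinearMap.range ((LinearMap.ker e).subtype.baseChange B)

variable (d : P₀ →ₗ[A] P) (e : P →ₗ[A] Q) (hde : e ∘ₗ d = 0) {B : Type u} [CommRing B] [Algebra A B]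
  (u : LinearMap.ker e →ₗ[A] R) (hu : Function.Surjective u)
  (hu0 : ∀ z, z.1 ∈ LinearMap.range d → u z = 0)
  {C R' : Type u} [AddCommGroup C] [Module B C] [AddCommGroup R'] [Module B R']
  (E : C ≃ₗ[B] B ⊗[A] R) (v : LinearMap.ker (e.baseChange B) →+ R') (hv : Function.Surjective v)
  (hv0 : ∀ z, v z = 0 ↔ z.1 ∈ LinearMap.range (d.baseChange B))
  (hvs : ∀ (b : B) z, v (b • z) = b • v z) (β : C →+ R') (hβs : ∀ (b : B) c, β (b • c) = b • β c)
  (hβ : ∀ z z', z'.1 = (1 : B) ⊗ₜ[A] (z : LinearMap.ker e).1 → β (E.symm ((1 : B) ⊗ₜ u z)) = v z')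

variable (B) in
/-- Cycles tensored with `B`. -/
def kerMap : B ⊗[A] LinearMap.ker e →ₗ[B] LinearMap.ker (e.baseChange B) :=
  ((LinearMap.ker e).subtype.baseChange B).codRestrict _ fun x => by
    rw [LinearMap.mem_ker, ← LinearMap.comp_apply, ← LinearMap.baseChange_comp,
      show e ∘ₗ (LinearMap.ker e).subtype = 0 from LinearMap.ext fun w => w.2, LinearMap.baseChange_zero,
      LinearMap.zero_apply]

include hvs hβs hβ in
lemma beta_kerMap (x : B ⊗[A] LinearMap.ker e) :
    β (E.symm (u.baseChange B x)) = v (kerMap e B x) := by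
  induction x with
  | zero => simp only [map_zero]
  | add x y hx hy => simp only [map_add, hx, hy]
  | tmul b z =>
    rw [show b ⊗ₜ[A] z = b • ((1 : B) ⊗ₜ[A] z) by rw [TensorProduct.smul_tmul', smul_eq_mul, mul_one],
      (u.baseChange B).map_smul, E.symm.map_smul, hβs, (kerMap e B).map_smul, hvs]
    exact congrArg (b • ·) (hβ z (kerMap e B ((1 : B) ⊗ₜ z)) rfl)

include hde hu hv hv0 hvs hβs hβ in
theorem surjective_iff_lifts : Function.Surjective β ↔ Lifts e B := by
  constructor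
  · intro h z hz
    obtain ⟨c, hc⟩ := h (v ⟨z, hz⟩)
    obtain ⟨x, hx⟩ := LinearMap.lTensor_surjective B hu (E c)
    have h1 : v (kerMap e B x) = v ⟨z, hz⟩ := by
      rw [← beta_kerMap e u E v hvs β hβs hβ x]
      exact (congrArg β (by
        rw [LinearEquiv.symm_apply_eq]
        exact hx)).trans hc
    obtain ⟨w, hw⟩ := (hv0 _).1 (show v (⟨z, hz⟩ - kerMap e B x) = 0 by rw [map_sub, h1, sub_self])
    refine ⟨(d.codRestrict (LinearMap.ker e) fun p => LinearMap.congr_fun hde p).baseChange B w + x, ?_⟩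
    rw [map_add, ← LinearMap.comp_apply, ← LinearMap.baseChange_comp, LinearMap.subtype_comp_codRestrict, hw]
    exact sub_add_cancel _ _
  · intro h y
    obtain ⟨z, rfl⟩ := hv y
    obtain ⟨x, hx⟩ := h z.1 z.2
    refine ⟨E.symm (u.baseChange B x), (beta_kerMap e u E v hvs β hβs hβ x).trans (congrArg v ?_)⟩
    exact Subtype.ext hx

include hde hu hu0 hv hv0 hvs hβs hβ in
theorem bijective_of_splitsAt {a : A} (ha : SplitsAt e a) (hau : IsUnit (algebraMap A B a)) :
    Function.Bijective β := by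
  refine ⟨(injective_iff_map_eq_zero β).2 fun c hc => ?_,
    (surjective_iff_lifts d e hde u hu E v hv hv0 hvs β hβs hβ).2
      fun z hz => Split.mem_range_of_splitsAt B ha hau z hz⟩
  obtain ⟨x, hx⟩ := LinearMap.lTensor_surjective B hu (E c)
  have hcx : E.symm (u.baseChange B x) = c := by
    rw [LinearEquiv.symm_apply_eq]
    exact hx
  have h1 := (hv0 (kerMap e B x)).1 (by rw [← beta_kerMap e u E v hvs β hβs hβ x, hcx, hc])
  obtain ⟨w, hw⟩ := Split.mem_range_codRestrict_of_splitsAt hde B ha hau x h1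
  rw [← hcx, ← hw, ← LinearMap.comp_apply (u.baseChange B), ← LinearMap.baseChange_comp]
  rw [show u ∘ₗ d.codRestrict (LinearMap.ker e) (fun p => LinearMap.congr_fun hde p) = 0 from
    LinearMap.ext fun w => hu0 _ ⟨w, rfl⟩, LinearMap.baseChange_zero, LinearMap.zero_apply, map_zero]

end Alg

section Square

variable {X S : Scheme.{u}} {f : X ⟶ S} [HasInjectiveResolutions X.Modules] {F : X.Modules}
  {Δ : RDer.DerivedLES (Scheme.Modules.pushforward f)} (E : CohCmp.SectCmp f Δ)
  {V : S.Opens} (hV : IsAffineOpen V) (M : CohModel f F V)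

/-- Classes of cycles as sections of the higher direct image. -/
def secCls (p : ℕ) :
    LinearMap.ker (M.K.d (p : ℤ) ((p : ℤ) + 1)).hom →ₗ[Γ(S, V)] Γ((Coh.Rpush f p).obj F, V) where
  toFun z := oeps f E V F p (M.cls p z)
  map_add' z z' := by rw [map_add, map_add]
  map_smul' a z := by
    rw [M.cls_smul, sectCmp_smul]
    rfl

variable [QuasiCompact f] [QuasiSeparated f] [F.IsQuasicoherent]

include hV in
theorem secCls_surjective (p : ℕ) : Function.Surjective (secCls E M p) :=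
  (sectCmp_bijective f E F hV p).2.comp (M.cls_surjective p)

include hV in
theorem secCls_eq_zero_iff (p : ℕ) (z : LinearMap.ker (M.K.d (p : ℤ) ((p : ℤ) + 1)).hom) :
    secCls E M p z = 0 ↔ z.1 ∈ LinearMap.range (M.K.d ((p : ℤ) - 1) (p : ℤ)).hom :=
  (map_eq_zero_iff (oeps f E V F p) (sectCmp_bijective f E F hV p).1).trans (M.cls_eq_zero p z)

lemma d_comp_d' (p : ℤ) : (M.K.d p (p + 1)).hom ∘ₗ (M.K.d (p - 1) p).hom = 0 := by
  rw [← ModuleCat.hom_comp, M.K.d_comp_d]
  rfl

variable {X' S' : Scheme.{u}} {g' : X' ⟶ X} {f' : X' ⟶ S'} {g : S' ⟶ S}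
  [HasInjectiveResolutions X'.Modules]
  {Δ' : RDer.DerivedLES (Scheme.Modules.pushforward f')} {E' : CohCmp.SectCmp f' Δ'}
  (hX : IsPullback g' f' f g) (Bd : CohCmp.GenBC f g f' g' hX.w E E')
  {V' : S'.Opens} (hV' : IsAffineOpen V') (hVV' : V' ≤ g ⁻¹ᵁ V) [QuasiCompact f'] [QuasiSeparated f']

omit [F.IsQuasicoherent] [QuasiCompact f] [QuasiSeparated f] [QuasiCompact f'] [QuasiSeparated f'] in
lemma bc_app_unitSec (p : ℕ) (r : Γ((Coh.Rpush f p).obj F, V)) :
    (Bd.bc p F).app V' (QCPull72.unitSec g ((Coh.Rpush f p).obj F) hVV' r) =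
      QC70.res ((Coh.Rpush f' p).obj ((Scheme.Modules.pullback g').obj F)) hVV' ((Bd.φ p F).app V r) := by
  rw [QCPull72.unitSec, QC70.app_res]
  refine congrArg (QC70.res _ hVV') ?_
  have h : (Scheme.Modules.pullbackPushforwardAdjunction g).unit.app ((Coh.Rpush f p).obj F) ≫
      (Scheme.Modules.pushforward g).map (Bd.bc p F) = Bd.φ p F :=
    ((Scheme.Modules.pullbackPushforwardAdjunction g).homEquiv_unit _ _ _).symm.trans
      (Equiv.apply_symm_apply _ _)
  exact congr(Scheme.Modules.Hom.app $h V r)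

include hV hV' in
theorem bc_app_spec (p : ℕ) :
    letI := (g.appLE V V' hVV').hom.toAlgebra
    (Function.Surjective ((Bd.bc p F).app V') ↔ Lifts (M.K.d (p : ℤ) ((p : ℤ) + 1)).hom Γ(S', V')) ∧
      ∀ a : Γ(S, V), SplitsAt (M.K.d (p : ℤ) ((p : ℤ) + 1)).hom a → IsUnit (g.appLE V V' hVV' a) →
        Function.Bijective ((Bd.bc p F).app V') := by
  letI := (g.appLE V V' hVV').hom.toAlgebra
  let R := (Coh.Rpush f p).obj F
  let G := (Scheme.Modules.pullback g').obj F
  haveI : R.IsQuasicoherent := Coh69.isQuasicoherent_rpush f F p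
  haveI : G.IsQuasicoherent := QCPull72.isQuasicoherent_pullback g' F
  obtain ⟨c, hcs, hc0, hcsm, hcpull⟩ := M.square g' f' g hX V' hV' hVV' p
  obtain ⟨e, he⟩ := LimTop61.exists_baseChange_equiv g R hV hV' (e := hVV')
  let v := (oeps f' E' V' G p).comp c
  have hbij := sectCmp_bijective f' E' G hV' p
  let β : Γ((Scheme.Modules.pullback g).obj R, V') →+ Γ((Coh.Rpush f' p).obj G, V') :=
    AddMonoidHom.mk' (fun x => (Bd.bc p F).app V' x) (map_add _)
  have hβ : ∀ z z', z'.1 = (1 : Γ(S', V')) ⊗ₜ[Γ(S, V)] z.1 →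
      β (e.symm ((1 : Γ(S', V')) ⊗ₜ secCls E M p z)) = v z' := fun z z' h => by
    rw [show e.symm ((1 : Γ(S', V')) ⊗ₜ secCls E M p z) = QCPull72.unitSec g R hVV' (secCls E M p z) from
      e.injective ((e.apply_symm_apply _).trans (he _).symm)]
    refine (bc_app_unitSec E hX Bd hVV' p _).trans ?_
    refine (congrArg (QC70.res _ hVV') (Bd.compat V F p (M.cls p z))).trans ?_
    refine (sectCmp_resLE f' E' G (g ⁻¹ᵁ V) V' hVV' p _).trans ?_
    exact congrArg (oeps f' E' V' G p) (hcpull z z' h).symm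
  have hv : Function.Surjective v := hbij.2.comp hcs
  have hv0 : ∀ z, v z = 0 ↔ z.1 ∈ LinearMap.range ((M.K.d ((p : ℤ) - 1) (p : ℤ)).hom.baseChange Γ(S', V')) :=
    fun z => (map_eq_zero_iff (oeps f' E' V' G p) hbij.1).trans (hc0 z)
  have hvs : ∀ (b : Γ(S', V')) z, v (b • z) = b • v z := fun b z =>
    (congrArg (oeps f' E' V' G p) (hcsm b z)).trans (sectCmp_smul f' E' G V' p b (c z))
  have hβs : ∀ (b : Γ(S', V')) x, β (b • x) = b • β x := fun b x =>
    Scheme.Modules.Hom.app_smul (Bd.bc p F) b x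
  exact ⟨surjective_iff_lifts _ _ (d_comp_d' M p) (secCls E M p) (secCls_surjective E hV M p) e v hv hv0 hvs
      β hβs hβ,
    fun a ha hau => bijective_of_splitsAt _ _ (d_comp_d' M p) (secCls E M p) (secCls_surjective E hV M p)
      (fun z hz => (secCls_eq_zero_iff E hV M p z).2 hz) e v hv hv0 hvs β hβs hβ ha hau⟩

end Square

section Global

variable {X S : Scheme.{u}} (f : X ⟶ S) (F : X.Modules)

/-- Near `s` the next differential of some local model splits. -/
def Good (p : ℤ) (s : S) : Prop :=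
  ∃ (V : S.Opens) (_ : IsAffineOpen V) (M : CohModel f F V) (a : Γ(S, V)),
    s ∈ S.basicOpen a ∧ SplitsAt (M.K.d p (p + 1)).hom a

theorem isOpen_good (p : ℤ) : IsOpen {s | Good f F p s} := by
  refine isOpen_iff_forall_mem_open.2 fun s ⟨V, hV, M, a, hs, ha⟩ => ?_
  exact ⟨S.basicOpen a, fun t ht => ⟨V, hV, M, a, ht, ha⟩, (S.basicOpen a).isOpen, hs⟩

variable [HasInjectiveResolutions X.Modules] [QuasiCompact f] [QuasiSeparated f] [F.IsQuasicoherent]
  {Δ : RDer.DerivedLES (Scheme.Modules.pushforward f)} (E : CohCmp.SectCmp f Δ)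

theorem isIso_bc_of_good (p : ℕ) ⦃X' S' : Scheme.{u}⦄ (g' : X' ⟶ X) (f' : X' ⟶ S') (g : S' ⟶ S)
    (hX : IsPullback g' f' f g) [HasInjectiveResolutions X'.Modules]
    {Δ' : RDer.DerivedLES (Scheme.Modules.pushforward f')} {E' : CohCmp.SectCmp f' Δ'}
    (Bd : CohCmp.GenBC f g f' g' hX.w E E') (h : ∀ z : S', Good f F p (g z)) : IsIso (Bd.bc p F) := by
  haveI : QuasiCompact f' := MorphismProperty.of_isPullback (P := @QuasiCompact) hX ‹_›
  haveI : QuasiSeparated f' := MorphismProperty.of_isPullback (P := @QuasiSeparated) hX ‹_›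
  refine EGAProj74.isIso_of_basis _ {V' | ∃ (V : S.Opens) (hV : IsAffineOpen V) (M : CohModel f F V)
    (a : Γ(S, V)) (_ : IsAffineOpen V'), V' ≤ g ⁻¹ᵁ S.basicOpen a ∧
      SplitsAt (M.K.d (p : ℤ) ((p : ℤ) + 1)).hom a} (fun W z hz => ?_) fun V' hV' => ?_
  · obtain ⟨V, hV, M, a, hza, ha⟩ := h z
    obtain ⟨V', hV', hzV', hle⟩ := exists_isAffineOpen_mem_and_subset (X := S') (x := z)
      (U := W ⊓ g ⁻¹ᵁ S.basicOpen a) ⟨hz, hza⟩
    exact ⟨V', ⟨V, hV, M, a, hV', fun t ht => (hle ht).2, ha⟩, hzV', fun t ht => (hle ht).1⟩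
  · obtain ⟨V, hV, M, a, hV', hle, ha⟩ := hV'
    have hVV' : V' ≤ g ⁻¹ᵁ V := hle.trans (g.preimage_mono (S.basicOpen_le a))
    refine (bc_app_spec E hV M hX Bd hV' hVV' p).2 a ha ?_
    rw [show g.appLE V V' hVV' a = g.appLE (S.basicOpen a) V' hle
        (S.presheaf.map (homOfLE (S.basicOpen_le a)).op a) from
      (ConcreteCategory.congr_hom (Scheme.Hom.map_appLE g hle (homOfLE (S.basicOpen_le a)).op) a).symm]
    exact (RingedSpace.isUnit_res_basicOpen _ a).map _

end Global

end Groth.Agent.Mum71
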