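import Groth.Agent.Mum71.BcSections
import Groth.Agent.Mum71.Functor
import Mathlib.Algebra.Category.ModuleCat.ChangeOfRings

/-! The cohomology functor of a base change. -/

set_option autoImplicit false
set_option maxSynthPendingDepth 6
set_option synthInstance.maxHeartbeats 200000
set_option linter.style.haveILetI false
set_option backward.isDefEq.respectTransparency.types false

universe u

noncomputable section

open CategoryTheory CategoryTheory.Limits AlgebraicGeometry TopologicalSpace Opposite TensorProduct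
open CohIII (T tensorObj)

namespace Groth.Agent.Mum71

open Coh69 CechComp71 QC70 QCPull72 FF71

variable {A : Type u} [CommRing A] {X : Scheme.{u}} [X.Over (Spec (CommRingCat.of A))]
  {B : Type u} [CommRing B] [Algebra A B] {X' : Scheme.{u}} [X'.Over (Spec (CommRingCat.of B))]
  {g : X' ⟶ X}
  (hsq : IsPullback g (X' ↘ Spec (CommRingCat.of B)) (X ↘ Spec (CommRingCat.of A))
    (Spec.map (CommRingCat.ofHom (algebraMap A B))))
  {ι : Type u} {U : ι → X.Opens} (F : X.Modules) [F.IsQuasicoherent]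
  (hU : ⨆ i, U i = ⊤) (hU' : ∀ (n : ℕ) (i : Fin (n + 1) → ι), IsAffineOpen (cOpen U i))

/-- The preimages of the cover. -/
abbrev preU (g : X' ⟶ X) (U : ι → X.Opens) (i : ι) : X'.Opens := g ⁻¹ᵁ U i

lemma cOpen_preU (g : X' ⟶ X) {n : ℕ} (i : Fin n → ι) : cOpen (preU g U) i = g ⁻¹ᵁ cOpen U i := by
  ext x
  exact (mem_cOpen _ i x).trans (mem_cOpen U i (g x)).symm

/-- The comparison for the base changed functor. -/
def sqCoef (M : ModuleCat.{u} B) :
    Coef (A := A) U F (preU g U) (tA ((Scheme.Modules.pullback g).obj F) M)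
      ((ModuleCat.restrictScalars (algebraMap A B)).obj M) where
  θ p i := AddEquiv.ofBijective _ (sqMap_bijective hsq F (hU' p i) (cOpen_preU g i) M)
  θ_res p k j x m := by
    rw [AddEquiv.ofBijective_apply, AddEquiv.ofBijective_apply, sqMap_tmul, sqMap_tmul]
    refine Eq.trans ?_ (tMap_res ((Scheme.Modules.pullback g).obj F) M (cOpen_comp_le (preU g U) k j.succAbove)
      (unitSec g F (cOpen_preU g (k ∘ j.succAbove)).le x) (m : M))
    exact congrArg (fun y => tMap ((Scheme.Modules.pullback g).obj F) M _ (y ⊗ₜ[B] (m : M)))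
      (LimTop61.unitSec_res g F _ _ _ _ x)

include hsq hU' in
lemma acyclicOn_sq (M : ModuleCat.{u} B) :
    AcyclicOn (preU g U) (Coh.toAb (tA ((Scheme.Modules.pullback g).obj F) M)) := by
  haveI := isAffineHom_of_sq hsq
  haveI : ((Scheme.Modules.pullback g).obj F).IsQuasicoherent := isQuasicoherent_pullback _ _
  refine acyclicOn_tA _ (fun n i => ?_) M
  rw [cOpen_preU]
  exact (hU' n i).preimage _

variable [Finite ι]

lemma sqCoef_Φ_natural {M M' : ModuleCat.{u} B} (f : M ⟶ M') (p : ℕ)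
    (x : Ch U F p ⊗[A] ((ModuleCat.restrictScalars (algebraMap A B)).obj M)) (i : Fin (p + 1) → ι) :
    ((CohIII.tensorAFunctor B ((Scheme.Modules.pullback g).obj F)).map f).app (cOpen (preU g U) i)
        ((sqCoef hsq F hU' M).Φ p x i) =
      (sqCoef hsq F hU' M').Φ p
        (((ModuleCat.restrictScalars (algebraMap A B)).map f).hom.lTensor (Ch U F p) x) i := by
  induction x using TensorProduct.induction_on with
  | zero => simp only [map_zero, Pi.zero_apply]
  | add a b ha hb => simp only [map_add, Pi.add_apply, ha, hb]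
  | tmul c m =>
    rw [LinearMap.lTensor_tmul, Coef.Φ_tmul, Coef.Φ_tmul]
    exact tMap_natural ((Scheme.Modules.pullback g).obj F) f (cOpen (preU g U) i)
      (unitSec g F (cOpen_preU g i).le (c i) ⊗ₜ (m : M))

variable {L : CochainComplex (ModuleCat.{u} A) ℤ} {φ : L ⟶ chCx A U F}
  (hφ : ∀ M : ModuleCat.{u} A, QuasiIso
    (((MonoidalCategory.tensorRight M).mapHomologicalComplex (ComplexShape.up ℤ)).map φ))

include hsq hφ hU hU' in
theorem exists_sq_equiv_natural (p : ℕ) :
    ∃ e : ∀ M : ModuleCat.{u} B, T L (p : ℤ) ((ModuleCat.restrictScalars (algebraMap A B)).obj M) ≃+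
        Coh.HH X' (tA ((Scheme.Modules.pullback g).obj F) M) p,
      ∀ (M M' : ModuleCat.{u} B) (f : M ⟶ M') (t),
        e M' ((CohIII.TFun L (p : ℤ)).map ((ModuleCat.restrictScalars (algebraMap A B)).map f) t) =
          ((CohIII.tensorAFunctor B ((Scheme.Modules.pullback g).obj F) ⋙ CohIII.HAb X' p).map f).hom
            (e M t) := by
  have hUp : ⨆ i, preU g U i = ⊤ := by
    show ⨆ i, g ⁻¹ᵁ U i = ⊤
    rw [← Scheme.Hom.preimage_iSup, hU]
    rfl
  choose e he using fun M : ModuleCat.{u} B =>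
    (sqCoef hsq F hU' M).exists_equiv hUp (acyclicOn_sq hsq F hU' M) p
  let R := ModuleCat.restrictScalars.{u} (algebraMap A B)
  haveI : ∀ M : ModuleCat.{u} B,
      IsIso (HomologicalComplex.homologyMap (φM (F := F) (φ := φ) (R.obj M)) (p : ℤ)) := fun M =>
    (quasiIsoAt_iff_isIso_homologyMap _ _).1 ((hφ (R.obj M)).quasiIsoAt _)
  refine ⟨fun M => (asIso (HomologicalComplex.homologyMap (φM (F := F) (φ := φ) (R.obj M))
    (p : ℤ))).toLinearEquiv.toAddEquiv.trans (e M), fun M M' f t => ?_⟩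
  obtain ⟨z, rfl⟩ := FCx40.hcls_surjective (K := tensorObj L (R.obj M)) (CochainComplex.next ℤ (p : ℤ)) t
  show e M' ((HomologicalComplex.homologyMap (φM (F := F) (φ := φ) (R.obj M')) (p : ℤ)).hom
      ((HomologicalComplex.homologyMap (CohIII.tensorMap L (R.map f)) (p : ℤ)).hom
        (FCx40.hcls (tensorObj L (R.obj M)) (p : ℤ) ((p : ℤ) + 1) (CochainComplex.next ℤ (p : ℤ)) z))) =
    Sheaf.H.map ((SheafOfModules.toSheaf X'.ringCatSheaf).map
        ((CohIII.tensorAFunctor B ((Scheme.Modules.pullback g).obj F)).map f)) p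
      (e M ((HomologicalComplex.homologyMap (φM (F := F) (φ := φ) (R.obj M)) (p : ℤ)).hom
        (FCx40.hcls (tensorObj L (R.obj M)) (p : ℤ) ((p : ℤ) + 1) (CochainComplex.next ℤ (p : ℤ)) z)))
  rw [FCx40.hcls_map, FCx40.hcls_map, FCx40.hcls_map, he, he]
  refine Eq.trans ?_ (toHH_natural (preU g U) hUp _ p _)
  refine congrArg (toHH (preU g U) hUp (tA ((Scheme.Modules.pullback g).obj F) M') p)
    (Subtype.ext (funext fun i => ?_))
  refine Eq.trans ?_ (sqCoef_Φ_natural hsq F hU' f p ((φ.f (p : ℤ)).hom.rTensor (R.obj M) z.1) i).symm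
  exact congrArg (fun t => (sqCoef hsq F hU' M').Φ p t i)
    (FCx40.comm_rTensor_lTensor (φ.f (p : ℤ)).hom (R.map f).hom z.1)

include hsq hφ hU hU' in
/-- The cohomology functor of a base change. -/
theorem nonempty_sq_natIso (p : ℕ) :
    Nonempty ((ModuleCat.restrictScalars.{u} (algebraMap A B) ⋙ CohIII.TFun L (p : ℤ)) ⋙
        forget₂ (ModuleCat.{u} A) AddCommGrpCat.{u} ≅
      CohIII.tensorAFunctor B ((Scheme.Modules.pullback g).obj F) ⋙ CohIII.HAb X' p) := by
  obtain ⟨e, he⟩ := exists_sq_equiv_natural hsq F hU hU' hφ p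
  exact ⟨NatIso.ofComponents (fun M => (e M).toAddCommGrpIso) fun {M M'} f => by
    ext t
    exact he M M' f t⟩

end Groth.Agent.Mum71
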