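import Groth.Agent.Coh69.TensBC.Main
import Groth.Agent.FBase64.ReducedModField
import Groth.Agent.FMK72.BoxEpi
import Groth.Prelude.Def_CohBC2

/-!
The base change morphism `CohBC.bcQ` in terms of cycles of injective resolutions, and its bijectivity for
flat base change.
-/

set_option autoImplicit false
set_option maxSynthPendingDepth 6
set_option linter.style.haveILetI false
set_option backward.isDefEq.respectTransparency.types false

universe u

noncomputable section

open CategoryTheory CategoryTheory.Limits AlgebraicGeometry TopologicalSpace Opposite MonoidalCategory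

namespace Groth.Agent.Mum71

open Coh69

section Cls

variable {X S : Scheme.{u}} (f : X ⟶ S) {M : X.Modules} (R : InjectiveResolution M)

/-- The direct image of a resolution. -/
abbrev pushCx : CochainComplex S.Modules ℕ :=
  ((Scheme.Modules.pushforward f).mapHomologicalComplex (ComplexShape.up ℕ)).obj R.cocomplex

/-- The direct image of cycles are cycles. -/
def pushCyc (p : ℕ) : (Scheme.Modules.pushforward f).obj (cycZ R p) ≅ (pushCx f R).cycles p :=
  (pushHi f R p).conePointUniqueUpToIso ((pushCx f R).cyclesIsKernel p (p + 1) (by simp))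

theorem pushCyc_i (p : ℕ) : (pushCyc f R p).hom ≫ (pushCx f R).iCycles p =
    (Scheme.Modules.pushforward f).map (kernel.ι (R.cocomplex.d p (p + 1))) :=
  IsLimit.conePointUniqueUpToIso_hom_comp (pushHi f R p)
    ((pushCx f R).cyclesIsKernel p (p + 1) (by simp)) WalkingParallelPair.zero

theorem cycπ_pushCyc (m : ℕ) :
    (Scheme.Modules.pushforward f).map (cycπ R m) ≫ (pushCyc f R (m + 1)).hom =
      (pushCx f R).toCycles m (m + 1) := by
  refine (cancel_mono ((pushCx f R).iCycles (m + 1))).1 ?_
  refine (Category.assoc _ _ _).trans ((congrArg _ (pushCyc_i f R (m + 1))).trans ?_)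
  exact (((Scheme.Modules.pushforward f).map_comp _ _).symm.trans
    (congrArg (Scheme.Modules.pushforward f).map (kernel.lift_ι _ _ _))).trans
    ((pushCx f R).toCycles_i m (m + 1)).symm

variable [HasInjectiveResolutions X.Modules]

/-- The class of a cycle in the higher direct image. -/
def cls (p : ℕ) : (Scheme.Modules.pushforward f).obj (cycZ R p) ⟶ (Coh.Rpush f p).obj M :=
  (pushCyc f R p).hom ≫ (pushCx f R).homologyπ p ≫
    (R.isoRightDerivedObj (Scheme.Modules.pushforward f) p).inv

theorem cycπ_cls (m : ℕ) : (Scheme.Modules.pushforward f).map (cycπ R m) ≫ cls f R (m + 1) = 0 := by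
  refine (Category.assoc _ _ _).symm.trans ((congrArg (· ≫ _) (cycπ_pushCyc f R m)).trans ?_)
  exact (Category.assoc _ _ _).symm.trans
    ((congrArg (· ≫ _) ((pushCx f R).toCycles_comp_homologyπ m (m + 1))).trans zero_comp)

theorem isIso_cls_zero : IsIso (cls f R 0) := by
  haveI : IsIso ((pushCx f R).homologyπ 0) := (pushCx f R).isoHomologyπ₀.isIso_hom
  exact IsIso.comp_isIso' (pushCyc f R 0).isIso_hom
    (IsIso.comp_isIso' inferInstance (R.isoRightDerivedObj (Scheme.Modules.pushforward f) 0).isIso_inv)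

theorem isIso_desc_cls (m : ℕ) : IsIso (cokernel.desc _ _ (cycπ_cls f R m)) := by
  let e := R.isoRightDerivedObj (Scheme.Modules.pushforward f) (m + 1)
  obtain ⟨v, hv⟩ := CokernelCofork.IsColimit.desc'
    ((pushCx f R).homologyIsCokernel m (m + 1) (by simp))
    ((pushCyc f R (m + 1)).inv ≫ cokernel.π ((Scheme.Modules.pushforward f).map (cycπ R m)))
      ((congrArg (· ≫ (pushCyc f R (m + 1)).inv ≫ cokernel.π _) (cycπ_pushCyc f R m).symm).trans
        ((Category.assoc _ _ _).trans ((congrArg (_ ≫ ·) (Iso.hom_inv_id_assoc _ _)).trans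
          (cokernel.condition _))))
  change (pushCx f R).homologyπ (m + 1) ≫ v = _ at hv
  refine ⟨e.hom ≫ v, coequalizer.hom_ext ?_, (cancel_epi e.inv).1 ?_⟩
  · refine (cokernel.π_desc_assoc _ _ _ _).trans ?_
    show ((pushCyc f R (m + 1)).hom ≫ (pushCx f R).homologyπ (m + 1) ≫ e.inv) ≫ e.hom ≫ v = _
    refine ((Category.assoc _ _ _).trans (congrArg ((pushCyc f R (m + 1)).hom ≫ ·) ((Category.assoc _ _ _).trans
      (congrArg ((pushCx f R).homologyπ (m + 1) ≫ ·) (Iso.inv_hom_id_assoc _ _))))).trans ?_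
    exact (congrArg (_ ≫ ·) hv).trans ((Iso.hom_inv_id_assoc _ _).trans (Category.comp_id _).symm)
  · refine (Category.assoc _ _ _).symm.trans ?_
    refine (congrArg (· ≫ cokernel.desc _ _ (cycπ_cls f R m)) (e.inv_hom_id_assoc v)).trans ?_
    refine Eq.trans ?_ (Category.comp_id _).symm
    refine (cancel_epi ((pushCx f R).homologyπ (m + 1))).1 ?_
    refine (Category.assoc _ _ _).symm.trans ((congrArg (· ≫ _) hv).trans ?_)
    rw [Category.assoc, cokernel.π_desc]
    exact (Iso.inv_hom_id_assoc _ _)

end Cls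

section Square

variable {X S X' S' : Scheme.{u}} (f : X ⟶ S) (g : S' ⟶ S) (f' : X' ⟶ S') (g' : X' ⟶ X)
  (w : g' ≫ f = f' ≫ g)

/-- The two ways of pushing forward to the base. -/
abbrev sqIso : Scheme.Modules.pushforward g' ⋙ Scheme.Modules.pushforward f ≅
    Scheme.Modules.pushforward f' ⋙ Scheme.Modules.pushforward g :=
  Scheme.Modules.pushforwardComp g' f ≪≫ Scheme.Modules.pushforwardCongr w ≪≫
    (Scheme.Modules.pushforwardComp f' g).symm

/-- The adjoint form of the map on direct images of cycles. -/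
def cycBCAdj {Z : X.Modules} {Z' : X'.Modules} (φ : (Scheme.Modules.pullback g').obj Z ⟶ Z') :
    (Scheme.Modules.pushforward f).obj Z ⟶
      (Scheme.Modules.pushforward g).obj ((Scheme.Modules.pushforward f').obj Z') :=
  (Scheme.Modules.pushforward f).map
      ((Scheme.Modules.pullbackPushforwardAdjunction g').homEquiv _ _ φ) ≫
    (sqIso f g f' g' w).hom.app Z'

/-- The map on direct images of cycles. -/
def cycBC {Z : X.Modules} {Z' : X'.Modules} (φ : (Scheme.Modules.pullback g').obj Z ⟶ Z') :
    (Scheme.Modules.pullback g).obj ((Scheme.Modules.pushforward f).obj Z) ⟶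
      (Scheme.Modules.pushforward f').obj Z' :=
  ((Scheme.Modules.pullbackPushforwardAdjunction g).homEquiv _ _).symm (cycBCAdj f g f' g' w φ)

theorem cycBC_eq (sq : IsPullback g' f' f g) {Z : X.Modules} {Z' : X'.Modules}
    (φ : (Scheme.Modules.pullback g').obj Z ⟶ Z') :
    cycBC f g f' g' sq.w φ = TensBC.bcMap sq Z ≫ (Scheme.Modules.pushforward f').map φ := by
  refine (Equiv.symm_apply_eq _).2 ?_
  rw [Adjunction.homEquiv_naturality_right, TensBC.bcMap, Equiv.apply_symm_apply]
  show (Scheme.Modules.pushforward f).map _ ≫ (sqIso f g f' g' sq.w).hom.app Z' =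
    ((Scheme.Modules.pushforward f).map ((Scheme.Modules.pullbackPushforwardAdjunction g').unit.app Z) ≫
      (sqIso f g f' g' sq.w).hom.app _) ≫ _
  rw [Adjunction.homEquiv_unit, Functor.map_comp, Category.assoc, Category.assoc]
  exact congrArg (_ ≫ ·) ((sqIso f g f' g' sq.w).hom.naturality φ)

theorem cycBC_sub {Z : X.Modules} {Z' : X'.Modules} (φ ψ : (Scheme.Modules.pullback g').obj Z ⟶ Z')
    (sq : IsPullback g' f' f g) :
    cycBC f g f' g' sq.w (φ - ψ) = cycBC f g f' g' sq.w φ - cycBC f g f' g' sq.w ψ := by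
  rw [cycBC_eq f g f' g' sq, cycBC_eq f g f' g' sq, cycBC_eq f g f' g' sq, Functor.map_sub, Preadditive.comp_sub]

/-- Compatible maps between the cycles and the terms of two resolutions. -/
structure CycFam {M : X.Modules} {N : X'.Modules} (R : InjectiveResolution M) (R' : InjectiveResolution N) where
  z : ∀ j, (Scheme.Modules.pullback g').obj (cycZ R j) ⟶ cycZ R' j
  i : ∀ j, (Scheme.Modules.pullback g').obj (R.cocomplex.X j) ⟶ R'.cocomplex.X j
  ι_i : ∀ j, (Scheme.Modules.pullback g').map (kernel.ι (R.cocomplex.d j (j + 1))) ≫ i j =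
    z j ≫ kernel.ι (R'.cocomplex.d j (j + 1))
  π_z : ∀ j, (Scheme.Modules.pullback g').map (cycπ R j) ≫ z (j + 1) = i j ≫ cycπ R' j

variable {g'}
variable {M : X.Modules} {N : X'.Modules} {R : InjectiveResolution M} {R' : InjectiveResolution N}

theorem CycFam.exists_sub_eq [PreservesFiniteLimits (Scheme.Modules.pullback g')] (F F' : CycFam g' R R')
    (h₀ : F.z 0 = F'.z 0) : ∀ j, ∃ s, F.z (j + 1) - F'.z (j + 1) = s ≫ cycπ R' j := by
  haveI : (Scheme.Modules.pullback g').IsLeftAdjoint :=
    (Scheme.Modules.pullbackPushforwardAdjunction g').isLeftAdjoint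
  haveI : PreservesFiniteColimits (Scheme.Modules.pullback g') := inferInstance
  have hS := fun j => (cyc_shortExact R j).map_of_exact (Scheme.Modules.pullback g')
  have step : ∀ j (t : (Scheme.Modules.pullback g').obj (R.cocomplex.X j) ⟶ R'.cocomplex.X j),
      t ≫ cycπ R' j = 0 →
      (Scheme.Modules.pullback g').map (kernel.ι (R.cocomplex.d j (j + 1))) ≫ (F.i j - F'.i j - t) = 0 →
      ∃ s, F.z (j + 1) - F'.z (j + 1) = s ≫ cycπ R' j := by
    intro j t ht h
    obtain ⟨s, hs⟩ := CokernelCofork.IsColimit.desc' (hS j).gIsCokernel _ h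
    change (Scheme.Modules.pullback g').map (cycπ R j) ≫ s = _ at hs
    haveI : Epi ((Scheme.Modules.pullback g').map (cycπ R j)) := (hS j).epi_g
    refine ⟨s, (cancel_epi ((Scheme.Modules.pullback g').map (cycπ R j))).1 ?_⟩
    rw [reassoc_of% hs, Preadditive.comp_sub, F.π_z, F'.π_z, Preadditive.sub_comp, Preadditive.sub_comp, ht,
      sub_zero]
  intro j
  induction j with
  | zero =>
    refine step 0 0 zero_comp ?_
    rw [sub_zero, Preadditive.comp_sub, F.ι_i, F'.ι_i, h₀, sub_self]
  | succ j ih =>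
    obtain ⟨s, hs⟩ := ih
    haveI : Mono ((Scheme.Modules.pullback g').map (kernel.ι (R.cocomplex.d (j + 1) (j + 1 + 1)))) :=
      (hS (j + 1)).mono_f
    let t := Injective.factorThru s
      ((Scheme.Modules.pullback g').map (kernel.ι (R.cocomplex.d (j + 1) (j + 1 + 1))))
    refine step (j + 1) (t ≫ R'.cocomplex.d j (j + 1)) ?_ ?_
    · refine (cancel_mono (kernel.ι (R'.cocomplex.d (j + 1 + 1) (j + 1 + 1 + 1)))).1 ?_
      rw [Category.assoc, kernel.lift_ι, Category.assoc, R'.cocomplex.d_comp_d, comp_zero, zero_comp]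
    · rw [Preadditive.comp_sub, Preadditive.comp_sub, F.ι_i, F'.ι_i, ← Preadditive.sub_comp, hs,
        Injective.comp_factorThru_assoc, Category.assoc, kernel.lift_ι, sub_self]

end Square

section Formula

variable {X S X' S' : Scheme.{u}} (f : X ⟶ S) (g : S' ⟶ S) (f' : X' ⟶ S') (g' : X' ⟶ X)
  (w : g' ≫ f = f' ≫ g) [HasInjectiveResolutions X'.Modules] [HasInjectiveResolutions X.Modules]
  [PreservesFiniteLimits (Scheme.Modules.pullback g')] (M : X.Modules)

set_option quotPrecheck false in
local notation "NN" => (Scheme.Modules.pullback g').obj M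
local notation "P" => Scheme.Modules.pushforward f
local notation "Φ" => Scheme.Modules.pushforward g'
local notation "Φ'" => Scheme.Modules.pushforward f'
local notation "Ψ'" => Scheme.Modules.pushforward g
local notation "adj'" => Scheme.Modules.pullbackPushforwardAdjunction g'

/-- The cochain map of resolutions over the unit. -/
def uCx : (injectiveResolution M).cocomplex ⟶
    ((Φ).mapHomologicalComplex (ComplexShape.up ℕ)).obj (injectiveResolution NN).cocomplex :=
  InjectiveResolution.desc ((adj').unit.app M) (injectiveResolution ((Φ).obj NN)) (injectiveResolution M) ≫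
    RDer.descToInjectives (𝟙 ((Φ).obj NN)) (injectiveResolution ((Φ).obj NN)).cocomplex
      (injectiveResolution ((Φ).obj NN)).ι
      (((Φ).mapHomologicalComplex (ComplexShape.up ℕ)).obj (injectiveResolution NN).cocomplex)
      (RDer.mapAug Φ (injectiveResolution NN).ι)

theorem ι_uCx_zero : (injectiveResolution M).ι.f 0 ≫ (uCx g' M).f 0 =
    (adj').unit.app M ≫ (Φ).map ((injectiveResolution NN).ι.f 0) := by
  refine (congrArg ((injectiveResolution M).ι.f 0 ≫ ·) (HomologicalComplex.comp_f _ _ 0)).trans ?_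
  refine (InjectiveResolution.desc_commutes_zero_assoc _ _ _ _).trans ?_
  refine (Category.assoc _ _ _).trans (congrArg ((adj').unit.app M ≫ ·) ?_)
  refine ((RDer.ι_descToInjectives_f_zero _ _ _ _ _).trans (Category.id_comp _)).trans ?_
  simp [RDer.mapAug]
  rfl

/-- The transposed cochain map, termwise. -/
def vCx (j : ℕ) : (Scheme.Modules.pullback g').obj ((injectiveResolution M).cocomplex.X j) ⟶
    (injectiveResolution NN).cocomplex.X j :=
  ((adj').homEquiv _ _).symm ((uCx g' M).f j)

theorem vCx_d (i j : ℕ) : vCx g' M i ≫ (injectiveResolution NN).cocomplex.d i j =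
    (Scheme.Modules.pullback g').map ((injectiveResolution M).cocomplex.d i j) ≫ vCx g' M j := by
  rw [vCx, vCx, ← Adjunction.homEquiv_naturality_right_symm, ← Adjunction.homEquiv_naturality_left_symm]
  exact congrArg ((adj').homEquiv _ _).symm ((uCx g' M).comm i j)

/-- The induced maps on cycles. -/
def canFam : CycFam g' (injectiveResolution M) (injectiveResolution NN) where
  z j := kernel.lift _ ((Scheme.Modules.pullback g').map
      (kernel.ι ((injectiveResolution M).cocomplex.d j (j + 1))) ≫ vCx g' M j) (by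
    rw [Category.assoc, vCx_d, ← Functor.map_comp_assoc, kernel.condition, Functor.map_zero, zero_comp])
  i := vCx g' M
  ι_i j := (kernel.lift_ι _ _ _).symm
  π_z j := by
    refine (cancel_mono (kernel.ι _)).1 ?_
    rw [Category.assoc, kernel.lift_ι, ← Functor.map_comp_assoc, kernel.lift_ι, Category.assoc, kernel.lift_ι]
    exact (vCx_d g' M j (j + 1)).symm

theorem canFam_z_zero :
    (Scheme.Modules.pullback g').map (TensBC.cycZero (injectiveResolution M)).hom ≫ (canFam g' M).z 0 =
      (TensBC.cycZero (injectiveResolution NN)).hom := by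
  have hι : ∀ {Y : Scheme.{u}} {A : Y.Modules} (I : InjectiveResolution A),
      (TensBC.cycZero I).hom ≫ kernel.ι (I.cocomplex.d 0 1) = I.ι.f 0 := fun I =>
    IsLimit.conePointUniqueUpToIso_hom_comp I.isLimitKernelFork (limit.isLimit _) WalkingParallelPair.zero
  refine (cancel_mono (kernel.ι ((injectiveResolution NN).cocomplex.d 0 1))).1 ?_
  refine (Category.assoc _ _ _).trans ?_
  refine (congrArg _ (kernel.lift_ι _ _ _)).trans ?_
  refine (Functor.map_comp_assoc _ _ _ _).symm.trans ?_
  refine (congrArg (fun t => (Scheme.Modules.pullback g').map t ≫ vCx g' M 0) (hι _)).trans ?_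
  refine Eq.trans ?_ (hι _).symm
  rw [vCx]
  refine (Adjunction.homEquiv_naturality_left_symm _ _ _).symm.trans ?_
  refine (Equiv.symm_apply_eq _).2 ?_
  exact (ι_uCx_zero g' M).trans ((adj').homEquiv_unit _ _ _).symm

/-- The cochain map whose homology is the base change map. -/
def psiCx : pushCx f (injectiveResolution M) ⟶
    ((Ψ').mapHomologicalComplex (ComplexShape.up ℕ)).obj (pushCx f' (injectiveResolution NN)) :=
  ((P).mapHomologicalComplex (ComplexShape.up ℕ)).map (uCx g' M) ≫
    (NatTrans.mapHomologicalComplex (sqIso f g f' g' w).hom (ComplexShape.up ℕ)).app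
      (injectiveResolution NN).cocomplex

theorem bcQAdj_eq (p : ℕ) : CohBC.bcQAdj f g f' g' w p M =
    ((injectiveResolution M).isoRightDerivedObj P p).hom ≫
      HomologicalComplex.homologyMap (psiCx f g f' g' w M) p ≫
      RDer.homologyComparison Ψ' (pushCx f' (injectiveResolution NN)) p ≫
      (Ψ').map ((injectiveResolution NN).isoRightDerivedObj Φ' p).inv := by
  have h₁ := InjectiveResolution.isoRightDerivedObj_hom_naturality ((adj').unit.app M)
    (injectiveResolution M) (injectiveResolution ((Φ).obj NN))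
    (InjectiveResolution.desc ((adj').unit.app M) _ _) (InjectiveResolution.desc_commutes_zero _ _ _) P p
  have h₂ : (CohBC.RpushSquareIso f g f' g' w p).hom.app NN = _ :=
    InjectiveResolution.rightDerived_app_eq (sqIso f g f' g' w).hom (injectiveResolution NN) p
  unfold CohBC.bcQAdj RDer.edgeIn RDer.edgeOut
  rw [h₂]
  simp only [Category.assoc]
  refine (Category.assoc _ _ _).symm.trans ((congrArg (· ≫ _) h₁).trans ?_)
  simp only [Category.assoc, Iso.inv_hom_id_assoc]
  erw [Iso.inv_hom_id_assoc]
  refine congrArg _ ?_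
  rw [psiCx, uCx, Functor.map_comp]
  simp only [HomologicalComplex.homologyMap_comp, Category.assoc]
  rfl

set_option maxHeartbeats 1000000 in
theorem cls_bcQAdj (p : ℕ) :
    cls f (injectiveResolution M) p ≫ CohBC.bcQAdj f g f' g' w p M =
      cycBCAdj f g f' g' w ((canFam g' M).z p) ≫ (Ψ').map (cls f' (injectiveResolution NN) p) := by
  haveI : (Ψ').IsRightAdjoint := (Scheme.Modules.pullbackPushforwardAdjunction g).isRightAdjoint
  haveI : PreservesFiniteLimits (Ψ') := inferInstance
  let K := pushCx f (injectiveResolution M)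
  let K' := pushCx f' (injectiveResolution NN)
  have hz : (pushCyc f (injectiveResolution M) p).hom ≫ HomologicalComplex.cyclesMap (psiCx f g f' g' w M) p ≫
      RDer.cyclesComparison Ψ' K' p =
      cycBCAdj f g f' g' w ((canFam g' M).z p) ≫ (Ψ').map (pushCyc f' (injectiveResolution NN) p).hom := by
    haveI : Mono ((Ψ').map (K'.iCycles p)) := inferInstance
    refine (cancel_mono ((Ψ').map (K'.iCycles p))).1 ?_
    have e1 : RDer.cyclesComparison Ψ' K' p ≫ (Ψ').map (K'.iCycles p) =
        (((Ψ').mapHomologicalComplex (ComplexShape.up ℕ)).obj K').iCycles p := RDer.cyclesComparison_i _ _ _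
    refine ((Category.assoc _ _ _).trans (congrArg ((pushCyc f (injectiveResolution M) p).hom ≫ ·)
      ((Category.assoc _ _ _).trans ((congrArg (HomologicalComplex.cyclesMap (psiCx f g f' g' w M) p ≫ ·) e1).trans
        (HomologicalComplex.cyclesMap_i (psiCx f g f' g' w M) p))))).trans ?_
    refine Eq.trans ?_ ((Category.assoc _ _ _).trans (congrArg (cycBCAdj f g f' g' w ((canFam g' M).z p) ≫ ·)
      (((Ψ').map_comp _ _).symm.trans (congrArg (Ψ').map (pushCyc_i f' (injectiveResolution NN) p))))).symm
    refine (Category.assoc _ _ _).symm.trans ((congrArg (· ≫ _) (pushCyc_i f _ p)).trans ?_)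
    show (P).map _ ≫ (P).map ((uCx g' M).f p) ≫ (sqIso f g f' g' w).hom.app _ =
      ((P).map _ ≫ (sqIso f g f' g' w).hom.app _) ≫ _
    refine Eq.trans ?_ ((Category.assoc _ _ _).trans
      (congrArg ((P).map ((adj').homEquiv _ _ ((canFam g' M).z p)) ≫ ·)
        ((sqIso f g f' g' w).hom.naturality
          (kernel.ι ((injectiveResolution NN).cocomplex.d p (p + 1)))).symm)).symm
    refine ((Functor.map_comp_assoc _ _ _ _).symm.trans ?_).trans (Functor.map_comp_assoc _ _ _ _)
    refine congrArg (fun t => (P).map t ≫ _) ?_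
    refine Eq.trans ?_ ((adj').homEquiv_naturality_right _ _)
    rw [← (canFam g' M).ι_i p]
    refine Eq.trans ?_ ((adj').homEquiv_naturality_left _ _).symm
    exact congrArg (_ ≫ ·) (Equiv.apply_symm_apply _ _).symm
  let i := (injectiveResolution M).isoRightDerivedObj P p
  let i' := (injectiveResolution NN).isoRightDerivedObj Φ' p
  let H := HomologicalComplex.homologyMap (psiCx f g f' g' w M) p
  let hc := RDer.homologyComparison Ψ' K' p
  let A := cycBCAdj f g f' g' w ((canFam g' M).z p)
  let κ := (pushCyc f (injectiveResolution M) p).hom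
  let κ' := (pushCyc f' (injectiveResolution NN) p).hom
  have e2 : K.homologyπ p ≫ H ≫ hc = HomologicalComplex.cyclesMap (psiCx f g f' g' w M) p ≫
      RDer.cyclesComparison Ψ' K' p ≫ (Ψ').map (K'.homologyπ p) :=
    (HomologicalComplex.homologyπ_naturality_assoc (psiCx f g f' g' w M) p hc).trans
      (congrArg (HomologicalComplex.cyclesMap (psiCx f g f' g' w M) p ≫ ·)
        (RDer.homologyπ_homologyComparison Ψ' K' p))
  refine (congrArg (cls f (injectiveResolution M) p ≫ ·) (bcQAdj_eq f g f' g' w M p)).trans ?_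
  show (κ ≫ K.homologyπ p ≫ i.inv) ≫ i.hom ≫ H ≫ hc ≫ (Ψ').map i'.inv =
    A ≫ (Ψ').map (κ' ≫ K'.homologyπ p ≫ i'.inv)
  refine ((Category.assoc _ _ _).trans (congrArg (κ ≫ ·) ((Category.assoc _ _ _).trans
    (congrArg (K.homologyπ p ≫ ·) (Iso.inv_hom_id_assoc _ _))))).trans ?_
  have e3 : K.homologyπ p ≫ H ≫ hc ≫ (Ψ').map i'.inv = (HomologicalComplex.cyclesMap (psiCx f g f' g' w M) p ≫
      RDer.cyclesComparison Ψ' K' p ≫ (Ψ').map (K'.homologyπ p)) ≫ (Ψ').map i'.inv :=
    ((congrArg (K.homologyπ p ≫ ·) (Category.assoc _ _ _).symm).trans (Category.assoc _ _ _).symm).trans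
      (congrArg (· ≫ (Ψ').map i'.inv) e2)
  refine (congrArg (κ ≫ ·) e3).trans ?_
  refine Eq.trans ?_ (congrArg (A ≫ ·) (((Ψ').map_comp _ _).trans
    (congrArg ((Ψ').map κ' ≫ ·) ((Ψ').map_comp _ _)))).symm
  refine Eq.trans ?_ ((congrArg (· ≫ ((Ψ').map (K'.homologyπ p) ≫ (Ψ').map i'.inv)) hz).trans
    (Category.assoc _ _ _))
  simp only [κ, Category.assoc]

/-- The base change morphism on cycles. -/
theorem cls_bcQ (p : ℕ) :
    (Scheme.Modules.pullback g).map (cls f (injectiveResolution M) p) ≫ CohBC.bcQ f g f' g' w p M =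
      cycBC f g f' g' w ((canFam g' M).z p) ≫ cls f' (injectiveResolution NN) p := by
  rw [CohBC.bcQ, ← Adjunction.homEquiv_naturality_left_symm, cls_bcQAdj, cycBC,
    Adjunction.homEquiv_naturality_right_symm]

end Formula

section Unit

variable {X : Scheme.{u}}

/-- The structure sheaf is a unit for the tensor product, naturally. -/
def unitTensNat : (DCoh.tensorBi (X := X)).obj (Coh.structureModule X) ≅ 𝟭 X.Modules :=
  NatIso.ofComponents EGA73.tensUnitLeft fun {A B} φ => by
    refine GRec72.hom_ext_tmul fun U c m => ?_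
    show (EGA73.tensUnitLeft B).hom.app U (((DCoh.tensorBi (X := X)).obj (Coh.structureModule X)).map φ |>.app U
        (Amp73.tm _ _ c m)) = φ.app U ((EGA73.tensUnitLeft A).hom.app U (Amp73.tm _ _ c m))
    refine (congrArg _ (TensBC.tensorBi_map_tmul (Coh.structureModule X) φ U c m)).trans ?_
    refine (FMK72.tensUnitLeft_tm B _ _).trans ?_
    exact ((congrArg _ (FMK72.tensUnitLeft_tm A _ _)).trans (φ.app_smul _ _)).symm

variable {S' X' : Scheme.{u}} (f' : X' ⟶ S') (g' : X' ⟶ X)

/-- `f'^*O ⊗ g'^*- = g'^*-`. -/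
def etaUp : TensBC.tensPull g' ((Scheme.Modules.pullback f').obj (Coh.structureModule S')) ≅
    Scheme.Modules.pullback g' :=
  Functor.isoWhiskerLeft (Scheme.Modules.pullback g')
    ((DCoh.tensorBi (X := X')).mapIso (PicLoc.pullbackStructureIso f') ≪≫ unitTensNat) ≪≫
    Functor.rightUnitor _

theorem etaUp_tm (Z : X.Modules) (U : S'.Opens) (γ : Γ(S', U))
    (y : Γ((Scheme.Modules.pullback g').obj Z, f' ⁻¹ᵁ U)) :
    ((etaUp f' g').hom.app Z).app (f' ⁻¹ᵁ U)
      (Amp73.tm _ _ (Amp73.pullS f' (Coh.structureModule S') U γ) y) = f'.app U γ • y := by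
  have h1 : (PicLoc.pullbackStructureIso f').hom.app (f' ⁻¹ᵁ U)
      (Amp73.pullS f' (Coh.structureModule S') U γ) = f'.app U γ := by
    have hγ : Amp73.pullS f' (Coh.structureModule S') U γ =
        f'.app U γ • Amp73.pullS f' (Coh.structureModule S') U (1 : Γ(S', U)) :=
      (congrArg (Amp73.pullS f' (Coh.structureModule S') U) (mul_one γ).symm).trans
        (Amp73.pullS_smul f' (Coh.structureModule S') U γ (1 : Γ(S', U)))
    rw [hγ]
    refine ((PicLoc.pullbackStructureIso f').hom.app_smul _ _).trans ?_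
    refine (congrArg (f'.app U γ • ·) (Amp73.pullbackStructureIso_pullS f' U)).trans ?_
    exact mul_one (show Γ(X', f' ⁻¹ᵁ U) from f'.app U γ)
  show (EGA73.tensUnitLeft _).hom.app (f' ⁻¹ᵁ U) (((DCoh.tensorRightMod ((Scheme.Modules.pullback g').obj Z)).map
    (PicLoc.pullbackStructureIso f').hom).app (f' ⁻¹ᵁ U) (Amp73.tm _ _ _ y)) = _
  refine (congrArg _ (GRec72.tmul_map _ (PicLoc.pullbackStructureIso f').hom _ _ y)).trans ?_
  refine (FMK72.tensUnitLeft_tm _ _ y).trans ?_
  exact congrArg (fun t : Γ(X', f' ⁻¹ᵁ U) => t • y) h1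

end Unit

section Main

variable {X S X' S' : Scheme.{u}} (f : X ⟶ S) (g : S' ⟶ S) (f' : X' ⟶ S') (g' : X' ⟶ X)
  (sq : IsPullback g' f' f g)

/-- `O ⊗ g^*- = g^*-`. -/
def etaDown : TensBC.tensPull g (Coh.structureModule S') ≅ Scheme.Modules.pullback g :=
  Functor.isoWhiskerLeft (Scheme.Modules.pullback g) unitTensNat ≪≫ Functor.rightUnitor _

theorem theta_eq {Z : X.Modules} {Z' : X'.Modules}
    (φ : (TensBC.tensPull g' ((Scheme.Modules.pullback f').obj (Coh.structureModule S'))).obj Z ⟶ Z') :
    TensBC.theta sq (Coh.structureModule S') φ =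
      (etaDown g).hom.app _ ≫ cycBC f g f' g' sq.w ((etaUp f' g').inv.app Z ≫ φ) := by
  rw [cycBC_eq f g f' g' sq]
  refine GRec72.hom_ext_tmul fun U γ x => ?_
  refine (TensBC.theta_tm sq _ φ U γ x).trans ?_
  show _ = φ.app (f' ⁻¹ᵁ U) (((etaUp f' g').inv.app Z).app (f' ⁻¹ᵁ U)
    ((TensBC.bcMap sq Z).app U (((etaDown g).hom.app _).app U (Amp73.tm _ _ γ x))))
  have h1 : ((etaDown g).hom.app ((Scheme.Modules.pushforward f).obj Z)).app U (Amp73.tm _ _ γ x) =
      (show Γ(S', U) from γ) • x := FMK72.tensUnitLeft_tm _ _ x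
  rw [h1, (TensBC.bcMap sq Z).app_smul]
  refine congrArg (φ.app (f' ⁻¹ᵁ U)) ?_
  have h2 := etaUp_tm f' g' Z U γ ((TensBC.bcMap sq Z).app U x)
  refine Eq.trans ?_ (congrArg (((etaUp f' g').inv.app Z).app (f' ⁻¹ᵁ U)) h2)
  exact (ConcreteCategory.congr_hom (congrArg (fun q => Scheme.Modules.Hom.app q (f' ⁻¹ᵁ U))
    ((etaUp f' g').hom_inv_id_app Z)) _).symm

/-- A resolution of an isomorphic module. -/
def transportRes {A B : X.Modules} (c : A ≅ B) (J : InjectiveResolution B) : InjectiveResolution A where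
  cocomplex := J.cocomplex
  injective := J.injective
  ι := (CochainComplex.single₀ X.Modules).map c.hom ≫ J.ι
  quasiIso := inferInstance

theorem isIso_bcQ [QuasiCompact f] [QuasiSeparated f] [Flat g] [HasInjectiveResolutions X'.Modules]
    [HasInjectiveResolutions X.Modules] [PreservesFiniteLimits (Scheme.Modules.pullback g')]
    (M : X.Modules) [M.IsQuasicoherent] (p : ℕ) : IsIso (CohBC.bcQ f g f' g' sq.w p M) := by
  haveI : (Coh.structureModule S').IsQuasicoherent := QC70.isQuasicoherent_unit
  let O := Coh.structureModule S'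
  have hflat : FlatMod.IsFlatOver g O := FBase64.RedField.isFlatOver_structure g
  have hK := TensBC.flat_pullback sq O hflat
  let T := TensBC.tensPull g' ((Scheme.Modules.pullback f').obj O)
  let R := injectiveResolution M
  let J := injectiveResolution ((Scheme.Modules.pullback g').obj M)
  let R' : InjectiveResolution (T.obj M) := transportRes ((etaUp f' g').app M) J
  let F : CycFam g' R J :=
    { z := fun j => (etaUp f' g').inv.app _ ≫ TensBC.phiZ hK R R' j
      i := fun j => (etaUp f' g').inv.app _ ≫ TensBC.phiI hK R R' j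
      ι_i := fun j => by
        refine ((etaUp f' g').inv.naturality_assoc _ _).trans ?_
        exact (congrArg _ (TensBC.ι_phiI hK R R' j)).trans (Category.assoc _ _ _).symm
      π_z := fun j => by
        refine ((etaUp f' g').inv.naturality_assoc _ _).trans ?_
        exact (congrArg _ (TensBC.π_phiZ hK R R' j)).trans (Category.assoc _ _ _).symm }
  have h₀ : F.z 0 = (canFam g' M).z 0 := by
    haveI : IsIso (TensBC.cycZero R).hom := inferInstance
    refine (cancel_epi ((Scheme.Modules.pullback g').map (TensBC.cycZero R).hom)).1 ?_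
    refine Eq.trans ?_ (canFam_z_zero g' M).symm
    show _ ≫ (etaUp f' g').inv.app _ ≫ T.map (TensBC.cycZero R).inv ≫ (TensBC.cycZero R').hom = _
    rw [(etaUp f' g').inv.naturality_assoc, ← Functor.map_comp_assoc, Iso.hom_inv_id,
      CategoryTheory.Functor.map_id, Category.id_comp]
    refine (cancel_mono (kernel.ι (J.cocomplex.d 0 1))).1 ?_
    refine Eq.trans ?_ (IsLimit.conePointUniqueUpToIso_hom_comp J.isLimitKernelFork (limit.isLimit _)
      WalkingParallelPair.zero).symm
    refine (Category.assoc _ _ _).trans ?_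
    refine (congrArg _ (IsLimit.conePointUniqueUpToIso_hom_comp R'.isLimitKernelFork (limit.isLimit _)
      WalkingParallelPair.zero)).trans ?_
    show (etaUp f' g').inv.app M ≫ ((CochainComplex.single₀ X'.Modules).map ((etaUp f' g').app M).hom ≫ J.ι).f 0 =
      J.ι.f 0
    simp
  cases p with
  | zero =>
    haveI := TensBC.isIso_theta sq O hflat hK R R'
    have h1 : IsIso (cycBC f g f' g' sq.w (F.z 0)) := by
      have h : IsIso ((etaDown g).hom.app _ ≫ cycBC f g f' g' sq.w ((etaUp f' g').inv.app _ ≫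
          TensBC.phiZ hK R R' 0)) := by
        rw [← theta_eq f g f' g' sq (TensBC.phiZ hK R R' 0)]
        exact ‹IsIso (TensBC.theta sq O (TensBC.phiZ hK R R' 0))›
      exact @IsIso.of_isIso_comp_left _ _ _ _ _ ((etaDown g).hom.app _) _ inferInstance h
    rw [h₀] at h1
    haveI := isIso_cls_zero f R
    haveI := isIso_cls_zero f' J
    haveI : IsIso ((Scheme.Modules.pullback g).map (cls f R 0) ≫ CohBC.bcQ f g f' g' sq.w 0 M) := by
      rw [cls_bcQ f g f' g' sq.w M 0]
      exact IsIso.comp_isIso' h1 ‹IsIso (cls f' J 0)›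
    exact IsIso.of_isIso_comp_left ((Scheme.Modules.pullback g).map (cls f R 0)) _
  | succ m =>
    haveI := TensBC.isIso_psi sq O hflat hK R R' m
    haveI := isIso_desc_cls f R m
    haveI := isIso_desc_cls f' J m
    let c := cokernel.desc _ _ (cycπ_cls f R m)
    let c' := cokernel.desc _ _ (cycπ_cls f' J m)
    let ψ := (etaDown g).inv.app _ ≫ TensBC.psi sq O hK R R' m ≫ c'
    have key : (Scheme.Modules.pullback g).map c ≫ CohBC.bcQ f g f' g' sq.w (m + 1) M = ψ := by
      haveI : (Scheme.Modules.pullback g).IsLeftAdjoint :=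
        (Scheme.Modules.pullbackPushforwardAdjunction g).isLeftAdjoint
      haveI : Epi ((Scheme.Modules.pullback g).map
          (cokernel.π ((Scheme.Modules.pushforward f).map (cycπ R m)))) := inferInstance
      refine (cancel_epi ((Scheme.Modules.pullback g).map
          (cokernel.π ((Scheme.Modules.pushforward f).map (cycπ R m))))).1 ?_
      rw [← Functor.map_comp_assoc, cokernel.π_desc, cls_bcQ f g f' g' sq.w M (m + 1)]
      obtain ⟨s, hs⟩ := CycFam.exists_sub_eq F (canFam g' M) h₀ m
      have h2 : cycBC f g f' g' sq.w (F.z (m + 1)) ≫ cls f' J (m + 1) =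
          cycBC f g f' g' sq.w ((canFam g' M).z (m + 1)) ≫ cls f' J (m + 1) := by
        rw [← sub_eq_zero, ← Preadditive.sub_comp, ← cycBC_sub f g f' g' _ _ sq, hs, cycBC_eq f g f' g' sq,
          Functor.map_comp, Category.assoc, Category.assoc, cycπ_cls, comp_zero, comp_zero]
      refine h2.symm.trans ?_
      refine Eq.trans ?_ ((etaDown g).inv.naturality_assoc _ _).symm
      rw [← Category.assoc (g := TensBC.psi sq O hK R R' m)]
      refine Eq.trans ?_ (congrArg (_ ≫ ·) (congrArg (· ≫ c') (TensBC.π_psi sq O hK R R' m).symm))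
      show _ = (etaDown g).inv.app _ ≫ (TensBC.theta sq O (TensBC.phiZ hK R R' (m + 1)) ≫ cokernel.π _) ≫ c'
      rw [theta_eq f g f' g' sq]
      simp only [Category.assoc, Iso.inv_hom_id_app_assoc]
      exact congrArg (_ ≫ ·) (cokernel.π_desc _ _ _).symm
    haveI : IsIso ((Scheme.Modules.pullback g).map c ≫ CohBC.bcQ f g f' g' sq.w (m + 1) M) := by
      rw [key]
      exact IsIso.comp_isIso' inferInstance (IsIso.comp_isIso' ‹IsIso (TensBC.psi sq O hK R R' m)›
        ‹IsIso c'›)
    exact IsIso.of_isIso_comp_left ((Scheme.Modules.pullback g).map c) _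

end Main

end Groth.Agent.Mum71
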