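import Groth.Agent.Mum71.Algebra
import Groth.Agent.FF71.Fin
import Groth.Agent.CechComp71.Scheme
import Groth.Agent.FCx40.Cls
import Mathlib.LinearAlgebra.TensorProduct.Pi

/-! Čech complexes of modules, with coefficients. -/

set_option autoImplicit false
set_option maxSynthPendingDepth 6
set_option synthInstance.maxHeartbeats 200000
set_option linter.style.haveILetI false
set_option backward.isDefEq.respectTransparency.types false

universe u

noncomputable section

open CategoryTheory CategoryTheory.Limits AlgebraicGeometry TopologicalSpace Opposite TensorProduct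

namespace Groth.Agent.Mum71

open Coh69 CechComp71

variable {A : Type u} [CommRing A] {X : Scheme.{u}} [X.Over (Spec (CommRingCat.of A))]

/-- Sections as modules over the base ring. -/
scoped instance modSec (M : X.Modules) (V : X.Opens) : Module A Γ(M, V) :=
  Module.compHom Γ(M, V) (FF71.rA A X V)

lemma modSec_smul (M : X.Modules) (V : X.Opens) (a : A) (x : Γ(M, V)) :
    a • x = FF71.rA A X V a • x := rfl

variable {ι : Type u} (U : ι → X.Opens) (F : X.Modules)

/-- Cochains, with their module structure. -/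
abbrev Ch (p : ℕ) : Type u := ∀ i : Fin (p + 1) → ι, Γ(F, cOpen U i)

variable (A) in
/-- The differential, linearly. -/
def cdL (p : ℕ) : Ch U F p →ₗ[A] Ch U F (p + 1) where
  toFun := cd U F.presheaf p
  map_add' x y := (cd U F.presheaf p).map_add x y
  map_smul' a c := FF71.cd_smulC U F p a c

lemma cdL_apply (p : ℕ) (c : Ch U F p) (k : Fin (p + 2) → ι) :
    cdL A U F p c k = ∑ j : Fin (p + 2), (-1 : ℤ) ^ (j : ℕ) •
      QC70.res F (cOpen_comp_le U k j.succAbove) (c (k ∘ j.succAbove)) := rfl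

variable (A) in
/-- The terms of the Čech complex. -/
def chX : ℤ → ModuleCat.{u} A
  | .ofNat p => ModuleCat.of A (Ch U F p)
  | .negSucc _ => ModuleCat.of A PUnit.{u + 1}

variable (A) in
/-- The differentials of the Čech complex. -/
def chD : ∀ i : ℤ, chX A U F i ⟶ chX A U F (i + 1)
  | .ofNat p => ModuleCat.ofHom (cdL A U F p)
  | .negSucc _ => 0

lemma chD_chD : ∀ i : ℤ, chD A U F i ≫ chD A U F (i + 1) = 0
  | .ofNat p => ModuleCat.hom_ext (LinearMap.ext fun c => cd_cd (P := F.presheaf) U p c)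
  | .negSucc _ => zero_comp

variable (A) in
/-- The Čech complex. -/
def chCx : CochainComplex (ModuleCat.{u} A) ℤ :=
  CochainComplex.of (chX A U F) (chD A U F) (chD_chD U F)

lemma chCx_d (i : ℤ) : (chCx A U F).d i (i + 1) = chD A U F i := CochainComplex.of_d _ _ _

lemma chCx_d_ofNat (p : ℕ) :
    (chCx A U F).d (p : ℤ) ((p : ℤ) + 1) = ModuleCat.ofHom (cdL A U F p) := chCx_d U F p

lemma isZero_chX_neg : ∀ i : ℤ, i < 0 → IsZero ((chCx A U F).X i)
  | .ofNat p, h => absurd h (by simp)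
  | .negSucc _, _ => ModuleCat.isZero_of_subsingleton (ModuleCat.of A PUnit.{u + 1})

variable {X' : Scheme.{u}} (U' : ι → X'.Opens) (N : X'.Modules) (M : Type u) [AddCommGroup M] [Module A M]

/-- A comparison of the sections with coefficients in `M` with the sections of `N`. -/
structure Coef where
  θ : ∀ (p : ℕ) (i : Fin (p + 1) → ι), Γ(F, cOpen U i) ⊗[A] M ≃+ Γ(N, cOpen U' i)
  θ_res : ∀ (p : ℕ) (k : Fin (p + 2) → ι) (j : Fin (p + 2))
    (x : Γ(F, cOpen U (k ∘ j.succAbove))) (m : M),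
    θ (p + 1) k (QC70.res F (cOpen_comp_le U k j.succAbove) x ⊗ₜ m) =
      QC70.res N (cOpen_comp_le U' k j.succAbove) (θ p _ (x ⊗ₜ m))

variable {U F U' N M} (θ : Coef (A := A) U F U' N M) [Finite ι]

/-- Cochains with coefficients. -/
def Coef.Φ (p : ℕ) : Ch U F p ⊗[A] M ≃+ Cochain U' N.presheaf p :=
  letI := Fintype.ofFinite ι
  letI := Classical.decEq ι
  (TensorProduct.piLeft A M (fun i : Fin (p + 1) → ι => Γ(F, cOpen U i))).toAddEquiv.trans
    (AddEquiv.piCongrRight (θ.θ p))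

lemma Coef.Φ_tmul (p : ℕ) (c : Ch U F p) (m : M) (i : Fin (p + 1) → ι) :
    θ.Φ p (c ⊗ₜ m) i = θ.θ p i (c i ⊗ₜ m) := by
  simp [Coef.Φ]

lemma Coef.Φ_d (p : ℕ) (x : Ch U F p ⊗[A] M) :
    θ.Φ (p + 1) ((cdL A U F p).rTensor M x) = cd U' N.presheaf p (θ.Φ p x) := by
  induction x using TensorProduct.induction_on with
  | zero => simp only [map_zero]
  | add x y hx hy => simp only [map_add, hx, hy]
  | tmul c m =>
    funext k
    rw [LinearMap.rTensor_tmul, θ.Φ_tmul, cdL_apply, cd_apply, TensorProduct.sum_tmul, map_sum]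
    refine Finset.sum_congr rfl fun j _ => ?_
    rw [θ.Φ_tmul, ← TensorProduct.smul_tmul', map_zsmul, θ.θ_res]

open CohIII (T tensorObj)

/-- A cycle with coefficients as a cocycle. -/
def Coef.cyc (p : ℕ) :
    LinearMap.ker ((tensorObj (chCx A U F) (ModuleCat.of A M)).d (p : ℤ) ((p : ℤ) + 1)).hom →+
      MZ U' N p :=
  AddMonoidHom.mk' (fun z => ⟨θ.Φ p z.1, by
    have hz : (cdL A U F p).rTensor M z.1 = 0 := by
      have h : ((chCx A U F).d (p : ℤ) ((p : ℤ) + 1)).hom.rTensor M z.1 = 0 := z.2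
      rwa [chCx_d_ofNat] at h
    exact (θ.Φ_d p z.1).symm.trans ((congrArg (θ.Φ (p + 1)) hz).trans (map_zero _))⟩)
    fun z z' => Subtype.ext (map_add (θ.Φ p) z.1 z'.1)

lemma Coef.cyc_bijective (p : ℕ) : Function.Bijective (θ.cyc p) := by
  refine ⟨fun z z' h => Subtype.ext ((θ.Φ p).injective (congrArg Subtype.val h)), fun w => ?_⟩
  refine ⟨⟨(θ.Φ p).symm w.1, ?_⟩, Subtype.ext ((θ.Φ p).apply_symm_apply _)⟩
  show ((chCx A U F).d (p : ℤ) ((p : ℤ) + 1)).hom.rTensor M _ = 0
  rw [chCx_d_ofNat]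
  apply (θ.Φ (p + 1)).injective
  refine (θ.Φ_d p _).trans (Eq.trans ?_ (map_zero (θ.Φ (p + 1))).symm)
  rw [AddEquiv.apply_symm_apply]
  exact w.2

variable (hU' : ⨆ i, U' i = ⊤) (hac : AcyclicOn U' (Coh.toAb N))

include hac in
lemma Coef.toHH_cyc_eq_zero_iff (p : ℕ)
    (z : LinearMap.ker ((tensorObj (chCx A U F) (ModuleCat.of A M)).d (p : ℤ) ((p : ℤ) + 1)).hom) :
    toHH U' hU' N p (θ.cyc p z) = 0 ↔
      FCx40.hcls (tensorObj (chCx A U F) (ModuleCat.of A M)) (p : ℤ) ((p : ℤ) + 1)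
        (CochainComplex.next ℤ (p : ℤ)) z = 0 := by
  rcases p with _ | q
  · rw [FCx40.hcls_eq_zero_iff (i := -1) (CochainComplex.prev ℤ ((0 : ℕ) : ℤ)),
      ← map_zero (toHH U' hU' N 0), (toHH_zero_bijective U' hU' N).1.eq_iff,
      ← map_zero (θ.cyc 0), (θ.cyc_bijective 0).1.eq_iff]
    have h0 : Subsingleton ((chCx A U F).X (-1 : ℤ) ⊗[A] M) := by
      haveI := ModuleCat.subsingleton_of_isZero (isZero_chX_neg (A := A) U F (-1) (by omega))
      infer_instance
    refine ⟨fun h => ⟨0, ?_⟩, fun ⟨w, hw⟩ => Subtype.ext ?_⟩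
    · rw [map_zero, h]
      rfl
    · rw [← hw, show w = 0 from @Subsingleton.elim _ h0 _ _, map_zero]
      rfl
  · rw [FCx40.hcls_eq_zero_iff (i := (q : ℤ)) (by simp [CochainComplex.prev]),
      toHH_eq_zero_iff hU' hac q]
    have hd : ∀ w, ((tensorObj (chCx A U F) (ModuleCat.of A M)).d (q : ℤ) ((q : ℤ) + 1)).hom w =
        (cdL A U F q).rTensor M w := fun w => by
      show ((chCx A U F).d (q : ℤ) ((q : ℤ) + 1)).hom.rTensor M w = _
      rw [chCx_d_ofNat]
      rfl
    constructor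
    · rintro ⟨r, hr⟩
      refine ⟨(θ.Φ q).symm r, (hd _).trans ((θ.Φ (q + 1)).injective ?_)⟩
      refine (θ.Φ_d q _).trans ?_
      rw [AddEquiv.apply_symm_apply]
      exact hr
    · rintro ⟨w, hw⟩
      exact ⟨θ.Φ q w, (θ.Φ_d q w).symm.trans (congrArg (θ.Φ (q + 1)) ((hd w).symm.trans hw))⟩

/-- Classes of cocycles with coefficients. -/
def Coef.cls (p : ℕ) :
    LinearMap.ker ((tensorObj (chCx A U F) (ModuleCat.of A M)).d (p : ℤ) ((p : ℤ) + 1)).hom →+
      Coh.HH X' N p :=
  (toHH U' hU' N p).comp (θ.cyc p)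

include hac in
/-- Cohomology with coefficients is computed by the Čech complex. -/
theorem Coef.exists_equiv (p : ℕ) :
    ∃ e : T (chCx A U F) (p : ℤ) (ModuleCat.of A M) ≃+ Coh.HH X' N p,
      ∀ z, e (FCx40.hcls (tensorObj (chCx A U F) (ModuleCat.of A M)) (p : ℤ) ((p : ℤ) + 1)
        (CochainComplex.next ℤ (p : ℤ)) z) = θ.cls hU' p z := by
  set h := (FCx40.hcls (tensorObj (chCx A U F) (ModuleCat.of A M)) (p : ℤ) ((p : ℤ) + 1)
    (CochainComplex.next ℤ (p : ℤ))).toAddMonoidHom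
  have hs : Function.Surjective h := FCx40.hcls_surjective _
  have hs' : Function.Surjective (θ.cls hU' p) :=
    (toHH_surjective hU' hac p).comp (θ.cyc_bijective p).2
  have hk : h.ker = (θ.cls hU' p).ker :=
    AddSubgroup.ext fun z => (θ.toHH_cyc_eq_zero_iff hU' hac p z).symm
  refine ⟨((QuotientAddGroup.quotientKerEquivOfSurjective h hs).symm.trans
    (QuotientAddGroup.quotientAddEquivOfEq hk)).trans
    (QuotientAddGroup.quotientKerEquivOfSurjective _ hs'), fun z => ?_⟩
  simp only [AddEquiv.trans_apply]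
  refine (congrArg (fun t => QuotientAddGroup.quotientKerEquivOfSurjective (θ.cls hU' p) hs'
    (QuotientAddGroup.quotientAddEquivOfEq hk t))
      ((AddEquiv.symm_apply_eq _).2 (show h z =
        QuotientAddGroup.quotientKerEquivOfSurjective h hs (QuotientAddGroup.mk z) from rfl))).trans ?_
  rfl

include θ hU' hac in
/-- Vanishing of cohomology gives exactness with coefficients. -/
theorem Coef.mem_range_of_subsingleton (q : ℕ) (hv : Subsingleton (Coh.HH X' N (q + 1)))
    (x : Ch U F (q + 1) ⊗[A] M) (hx : (cdL A U F (q + 1)).rTensor M x = 0) :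
    x ∈ LinearMap.range ((cdL A U F q).rTensor M) := by
  have hc : cd U' N.presheaf (q + 1) (θ.Φ (q + 1) x) = 0 := by
    rw [← θ.Φ_d, hx, map_zero]
  obtain ⟨r, hr⟩ := (toHH_eq_zero_iff hU' hac q ⟨_, hc⟩).1 (Subsingleton.elim _ _)
  refine ⟨(θ.Φ q).symm r, (θ.Φ (q + 1)).injective ?_⟩
  rw [θ.Φ_d, AddEquiv.apply_symm_apply]
  exact hr

end Groth.Agent.Mum71
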