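import Groth.Agent.CechComp71.Scheme
import Groth.Agent.TopCoh49.PullMap
import Groth.Agent.LimTop61.PullSec
import Groth.Prelude.Def_CohPull

/-! Pullback of cohomology classes on Čech cocycles. -/

set_option autoImplicit false
set_option maxSynthPendingDepth 6
set_option linter.style.haveILetI false
set_option backward.isDefEq.respectTransparency.types false

universe u

noncomputable section

open CategoryTheory CategoryTheory.Limits AlgebraicGeometry TopologicalSpace Opposite CategoryTheory.Abelian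

namespace Groth.Agent.Mum71

open TopCoh49 Coh69 CechComp71

section Top

variable {X : TopCat.{u}} {ι : Type u} {U : ι → Opens X} (hU : ⨆ i, U i = ⊤)

/-- The comparison with any short exact sequence. -/
theorem cechTo_delta {S : ShortComplex (CohTop.Ab X)} (hS : S.ShortExact) (p : ℕ)
    (s : CechComp71.Z U S.X₁ (p + 1)) (t : Cochain U S.X₂.obj p)
    (ht : cd U _ p t = cmap U S.f.hom (p + 1) s.1) (w : CechComp71.Z U S.X₃ p) (hw : w.1 = cmap U S.g.hom p t) :
    cechTo U hU S.X₁ (p + 1) s = δ hS rfl ⊤ (cechTo U hU S.X₃ p w) := by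
  haveI := hS.mono_f
  haveI := hS.epi_g
  let τ : S.X₂ ⟶ Injective.under S.X₁ := Injective.factorThru (Injective.ι S.X₁) S.f
  have hτ : S.f ≫ τ = Injective.ι S.X₁ := Injective.comp_factorThru _ _
  have h0 : S.f ≫ τ ≫ (injSES S.X₁).g = 0 := by
    rw [← Category.assoc, hτ]
    exact (injSES S.X₁).zero
  let φ : S ⟶ injSES S.X₁ :=
    ShortComplex.homMk (𝟙 _) τ (hS.exact.desc (τ ≫ (injSES S.X₁).g) h0)
      (by rw [Category.id_comp]; exact hτ.symm) (hS.exact.g_desc _ _).symm
  have ht' : cd U _ p (cmap U τ.hom p t) = cmap U (injSES S.X₁).f.hom (p + 1) s.1 := by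
    refine (cd_cmap U τ.hom p t).trans ?_
    rw [ht]
    funext i
    exact congrArg (fun ψ : S.X₁ ⟶ (injSES S.X₁).X₂ => ψ.hom.app (op (cOpen U i)) (s.1 i)) hτ
  rw [cechTo_succ hU S.X₁ p s _ ht']
  have e : liftZ S.X₁ s _ ht' = zmap φ.τ₃ p w := by
    refine Subtype.ext (funext fun i => ?_)
    show (injSES S.X₁).g.hom.app _ (τ.hom.app _ (t i)) = φ.τ₃.hom.app _ (w.1 i)
    rw [hw]
    exact congrArg (fun ψ : S.X₂ ⟶ (injSES S.X₁).X₃ => ψ.hom.app (op (cOpen U i)) (t i)) φ.comm₂₃
  rw [e, cechTo_natural hU p φ.τ₃]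
  refine ((CechComp71.emap_δ hS (injSES_shortExact S.X₁) φ rfl ⊤ (cechTo U hU S.X₃ p w)).symm).trans ?_
  show Ext.comp (δ hS rfl ⊤ (cechTo U hU S.X₃ p w)) (Ext.mk₀ (𝟙 S.X₁)) (add_zero (p + 1)) = _
  exact Ext.comp_mk₀_id _

variable {Z' : TopCat.{u}} (c : Z' ⟶ X) {W : ι → Opens Z'} (hWU : ∀ k, W k ≤ (Opens.map c).obj (U k))

include hWU in
lemma cOpen_le_map {n : ℕ} (i : Fin n → ι) : cOpen W i ≤ (Opens.map c).obj (cOpen U i) := fun _ hx =>
  (mem_cOpen U i _).2 fun j => hWU _ ((mem_cOpen W i _).1 hx j)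

/-- Pullback of cochains. -/
def pullC (F : CohTop.Ab X) (p : ℕ) :
    Cochain U F.obj p →+ Cochain W ((CohTop.pull c).obj F).obj p :=
  AddMonoidHom.mk' (fun s i => rs _ (cOpen_le_map c hWU i) ((unitPre c F).app (op (cOpen U i)) (s i)))
    fun s t => funext fun i => by
      simp only [Pi.add_apply, map_add]

lemma pullC_apply (F : CohTop.Ab X) (p : ℕ) (s : Cochain U F.obj p) (i : Fin (p + 1) → ι) :
    pullC c hWU F p s i = rs _ (cOpen_le_map c hWU i) ((unitPre c F).app (op (cOpen U i)) (s i)) := rfl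

lemma pullC_res (F : CohTop.Ab X) {V V' : Opens X} (h : V' ≤ V) {T T' : Opens Z'}
    (hT : T ≤ (Opens.map c).obj V) (hT' : T' ≤ (Opens.map c).obj V') (hTT : T' ≤ T) (x : F.obj.obj (op V)) :
    rs _ hT' ((unitPre c F).app (op V') (rs F.obj h x)) =
      rs _ hTT (rs _ hT ((unitPre c F).app (op V) x)) := by
  refine (congrArg (rs _ hT') (ConcreteCategory.congr_hom ((unitPre c F).naturality (homOfLE h).op) x)).trans ?_
  exact (rs_rs _ ((Opens.map c).monotone h) hT' _).trans (rs_rs _ hT hTT _).symm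

lemma cd_pullC (F : CohTop.Ab X) (p : ℕ) (s : Cochain U F.obj p) :
    cd W _ p (pullC c hWU F p s) = pullC c hWU F (p + 1) (cd U F.obj p s) := by
  funext i
  simp only [cd_apply, pullC_apply, map_sum, map_zsmul]
  exact Finset.sum_congr rfl fun j _ => congrArg _
    (pullC_res c F (cOpen_comp_le U i j.succAbove) _ _ (cOpen_comp_le W i j.succAbove) _).symm

lemma pullC_cmap {F G : CohTop.Ab X} (φ : F ⟶ G) (p : ℕ) (s : Cochain U F.obj p) :
    pullC c hWU G p (cmap U φ.hom p s) = cmap W ((CohTop.pull c).map φ).hom p (pullC c hWU F p s) := by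
  funext i
  rw [pullC_apply, cmap_apply, cmap_apply, pullC_apply]
  exact (congrArg (rs ((CohTop.pull c).obj G).obj (cOpen_le_map c hWU i))
    (unitPre_app_map c φ (cOpen U i) (s i)).symm).trans
    (hom_res ((CohTop.pull c).map φ).hom (cOpen_le_map c hWU i) _).symm

/-- Pullback of cocycles. -/
def pullCZ (F : CohTop.Ab X) (p : ℕ) : CechComp71.Z U F p →+ CechComp71.Z W ((CohTop.pull c).obj F) p :=
  ((pullC c hWU F p).comp (cd U F.obj p).ker.subtype).codRestrict _ fun z => by
    rw [AddMonoidHom.mem_ker]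
    refine (cd_pullC c hWU F p z.1).trans ?_
    rw [z.2, map_zero]

lemma pullCZ_val (F : CohTop.Ab X) (p : ℕ) (z : CechComp71.Z U F p) :
    (pullCZ c hWU F p z).1 = pullC c hWU F p z.1 := rfl

/-- The comparison commutes with pullback. -/
theorem cechTo_pull (hW : ⨆ i, W i = ⊤) : ∀ (p : ℕ) (F : CohTop.Ab X) (z : CechComp71.Z U F p),
    cechTo W hW ((CohTop.pull c).obj F) p (pullCZ c hWU F p z) =
      pullE c F p (U := ⊤) (W := ⊤) le_top (cechTo U hU F p z) := by
  intro p
  induction p with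
  | zero =>
    intro F z
    obtain ⟨g, rfl⟩ := (ofGlobal_bijective hU F).2 z
    have e : pullCZ c hWU F 0 (ofGlobal U F g) =
        ofGlobal W ((CohTop.pull c).obj F) (rs _ le_top ((unitPre c F).app (op ⊤) g)) :=
      Subtype.ext (funext fun i => pullC_res c F le_top le_top (cOpen_le_map c hWU i) le_top g)
    apply (E₀ _ (⊤ : Opens Z')).injective
    rw [cechTo_zero, cechTo_zero, e, zeroEquiv_ofGlobal, E₀_pullE, zeroEquiv_ofGlobal,
      AddEquiv.apply_symm_apply, AddEquiv.apply_symm_apply]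
    rfl
  | succ p ih =>
    intro F z
    obtain ⟨t, ht⟩ := exists_lift F p z
    rw [cechTo_succ hU F p z t ht, pullE_δ c (injSES_shortExact F) rfl le_top, ← ih]
    exact cechTo_delta hW (pull_shortExact c (injSES_shortExact F)) p (pullCZ c hWU F (p + 1) z)
      (pullC c hWU _ p t)
      (((cd_pullC c hWU _ p t).trans (congrArg (pullC c hWU _ (p + 1)) ht)).trans
        (pullC_cmap c hWU (injSES F).f (p + 1) z.1))
      (pullCZ c hWU _ p (liftZ F z t ht)) (pullC_cmap c hWU (injSES F).g p t)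

/-- Pullback on cohomology through the free sheaf on the whole space. -/
theorem HEquivTop_pullAb (F : CohTop.Ab X) (p : ℕ) (x : CohTop.H F p) :
    HEquivTop ((CohPull.inv c).obj F) p (CohPull.pullAb c F p x) =
      pullE c F p (U := ⊤) (W := ⊤) le_top (HEquivTop F p x) := by
  haveI : PreservesFiniteLimits (CohTop.pull c) := CohPull.preservesFiniteLimits_pull c
  have key : (constIso Z').inv ≫ CohPull.oneTo c =
      pullGen c (U := ⊤) (W := ⊤) le_top ≫ (CohTop.pull c).map (constIso X).inv := by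
    apply (freeHomEquiv ⊤ _).injective
    have hi : freeHomEquiv (⊤ : Opens X) _ (constIso X).inv = constHomEquiv _ (𝟙 (constZ X)) :=
      Equiv.apply_symm_apply _ _
    have hi' : freeHomEquiv (⊤ : Opens Z') _ (constIso Z').inv = constHomEquiv _ (𝟙 (constZ Z')) :=
      Equiv.apply_symm_apply _ _
    refine Eq.trans ?_ (freeHomEquiv_pullGen_comp c le_top (constIso X).inv).symm
    refine Eq.trans ?_ (congrArg (fun t => rs ((CohTop.pull c).obj (constZ X)).obj
      (le_top : (⊤ : Opens Z') ≤ (Opens.map c).obj ⊤) ((unitPre c (constZ X)).app (op ⊤) t))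
      ((freeHomEquiv_eq_gen (⊤ : Opens X) (constIso X).inv).symm.trans hi)).symm
    refine (freeHomEquiv_comp (⊤ : Opens Z') (constIso Z').inv (CohPull.oneTo c)).trans ?_
    refine (congrArg (fun t => (CohPull.oneTo c).hom.app (op (⊤ : Opens Z')) t) hi').trans ?_
    refine (constHomEquiv_comp (𝟙 (constZ Z')) (CohPull.oneTo c)).symm.trans ?_
    rw [Category.id_comp]
    refine (congrArg (AddCommGrpCat.uliftZMultiplesAddEquiv _) (Equiv.apply_symm_apply
      ((CohPull.adjZ Z').homEquiv _ _) _)).trans ?_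
    exact (rs_self _ _ _).symm
  show (Ext.mk₀ (constIso Z').inv).comp ((Ext.mk₀ (CohPull.oneTo c)).comp
    (x.mapExactFunctor (CohTop.pull c)) (zero_add p)) (zero_add p) =
    (Ext.mk₀ (pullGen c le_top)).comp (((Ext.mk₀ (constIso X).inv).comp x (zero_add p)).mapExactFunctor
      (CohTop.pull c)) (zero_add p)
  rw [Ext.mapExactFunctor_comp, Ext.mapExactFunctor_mk₀, Ext.mk₀_comp_mk₀_assoc, Ext.mk₀_comp_mk₀_assoc, key]
  rfl

end Top

section Sch

variable {X X' : Scheme.{u}} (g : X' ⟶ X) {ι : Type u} {U : ι → X.Opens} {W : ι → X'.Opens}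

lemma theta_unitPre (M : X.Modules) (V : X.Opens) (x : Γ(M, V)) :
    (CohPull.theta g M).hom.app (op (g ⁻¹ᵁ V)) ((unitPre g.base (Coh.toAb M)).app (op V) x) =
      ((Scheme.Modules.pullbackPushforwardAdjunction g).unit.app M).app V x := by
  have h : (CohPull.invPushAdj g.base).unit.app (Coh.toAb M) ≫ (CohTop.push g.base).map (CohPull.theta g M) =
      (SheafOfModules.toSheaf X.ringCatSheaf).map
        ((Scheme.Modules.pullbackPushforwardAdjunction g).unit.app M) :=
    ((CohPull.invPushAdj g.base).homEquiv_unit _ _ _).symm.trans (Equiv.apply_symm_apply _ _)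
  exact congrArg (fun ψ : Coh.toAb M ⟶ (CohTop.push g.base).obj
    (Coh.toAb ((Scheme.Modules.pullback g).obj M)) => ψ.hom.app (op V) x) h

lemma theta_pullC (hWU : ∀ k, W k ≤ g ⁻¹ᵁ U k) (M : X.Modules) (p : ℕ)
    (s : Cochain U (Coh.toAb M).obj p) (i : Fin (p + 1) → ι) :
    cmap W (CohPull.theta g M).hom p (pullC g.base hWU (Coh.toAb M) p s) i =
      QCPull72.unitSec g M (cOpen_le_map g.base hWU i) (s i) := by
  refine (hom_res (CohPull.theta g M).hom (cOpen_le_map g.base hWU i) _).trans ?_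
  exact congrArg (QC70.res ((Scheme.Modules.pullback g).obj M) (cOpen_le_map g.base hWU i))
    (theta_unitPre g M (cOpen U i) (s i))

/-- Pullback of cohomology classes is pullback of cocycles. -/
theorem pullMod_toHH (hU : ⨆ i, U i = ⊤) (hW : ⨆ i, W i = ⊤) (hWU : ∀ k, W k ≤ g ⁻¹ᵁ U k)
    (M : X.Modules) (p : ℕ) (z : MZ U M p) (z' : MZ W ((Scheme.Modules.pullback g).obj M) p)
    (hz : ∀ i, z'.1 i = QCPull72.unitSec g M (cOpen_le_map g.base hWU i) (z.1 i)) :
    CohPull.pullMod g M p (toHH U hU M p z) = toHH W hW ((Scheme.Modules.pullback g).obj M) p z' := by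
  have e : z' = zmap (CohPull.theta g M) p (pullCZ g.base hWU (Coh.toAb M) p z) :=
    Subtype.ext (funext fun i => (hz i).trans (theta_pullC g hWU M p z.1 i).symm)
  apply (HEquivTop (X := X'.toTopCat) (Coh.toAb ((Scheme.Modules.pullback g).obj M)) p).injective
  show HEquivTop (X := X'.toTopCat) _ p (Sheaf.H.map (CohPull.theta g M) p
    (CohPull.pullAb g.base (Coh.toAb M) p (toHH U hU M p z))) = _
  rw [HEquivTop_map, HEquivTop_pullAb]
  simp only [toHH, AddMonoidHom.comp_apply, AddEquiv.coe_toAddMonoidHom, AddEquiv.apply_symm_apply]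
  rw [e, ← cechTo_pull hU g.base hWU hW]
  exact (cechTo_natural hW p (CohPull.theta g M) _).symm

end Sch

end Groth.Agent.Mum71
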