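import Groth.Agent.Mum71.Model
import Groth.Agent.Mum71.Trunc
import Groth.Prelude.Def_ega3

/-! Cohomology of the fibres from the complex. -/

set_option autoImplicit false
set_option maxSynthPendingDepth 6
set_option synthInstance.maxHeartbeats 200000
set_option linter.style.haveILetI false
set_option backward.isDefEq.respectTransparency.types false

universe u

noncomputable section

open CategoryTheory CategoryTheory.Limits AlgebraicGeometry TopologicalSpace Opposite TensorProduct
open CohIII (T tensorObj)

namespace Groth.Agent.Mum71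

open Coh69 CechComp71 FF71

variable {A : Type u} [CommRing A] {X : Scheme.{u}} [X.Over (Spec (CommRingCat.of A))]
  {ι : Type u} [Finite ι] {U : ι → X.Opens} {F : X.Modules} [F.IsQuasicoherent]
  {L : CochainComplex (ModuleCat.{u} A) ℤ} {φ : L ⟶ chCx A U F}
  (hφ : ∀ M : ModuleCat.{u} A, QuasiIso
    (((MonoidalCategory.tensorRight M).mapHomologicalComplex (ComplexShape.up ℤ)).map φ))
  (hU : ⨆ i, U i = ⊤) (hU' : ∀ (n : ℕ) (i : Fin (n + 1) → ι), IsAffineOpen (cOpen U i))

include hφ in
omit [Finite ι] [F.IsQuasicoherent] in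
theorem nonempty_T_iso (M : ModuleCat.{u} A) (p : ℤ) : Nonempty (T L p M ≅ T (chCx A U F) p M) := by
  let f : T L p M ⟶ T (chCx A U F) p M := HomologicalComplex.homologyMap
    (((MonoidalCategory.tensorRight M).mapHomologicalComplex (ComplexShape.up ℤ)).map φ) p
  haveI : IsIso f := (quasiIsoAt_iff_isIso_homologyMap _ p).1 ((hφ M).quasiIsoAt p)
  exact ⟨asIso f⟩

include hφ hU hU' in
theorem nonempty_hh (p : ℕ) : Nonempty (Coh.HH X F p ≃+ T L (p : ℤ) (ModuleCat.of A A)) := by
  obtain ⟨e, -⟩ := (idCoef (A := A) U F).exists_equiv hU (acyclicOn_of_isAffineOpen _ F hU') p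
  obtain ⟨i⟩ := nonempty_T_iso hφ (ModuleCat.of A A) (p : ℤ)
  exact ⟨e.symm.trans i.symm.toLinearEquiv.toAddEquiv⟩

include hφ hU hU' in
/-- Base change along any morphism of affine schemes equal to the one of an algebra. -/
theorem nonempty_hh_pullback {B : CommRingCat.{u}} [Algebra A B] (g : Spec B ⟶ Spec (CommRingCat.of A))
    (hg : g = Spec.map (CommRingCat.ofHom (algebraMap A B))) (p : ℕ) :
    Nonempty (Coh.HH (pullback (X ↘ Spec (CommRingCat.of A)) g)
      ((Scheme.Modules.pullback (pullback.fst (X ↘ Spec (CommRingCat.of A)) g)).obj F) p ≃+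
        T L (p : ℤ) (ModuleCat.of A B)) := by
  subst hg
  exact nonempty_hh_bc hU hU' hφ B p

/-- The residue field of a closed point of an affine scheme is the quotient by its ideal. -/
theorem exists_algebra_residueField (m : Ideal A) [hm : m.IsMaximal] :
    ∃ (y : Spec (CommRingCat.of A)) (_ : Algebra A ((Spec (CommRingCat.of A)).residueField y)),
      (Spec (CommRingCat.of A)).fromSpecResidueField y =
        Spec.map (CommRingCat.ofHom (algebraMap A ((Spec (CommRingCat.of A)).residueField y))) ∧
      Nonempty ((A ⧸ m) ≃ₗ[A] ((Spec (CommRingCat.of A)).residueField y)) := by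
  let y : Spec (CommRingCat.of A) := ⟨m, hm.isPrime⟩
  let i := (AlgebraicGeometry.Scheme.Spec.residueFieldIso (CommRingCat.of A) y).commRingCatIsoToRingEquiv.symm
  let ψ : A →+* (Spec (CommRingCat.of A)).residueField y :=
    i.toRingHom.comp (algebraMap A m.ResidueField)
  letI : Algebra A ((Spec (CommRingCat.of A)).residueField y) := ψ.toAlgebra
  refine ⟨y, inferInstance, ?_, ⟨?_⟩⟩
  · refine (AlgebraicGeometry.Scheme.Spec.map_residueFieldIso_inv_eq_fromSpecResidueField (CommRingCat.of A) y).symm.trans ?_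
    rw [← Spec.map_comp]
    rfl
  · let j : m.ResidueField ≃ₐ[A] (Spec (CommRingCat.of A)).residueField y :=
      AlgEquiv.ofRingEquiv (f := i) fun _ => rfl
    exact (LinearEquiv.ofBijective (Algebra.linearMap (A ⧸ m) m.ResidueField |>.restrictScalars A)
      m.bijective_algebraMap_quotient_residueField).trans j.toLinearEquiv

include hφ hU hU' in
theorem isZero_T_of_fiberH (p : ℕ) (m : Ideal A) [m.IsMaximal]
    (h : ∀ y : Spec (CommRingCat.of A),
      Subsingleton (CohIII.fiberH (X ↘ Spec (CommRingCat.of A)) F y p)) :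
    IsZero (T L (p : ℤ) (ModuleCat.of A (A ⧸ m))) := by
  obtain ⟨y, alg, hy, ⟨e⟩⟩ := exists_algebra_residueField m
  obtain ⟨E⟩ := nonempty_hh_pullback hφ hU hU' ((Spec (CommRingCat.of A)).fromSpecResidueField y) hy p
  haveI : Subsingleton (Coh.HH _ ((Scheme.Modules.pullback (pullback.fst (X ↘ Spec (CommRingCat.of A))
      ((Spec (CommRingCat.of A)).fromSpecResidueField y))).obj F) p) := h y
  haveI : Subsingleton (T L (p : ℤ) (ModuleCat.of A ((Spec (CommRingCat.of A)).residueField y))) :=
    E.symm.toEquiv.subsingleton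
  exact (ModuleCat.isZero_of_subsingleton
    (T L (p : ℤ) (ModuleCat.of A ((Spec (CommRingCat.of A)).residueField y)))).of_iso
    ((CohIII.TFun L (p : ℤ)).mapIso e.toModuleIso)

end Groth.Agent.Mum71
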