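import Groth.Agent.Mum71.Functor
import Groth.Agent.Mum71.Fibre
import Groth.Agent.FCx40.Lin

/-! The complex as a chain complex, to match the results on homological functors of complexes. -/

set_option autoImplicit false
set_option maxSynthPendingDepth 6
set_option synthInstance.maxHeartbeats 200000
set_option linter.style.haveILetI false
set_option backward.isDefEq.respectTransparency.types false

universe u

noncomputable section

open CategoryTheory CategoryTheory.Limits AlgebraicGeometry TopologicalSpace Opposite TensorProduct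
open CohIII (T tensorObj)

namespace Groth.Agent.Mum71

variable {A : Type u} [CommRing A] (L : CochainComplex (ModuleCat.{u} A) ℤ)

/-- A cochain complex read as a chain complex. -/
abbrev toChain : ChainComplex (ModuleCat.{u} A) ℤ :=
  L.restriction ComplexShape.embeddingDownIntUpInt

theorem exists_T_toChain (a : ℤ) :
    ∃ e : ∀ M : ModuleCat.{u} A, T (toChain L) a M ≃ₗ[A] T L (-a) M,
      ∀ (M M' : ModuleCat.{u} A) (g : M ⟶ M') (t : T (toChain L) a M),
        e M' ((CohIII.TFun (toChain L) a).map g t) = (CohIII.TFun L (-a)).map g (e M t) := by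
  have hn : (ComplexShape.down ℤ).next a = a - 1 := ComplexShape.next_eq' _ (by simp)
  have hi : (ComplexShape.down ℤ).prev a = a + 1 := ComplexShape.prev_eq' _ rfl
  have hn' : (ComplexShape.up ℤ).next (-a) = -(a - 1) :=
    ComplexShape.next_eq' _ (show -a + 1 = -(a - 1) by omega)
  have hi' : (ComplexShape.up ℤ).prev (-a) = -(a + 1) :=
    ComplexShape.prev_eq' _ (show -(a + 1) + 1 = -a by omega)
  let lk : ∀ M : ModuleCat.{u} A, LinearMap.ker ((tensorObj (toChain L) M).d a (a - 1)).hom →ₗ[A]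
      T L (-a) M := fun M => FCx40.hcls (tensorObj L M) (-a) (-(a - 1)) hn'
  have hs : ∀ M, Function.Surjective (lk M) := fun M => FCx40.hcls_surjective _
  have hk : ∀ M, LinearMap.ker (FCx40.hcls (tensorObj (toChain L) M) a (a - 1) hn) =
      LinearMap.ker (lk M) := fun M => by
    ext z
    rw [LinearMap.mem_ker, LinearMap.mem_ker, FCx40.hcls_eq_zero_iff hi hn]
    exact (FCx40.hcls_eq_zero_iff (K := tensorObj L M) hi' hn' z).symm
  refine ⟨fun M => FCx40.sameKerEquiv _ (lk M) (FCx40.hcls_surjective hn) (hs M) (hk M), fun M M' g t => ?_⟩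
  obtain ⟨z, rfl⟩ := FCx40.hcls_surjective (K := tensorObj (toChain L) M) hn t
  show _ = (HomologicalComplex.homologyMap (CohIII.tensorMap L g) (-a)).hom _
  rw [FCx40.sameKerEquiv_apply]
  show FCx40.sameKerEquiv _ (lk M') _ _ (hk M')
    ((HomologicalComplex.homologyMap (CohIII.tensorMap (toChain L) g) a).hom
      (FCx40.hcls (tensorObj (toChain L) M) a (a - 1) hn z)) = _
  rw [FCx40.hcls_map, FCx40.sameKerEquiv_apply]
  exact (FCx40.hcls_map (CohIII.tensorMap L g) hn' z).symm

theorem nonempty_TFun_toChain (p : ℤ) :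
    Nonempty (CohIII.TFun (toChain L) (-p) ≅ CohIII.TFun L p) := by
  obtain ⟨e, he⟩ := exists_T_toChain L (-p)
  have h : Nonempty (CohIII.TFun (toChain L) (-p) ≅ CohIII.TFun L (- -p)) :=
    ⟨NatIso.ofComponents (fun M => (e M).toModuleIso) fun {M M'} g => by
      ext t
      exact he M M' g t⟩
  rwa [neg_neg] at h

/-- The chain complex computing `M ↦ H^p(X, F ⊗_A M)` and the cohomology of base changes. -/
theorem exists_chain_model (A : Type u) [CommRing A] [IsNoetherianRing A] {X : Scheme.{u}}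
    [X.Over (Spec (CommRingCat.of A))] [IsProper (X ↘ Spec (CommRingCat.of A))] (F : X.Modules)
    (hF : Coh.IsCoh F) (hfl : FlatMod.IsFlatOver (X ↘ Spec (CommRingCat.of A)) F) :
    ∃ (P : ChainComplex (ModuleCat.{u} A) ℤ) (N : ℤ),
      (∀ i, Module.Finite A (P.X i) ∧ Module.Free A (P.X i)) ∧ (∀ i, i < N → IsZero (P.X i)) ∧
      (∀ (i : ℤ) (M : ModuleCat.{u} A), 0 < i → IsZero (T P i M)) ∧
      ∀ p : ℕ, Nonempty (CohIII.TFun P (-(p : ℤ)) ⋙ forget₂ (ModuleCat.{u} A) AddCommGrpCat.{u} ≅
        CohIII.tensorAFunctor A F ⋙ CohIII.HAb X p) := by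
  haveI := hF.1
  obtain ⟨ι, hι, U, L, φ, N, hU, hU', hL, hN, hφ⟩ := exists_model A F hF hfl
  refine ⟨toChain L, -N, fun i => hL _, fun i hi => hN _ (by simp; omega), fun i M hi => ?_, fun p => ?_⟩
  · obtain ⟨e⟩ := nonempty_TFun_toChain L (-i)
    rw [neg_neg] at e
    exact (isZero_T_of_neg hφ M (-i) (by omega)).of_iso (e.app M)
  · obtain ⟨e⟩ := nonempty_TFun_toChain L (p : ℤ)
    obtain ⟨e'⟩ := nonempty_natIso F hU hU' hφ p
    exact ⟨Functor.isoWhiskerRight e _ ≪≫ e'⟩

end Groth.Agent.Mum71
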