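import Groth.Agent.Mum71.GlobalSec
import Groth.Agent.S2376
import Groth.Agent.S2406

/-! Corepresentability of `M ↦ Γ(X, F ⊗_A M)`. -/

set_option autoImplicit false
set_option synthInstance.maxHeartbeats 200000
set_option linter.style.haveILetI false

universe u

noncomputable section

open CategoryTheory CategoryTheory.Limits AlgebraicGeometry Opposite

namespace Groth.Agent.Mum71

variable {A : Type u} [CommRing A]

theorem exists_corep [IsNoetherianRing A] {X : Scheme.{u}} [X.Over (Spec (CommRingCat.of A))]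
    [IsProper (X ↘ Spec (CommRingCat.of A))]
    (F : X.Modules) (hF : Coh.IsCoh F) (hfl : FlatMod.IsFlatOver (X ↘ Spec (CommRingCat.of A)) F) :
    ∃ Q : ModuleCat.{u} A, Module.Finite A Q ∧
      Nonempty (CohIII.tensorAFunctor A F ⋙ CohIII.globalSectionsA A ≅
        (linearCoyoneda A (ModuleCat.{u} A)).obj (op Q)) := by
  obtain ⟨P, hP, hz, ⟨e⟩⟩ := nonempty_globalSections_natIso F hF hfl
  have h1 : (CohIII.TFun P 1).PreservesEpimorphisms :=
    ⟨fun f _ => (hz _).epi _⟩
  have h0 : (CohIII.TFun P 0).PreservesMonomorphisms :=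
    (S2406.result P (fun i => (hP i).2) 1 0 rfl).1 h1
  obtain ⟨h, hfin⟩ := S2376.result P hP 0
  obtain ⟨Q, hQ⟩ := h.1 h0
  exact ⟨Q, hfin Q hQ, ⟨e.symm ≪≫ hQ.some⟩⟩

/-- The kernel of a map of corepresentable functors is corepresentable. -/
theorem exists_kernel_corep {Q Q' : ModuleCat.{u} A} [Module.Finite A Q]
    (η : (linearCoyoneda A (ModuleCat.{u} A)).obj (op Q) ⟶ (linearCoyoneda A (ModuleCat.{u} A)).obj (op Q')) :
    ∃ (R : ModuleCat.{u} A) (ι : (linearCoyoneda A (ModuleCat.{u} A)).obj (op R) ⟶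
        (linearCoyoneda A (ModuleCat.{u} A)).obj (op Q)),
      Module.Finite A R ∧ (∀ M : ModuleCat.{u} A, Function.Injective (ι.app M).hom) ∧
        ∀ (M : ModuleCat.{u} A) (x : Q ⟶ M),
          (η.app M).hom x = 0 ↔ ∃ y, (ι.app M).hom y = x := by
  let h : Q' ⟶ Q := (η.app Q).hom (𝟙 Q)
  have hη : ∀ (M : ModuleCat.{u} A) (x : Q ⟶ M), (η.app M).hom x = h ≫ x := fun M x => by
    have := congr(($(η.naturality x)).hom (𝟙 Q))
    refine Eq.trans ?_ this
    exact congrArg (η.app M).hom (Category.id_comp x).symm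
  let π : Q ⟶ ModuleCat.of A (Q ⧸ LinearMap.range h.hom) := ModuleCat.ofHom (LinearMap.range h.hom).mkQ
  haveI : Epi π := (ModuleCat.epi_iff_surjective _).2 (Submodule.mkQ_surjective _)
  refine ⟨ModuleCat.of A (Q ⧸ LinearMap.range h.hom), (linearCoyoneda A (ModuleCat.{u} A)).map π.op,
    inferInstanceAs (Module.Finite A (Q ⧸ LinearMap.range h.hom)), fun M y y' hy => ?_, fun M x => ?_⟩
  · exact (cancel_epi π).1 hy
  · rw [hη]
    constructor
    · intro hx
      refine ⟨ModuleCat.ofHom ((LinearMap.range h.hom).liftQ x.hom (LinearMap.range_le_ker_iff.2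
        (congrArg ModuleCat.Hom.hom hx))), ?_⟩
      exact ModuleCat.hom_ext (Submodule.liftQ_mkQ _ _ _)
    · rintro ⟨y, rfl⟩
      exact ModuleCat.hom_ext (LinearMap.ext fun z =>
        (congrArg y.hom ((Submodule.Quotient.mk_eq_zero _).2 ⟨z, rfl⟩)).trans (map_zero y.hom))

end Groth.Agent.Mum71
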