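import Groth.Agent.Mum71.FunctorLin
import Groth.Agent.Mum71.Chain
import Groth.Agent.Serre71.HHLin

/-! Global sections of `F ⊗_A M`. -/

set_option autoImplicit false
set_option synthInstance.maxHeartbeats 200000
set_option linter.style.haveILetI false

universe u

noncomputable section

open CategoryTheory CategoryTheory.Limits AlgebraicGeometry TopologicalSpace Opposite

namespace Groth.Agent.Mum71

open Serre71

variable {A : Type u} [CommRing A] {X : Scheme.{u}} [X.Over (Spec (CommRingCat.of A))]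

theorem globalSectionsA_smul (M : X.Modules) (a : A) (x : (CohIII.globalSectionsA A).obj M) :
    a • x = (show (CohIII.globalSectionsA A).obj M from globalA A X a • (show Γ(M, ⊤) from x)) := by
  rfl

theorem nonempty_globalSections_natIso [IsNoetherianRing A] [IsProper (X ↘ Spec (CommRingCat.of A))]
    (F : X.Modules) (hF : Coh.IsCoh F) (hfl : FlatMod.IsFlatOver (X ↘ Spec (CommRingCat.of A)) F) :
    ∃ (P : ChainComplex (ModuleCat.{u} A) ℤ),
      (∀ i, Module.Finite A (P.X i) ∧ Module.Flat A (P.X i)) ∧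
      (∀ (M : ModuleCat.{u} A), IsZero (CohIII.T P 1 M)) ∧
      Nonempty (CohIII.TFun P 0 ≅ CohIII.tensorAFunctor A F ⋙ CohIII.globalSectionsA A) := by
  haveI := hF.1
  obtain ⟨ι, hι, U, L, φ, N, hU, hU', hL, hN, hφ⟩ := exists_model A F hF hfl
  refine ⟨toChain L, fun i => ⟨(hL _).1, haveI : Module.Free A ((toChain L).X i) := (hL _).2; inferInstance⟩,
    fun M => ?_, ?_⟩
  · obtain ⟨e⟩ := nonempty_TFun_toChain L (-1)
    exact (isZero_T_of_neg hφ M (-1) (by omega)).of_iso (e.app M)
  · obtain ⟨e₁⟩ := nonempty_TFun_toChain L 0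
    obtain ⟨e, he⟩ := exists_linearEquiv_natural F hU hU' hφ 0
    let e₂ : ∀ M : ModuleCat.{u} A, CohIII.T L ((0 : ℕ) : ℤ) M ≃ₗ[A]
        (CohIII.globalSectionsA A).obj ((CohIII.tensorAFunctor A F).obj M) := fun M =>
      { (e M).toAddEquiv.trans (hzero ((CohIII.tensorAFunctor A F).obj M)) with
        map_smul' := fun a t => by
          refine Eq.trans ?_ (globalSectionsA_smul _ a _).symm
          show hzero _ (e M (a • t)) = globalA A X a • hzero _ (e M t)
          rw [map_smul, hzero_smul] }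
    refine ⟨(e₁ : CohIII.TFun (toChain L) (-(0 : ℤ)) ≅ CohIII.TFun L ((0 : ℕ) : ℤ)) ≪≫
      NatIso.ofComponents (F := CohIII.TFun L ((0 : ℕ) : ℤ)) (fun M => (e₂ M).toModuleIso) (fun {M M'} g => ?_)⟩
    · ext t
      exact (congrArg (hzero _) (he M M' g t)).trans
        (hzero_hmap (A := A) ((CohIII.tensorAFunctor A F).map g) (e M t))

end Groth.Agent.Mum71
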