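import Groth.Agent.Depth22.Compare
import Mathlib.CategoryTheory.Abelian.Exact
import Mathlib.Algebra.Homology.ShortComplex.ExactFunctor

/-!
A left exact functor commutes with homology of a complex whose terms and homology lie in a class of acyclic
objects.
-/

set_option autoImplicit false
set_option linter.style.haveILetI false

open CategoryTheory CategoryTheory.Limits HomologicalComplex

namespace Groth.Agent.Mum71

variable {B : Type*} [Category B] [Abelian B] {C : Type*} [Category C] [Abelian C]
  (Ψ : B ⥤ C) [Ψ.Additive] [PreservesFiniteLimits Ψ]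

/-- A class of objects adapted to a left exact functor. -/
structure AdaptedClass where
  P : B → Prop
  congr : ∀ {M N : B}, (M ≅ N) → P M → P N
  epi : ∀ {S : ShortComplex B}, S.ShortExact → P S.X₁ → Epi (Ψ.map S.g)
  quot : ∀ {S : ShortComplex B}, S.ShortExact → P S.X₁ → P S.X₂ → P S.X₃
  ext : ∀ {S : ShortComplex B}, S.ShortExact → P S.X₁ → P S.X₃ → P S.X₂

variable {Ψ} (K : CochainComplex B ℕ)

/-- The boundaries, as the kernel of the projection to homology. -/
noncomputable abbrev bdry (i : ℕ) : B := kernel (K.homologyπ (i + 1))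

/-- The map onto the boundaries. -/
noncomputable abbrev toBdry (i : ℕ) : K.X i ⟶ bdry K i :=
  kernel.lift _ (K.toCycles i (i + 1)) (K.toCycles_comp_homologyπ i (i + 1))

instance epi_toBdry (i : ℕ) : Epi (toBdry K i) :=
  (ShortComplex.exact_of_g_is_cokernel
    (ShortComplex.mk (K.toCycles i (i + 1)) (K.homologyπ (i + 1)) (K.toCycles_comp_homologyπ i (i + 1)))
    (K.homologyIsCokernel i (i + 1) (by simp))).epi_kernelLift

theorem iCycles_toBdry (i : ℕ) : K.iCycles i ≫ toBdry K i = 0 := by
  rw [← cancel_mono (kernel.ι (K.homologyπ (i + 1))), Category.assoc, kernel.lift_ι, zero_comp,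
    Depth22.toCycles_comp_d]

theorem shortExact_cycles_bdry (i : ℕ) :
    (ShortComplex.mk (K.iCycles i) (toBdry K i) (iCycles_toBdry K i)).ShortExact where
  exact := by
    let S := ShortComplex.mk (K.iCycles i) (K.d i (i + 1)) (K.iCycles_d i (i + 1))
    let φ : ShortComplex.mk (K.iCycles i) (toBdry K i) (iCycles_toBdry K i) ⟶ S :=
      { τ₁ := 𝟙 _
        τ₂ := 𝟙 _
        τ₃ := kernel.ι (K.homologyπ (i + 1)) ≫ K.iCycles (i + 1)
        comm₁₂ := by simp [S]
        comm₂₃ := by simp [S] }
    haveI : Epi φ.τ₁ := inferInstanceAs (Epi (𝟙 _))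
    haveI : IsIso φ.τ₂ := inferInstanceAs (IsIso (𝟙 _))
    haveI : Mono φ.τ₃ := inferInstanceAs (Mono (kernel.ι (K.homologyπ (i + 1)) ≫ K.iCycles (i + 1)))
    exact (ShortComplex.exact_iff_of_epi_of_isIso_of_mono φ).2
      (ShortComplex.exact_of_f_is_kernel S (K.cyclesIsKernel i (i + 1) (by simp)))
  mono_f := inferInstance
  epi_g := inferInstance

theorem shortExact_bdry_homology (i : ℕ) :
    (ShortComplex.mk (kernel.ι (K.homologyπ (i + 1))) (K.homologyπ (i + 1)) (kernel.condition _)).ShortExact where
  exact := ShortComplex.exact_of_f_is_kernel _ (kernelIsKernel _)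
  mono_f := inferInstance
  epi_g := inferInstance

variable (A : AdaptedClass Ψ) {K}

theorem cycles_mem (hX : ∀ i, A.P (K.X i)) (hH : ∀ i, A.P (K.homology i)) :
    ∀ i, A.P (K.cycles i) := by
  intro i
  induction i with
  | zero => exact A.congr K.isoHomologyπ₀.symm (hH 0)
  | succ i ih =>
    exact A.ext (shortExact_bdry_homology K i) (A.quot (shortExact_cycles_bdry K i) ih (hX i)) (hH (i + 1))

/-- The comparison of homology is bijective if the terms and the homology are adapted. -/
theorem isIso_homologyComparison_of_adapted (hX : ∀ i, A.P (K.X i)) (hH : ∀ i, A.P (K.homology i))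
    (n : ℕ) : IsIso (RDer.homologyComparison Ψ K n) := by
  let L : CochainComplex C ℕ := (Ψ.mapHomologicalComplex (ComplexShape.up ℕ)).obj K
  have hc := Depth22.isIso_cyclesComparison Ψ K n
  rcases n with _ | m
  · have h1 : IsIso (L.homologyπ 0) := L.isoHomologyπ₀.isIso_hom
    have h2 : IsIso (K.homologyπ 0) := K.isoHomologyπ₀.isIso_hom
    have h3 : IsIso (L.homologyπ 0 ≫ RDer.homologyComparison Ψ K 0) := by
      rw [RDer.homologyπ_homologyComparison]
      infer_instance
    exact IsIso.of_isIso_comp_left (L.homologyπ 0) _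
  · have hB : A.P (bdry K m) := A.quot (shortExact_cycles_bdry K m) (cycles_mem A hX hH m) (hX m)
    haveI e1 : Epi (Ψ.map (toBdry K m)) := A.epi (shortExact_cycles_bdry K m) (cycles_mem A hX hH m)
    haveI e2 : Epi (Ψ.map (K.homologyπ (m + 1))) := A.epi (shortExact_bdry_homology K m) hB
    let T := ShortComplex.mk (Ψ.map (K.toCycles m (m + 1))) (Ψ.map (K.homologyπ (m + 1)))
      (by rw [← Ψ.map_comp, K.toCycles_comp_homologyπ, Ψ.map_zero])
    have hT : T.Exact := by
      let U := (ShortComplex.mk (kernel.ι (K.homologyπ (m + 1))) (K.homologyπ (m + 1)) (kernel.condition _)).map Ψ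
      have hU : U.Exact :=
        (((Functor.preservesFiniteLimits_iff_forall_exact_map_and_mono Ψ).mp inferInstance) _
          (shortExact_bdry_homology K m)).1
      let φ : T ⟶ U :=
        { τ₁ := Ψ.map (toBdry K m)
          τ₂ := 𝟙 _
          τ₃ := 𝟙 _
          comm₁₂ := (Ψ.map_comp _ _).symm.trans ((congrArg Ψ.map (kernel.lift_ι _ _ _)).trans (Category.comp_id _).symm)
          comm₂₃ := (Category.id_comp _).trans (Category.comp_id _).symm }
      haveI : Epi φ.τ₁ := e1
      haveI : IsIso φ.τ₂ := inferInstanceAs (IsIso (𝟙 _))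
      haveI : Mono φ.τ₃ := inferInstanceAs (Mono (𝟙 _))
      exact (ShortComplex.exact_iff_of_epi_of_isIso_of_mono φ).2 hU
    haveI : Epi T.g := e2
    have hz : T.f ≫ (inv (RDer.cyclesComparison Ψ K (m + 1)) ≫ L.homologyπ (m + 1)) = 0 := by
      have h := RDer.toCycles_cyclesComparison Ψ K (m + 1)
      have hp : (ComplexShape.up ℕ).prev (m + 1) = m := by simp
      rw [hp] at h
      show Ψ.map (K.toCycles m (m + 1)) ≫ _ = _
      refine (congrArg (· ≫ inv (RDer.cyclesComparison Ψ K (m + 1)) ≫ L.homologyπ (m + 1)) h.symm).trans ?_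
      refine ((Category.assoc _ _ _).trans (congrArg (L.toCycles m (m + 1) ≫ ·) (IsIso.hom_inv_id_assoc _ _))).trans ?_
      exact L.toCycles_comp_homologyπ m (m + 1)
    obtain ⟨v, hv⟩ := CokernelCofork.IsColimit.desc' hT.gIsCokernel _ hz
    change Ψ.map (K.homologyπ (m + 1)) ≫ v = _ at hv
    refine ⟨v, ?_, ?_⟩
    · refine (cancel_epi (L.homologyπ (m + 1))).1 ?_
      erw [RDer.homologyπ_homologyComparison_assoc, hv, IsIso.hom_inv_id_assoc]
      exact (Category.comp_id _).symm
    · refine (cancel_epi (Ψ.map (K.homologyπ (m + 1)))).1 ?_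
      rw [reassoc_of% hv, Category.comp_id]
      erw [RDer.homologyπ_homologyComparison]
      exact IsIso.inv_hom_id_assoc _ _

end Groth.Agent.Mum71
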