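import Groth.Agent.Mum71.Chain
import Groth.Agent.FCx40.ArtLen
import Groth.Agent.S4490
import Groth.Agent.S2406

/-! Cohomological flatness and lengths. -/

set_option autoImplicit false
set_option synthInstance.maxHeartbeats 200000
set_option linter.style.haveILetI false

universe u

noncomputable section

open CategoryTheory TensorProduct LinearMap
open Function (Surjective Injective Exact Bijective)

namespace Groth.Agent.Mum71

open FCx40

variable {A : Type u} [CommRing A] {P : ChainComplex (ModuleCat.{u} A) ℤ}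

theorem isFiniteLength_tensor [IsNoetherianRing A] (Q : Type u) [AddCommGroup Q] [Module A Q]
    [Module.Finite A Q] (k : Type u) [AddCommGroup k] [Module A k] (hk : Module.length A k ≠ ⊤) :
    Module.length A (Q ⊗[A] k) ≠ ⊤ := by
  rw [Module.length_ne_top_iff, isFiniteLength_iff_isNoetherian_isArtinian] at hk ⊢
  obtain ⟨n, f, hf⟩ := Module.Finite.exists_fin' A Q
  haveI := hk.1
  haveI := hk.2
  let e : (Fin n → k) ≃ₗ[A] (Fin n → A) ⊗[A] k :=
    ((TensorProduct.piLeft A k (fun _ : Fin n => A)).trans
      (LinearEquiv.piCongrRight fun _ => TensorProduct.lid A k)).symm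
  have hs : Surjective ((f.rTensor k).comp e.toLinearMap) :=
    (LinearMap.rTensor_surjective k hf).comp e.surjective
  exact ⟨isNoetherian_of_surjective _ (LinearMap.range_eq_top.2 hs), isArtinian_of_surjective (R := A) (M := Fin n → k) _ hs⟩

theorem length_T_ne_top [IsNoetherianRing A] (hP : ∀ i, Module.Finite A (P.X i)) (p : ℤ)
    (k : ModuleCat.{u} A) (hk : Module.length A k ≠ ⊤) :
    Module.length A (CohIII.T P p k) ≠ ⊤ := by
  haveI := hP p
  exact ne_top_of_le_ne_top (isFiniteLength_tensor (P.X p) k hk)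
    ((Module.length_le_of_surjective _ (tcls_surjective (P := P) (sub_add_cancel p 1) k)).trans
      (Module.length_le_of_injective (Submodule.subtype _) (Submodule.injective_subtype _)))

theorem surjective_succ_of_injective (hP : ∀ i, Module.Flat A (P.X i)) (p : ℤ)
    {S : ShortComplex (ModuleCat.{u} A)} (hS : S.ShortExact) (h : Injective (tmap P p S.f)) :
    Surjective (tmap P (p + 1) S.g) := by
  have hq : p - 1 + 1 = p := sub_add_cancel p 1
  have hex : Exact S.f.hom S.g.hom :=
    (ShortComplex.ShortExact.moduleCat_exact_iff_function_exact S).mp hS.exact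
  rw [map_surjective_iff rfl _ hS.moduleCat_surjective_g]
  intro x'' hx''
  obtain ⟨x, rfl⟩ := lTensor_surjective (P.X (p + 1)) hS.moduleCat_surjective_g x''
  rw [comm_rTensor_lTensor] at hx''
  obtain ⟨y, hy⟩ := (lTensor_exact (P.X p) hex hS.moduleCat_surjective_g _).mp hx''
  haveI := hP (p - 1)
  have hy0 : (P.d p (p - 1)).hom.rTensor S.X₁ y = 0 := by
    apply Module.Flat.lTensor_preserves_injective_linearMap S.f.hom hS.moduleCat_injective_f
    rw [← comm_rTensor_lTensor, hy, map_zero, ← LinearMap.comp_apply, ← rTensor_comp,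
      ← ModuleCat.hom_comp, P.d_comp_d, ModuleCat.hom_zero, rTensor_zero, LinearMap.zero_apply]
  have hc : tcls P p (p - 1) hq S.X₁ ⟨y, hy0⟩ = 0 := by
    apply h
    rw [map_tcls, map_zero, tcls_eq_zero_iff hq rfl]
    exact ⟨x, hy.symm⟩
  obtain ⟨w, hw⟩ := (tcls_eq_zero_iff hq rfl _ _).mp hc
  refine ⟨x - S.f.hom.lTensor (P.X (p + 1)) w, ?_, ?_⟩
  · rw [map_sub, comm_rTensor_lTensor, hw, hy, sub_self]
  · rw [map_sub, ← LinearMap.comp_apply (S.g.hom.lTensor _), ← lTensor_comp,
      hex.linearMap_comp_eq_zero, lTensor_zero, LinearMap.zero_apply, sub_zero]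

variable [IsNoetherianRing A] [IsLocalRing A]

theorem length_residue_pow_ne_top (n : ℕ) :
    Module.length A (A ⧸ IsLocalRing.maximalIdeal A ^ (n + 1)) ≠ ⊤ := by
  rw [Module.length_ne_top_iff, isFiniteLength_iff_isNoetherian_isArtinian]
  haveI : IsArtinianRing (A ⧸ IsLocalRing.maximalIdeal A ^ (n + 1)) :=
    IsLocalRing.quotient_artinian_of_mem_minimalPrimes_of_isLocalRing _ (by
      rw [Ideal.minimalPrimes, Set.mem_ofPred_eq]
      refine ⟨⟨inferInstance, Ideal.pow_le_self (Nat.succ_ne_zero n)⟩, fun q hq _ => ?_⟩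
      intro x hx
      exact hq.1.mem_of_pow_mem (n + 1) (hq.2 (Ideal.pow_mem_pow hx _)))
  exact ⟨inferInstance, isArtinian_of_surjective_algebraMap (R := A ⧸ IsLocalRing.maximalIdeal A ^ (n + 1))
    Ideal.Quotient.mk_surjective⟩

omit [IsNoetherianRing A] in
theorem surjective_of_length_eq (hflat : ∀ i, Module.Flat A (P.X i)) (p : ℤ)
    (hd : Module.length A (CohIII.T P p (ModuleCat.of A (IsLocalRing.ResidueField A))) ≠ ⊤)
    {M N : ModuleCat.{u} A} (g : M ⟶ N) (hg : Surjective g.hom) (hM : Module.length A M ≠ ⊤)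
    (hN : Module.length A N ≠ ⊤)
    (h : Module.length A (CohIII.T P p M) =
      Module.length A (CohIII.T P p (ModuleCat.of A (IsLocalRing.ResidueField A))) * Module.length A M) :
    Surjective (tmap P p g) ∧ Surjective (tmap P (p + 1) g) := by
  let S : ShortComplex (ModuleCat.{u} A) :=
    ShortComplex.mk (ModuleCat.ofHom (LinearMap.ker g.hom).subtype) g
      (ModuleCat.hom_ext (LinearMap.exact_subtype_ker_map g.hom).linearMap_comp_eq_zero)
  have hS : S.ShortExact := ModuleCat.shortComplex_shortExact _ (LinearMap.exact_subtype_ker_map g.hom)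
    (Submodule.injective_subtype _) hg
  have h1 : Module.length A S.X₁ ≠ ⊤ := ne_top_of_le_ne_top hM
    (Module.length_le_of_injective (LinearMap.ker g.hom).subtype (Submodule.injective_subtype _))
  have l1 := length_map_le_mul (CohIII.TFun P p) (tFun_halfExact hflat p) _
    (fun M hM => (length_simple_eq (CohIII.TFun P p) M hM).le) S.X₁ h1
  have l3 := length_map_le_mul (CohIII.TFun P p) (tFun_halfExact hflat p) _
    (fun M hM => (length_simple_eq (CohIII.TFun P p) M hM).le) S.X₃ hN
  have hT : (S.map (CohIII.TFun P p)).ShortExact :=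
    (length_eq_iff_shortExact (CohIII.TFun P p) (tFun_halfExact hflat p) hS
      (ne_top_of_le_ne_top (WithTop.mul_ne_top hd h1) l1)
      (ne_top_of_le_ne_top (WithTop.mul_ne_top hd hN) l3)).mp
      (le_antisymm (length_map_le (CohIII.TFun P p) (tFun_halfExact hflat p) hS)
        ((add_le_add l1 l3).trans (le_of_eq (((mul_add _ _ _).symm.trans
          (congrArg (Module.length A (CohIII.T P p (ModuleCat.of A (IsLocalRing.ResidueField A))) * ·)
            (length_middle hS).symm)).trans h.symm))))
  have hinj : Injective (tmap P p S.f) := (ModuleCat.mono_iff_injective _).mp hT.mono_f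
  have hsurj : Surjective (tmap P p S.g) := (ModuleCat.epi_iff_surjective _).mp hT.epi_g
  exact ⟨hsurj, surjective_succ_of_injective (S := S) hflat p hS hinj⟩

/-- Exactness of `T_p` is the length formula at all large powers of the maximal ideal. -/
theorem both_iff_length (hP : ∀ i, Module.Finite A (P.X i) ∧ Module.Flat A (P.X i)) (p : ℤ) :
    ((CohIII.TFun P p).PreservesMonomorphisms ∧ (CohIII.TFun P p).PreservesEpimorphisms) ↔
      ∃ n₀ : ℕ, ∀ n : ℕ, n₀ ≤ n →
        Module.length A (CohIII.T P p (ModuleCat.of A (A ⧸ IsLocalRing.maximalIdeal A ^ (n + 1)))) =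
          Module.length A (CohIII.T P p (ModuleCat.of A (IsLocalRing.ResidueField A))) *
            Module.length A (A ⧸ IsLocalRing.maximalIdeal A ^ (n + 1)) := by
  have hflat : ∀ i, Module.Flat A (P.X i) := fun i => (hP i).2
  haveI : IsSimpleModule A (IsLocalRing.ResidueField A) :=
    isSimpleModule_iff_quot_maximal.mpr ⟨IsLocalRing.maximalIdeal A, inferInstance, ⟨LinearEquiv.refl A _⟩⟩
  have hk : Module.length A (IsLocalRing.ResidueField A) ≠ ⊤ := by rw [Module.length_eq_one]; simp
  have hd := length_T_ne_top (fun i => (hP i).1) p (ModuleCat.of A (IsLocalRing.ResidueField A)) hk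
  constructor
  · exact fun h => ⟨0, fun n _ => length_T_eq_mul hflat hd h _ (length_residue_pow_ne_top n)⟩
  rintro ⟨n₀, hn₀⟩
  have key : ∀ n, n₀ ≤ n →
      Surjective (tmap P p (ModuleCat.ofHom (Ideal.Quotient.factorₐ A (Ideal.pow_le_self
          (I := IsLocalRing.maximalIdeal A) (Nat.succ_ne_zero n))).toLinearMap :
        ModuleCat.of A (A ⧸ IsLocalRing.maximalIdeal A ^ (n + 1)) ⟶
          ModuleCat.of A (A ⧸ IsLocalRing.maximalIdeal A))) ∧
      Surjective (tmap P (p + 1) (ModuleCat.ofHom (Ideal.Quotient.factorₐ A (Ideal.pow_le_self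
          (I := IsLocalRing.maximalIdeal A) (Nat.succ_ne_zero n))).toLinearMap :
        ModuleCat.of A (A ⧸ IsLocalRing.maximalIdeal A ^ (n + 1)) ⟶
          ModuleCat.of A (A ⧸ IsLocalRing.maximalIdeal A))) := by
    intro n hn
    exact surjective_of_length_eq hflat p hd _
      (Ideal.Quotient.factor_surjective (Ideal.pow_le_self (Nat.succ_ne_zero n)))
      (length_residue_pow_ne_top n) hk (hn₀ n hn)
  exact ⟨(S2406.result P hflat (p + 1) p rfl).1 ((S4490.result P hP (p + 1)).2.2 ⟨n₀, fun n hn => (key n hn).2⟩),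
    (S4490.result P hP p).2.2 ⟨n₀, fun n hn => (key n hn).1⟩⟩

end Groth.Agent.Mum71
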