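import Groth.Agent.Mum71.Chain
import Mathlib.Algebra.Category.ModuleCat.Products
import Mathlib.Algebra.Category.Grp.Limits
import Mathlib.LinearAlgebra.TensorProduct.Basis

/-! The functors of a complex of finite free modules commute with products. -/

set_option autoImplicit false
set_option synthInstance.maxHeartbeats 200000
set_option linter.style.haveILetI false

universe u

noncomputable section

open CategoryTheory CategoryTheory.Limits TensorProduct
open CohIII (T tensorObj)

namespace Groth.Agent.Mum71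

variable {A : Type u} [CommRing A]

theorem bijective_lTensor_pi (Q : Type u) [AddCommGroup Q] [Module A Q] [Module.Finite A Q] [Module.Free A Q]
    {J : Type u} (M : J → Type u) [∀ j, AddCommGroup (M j)] [∀ j, Module A (M j)] :
    Function.Bijective (fun (z : Q ⊗[A] (∀ j, M j)) (j : J) =>
      (LinearMap.proj j : (∀ j, M j) →ₗ[A] M j).lTensor Q z) := by
  classical
  let b := Module.Free.chooseBasis A Q
  have key : ∀ (z : Q ⊗[A] (∀ j, M j)) (j : J) (k : Module.Free.ChooseBasisIndex A Q),
      TensorProduct.equivFinsuppOfBasisLeft b ((LinearMap.proj j : (∀ j, M j) →ₗ[A] M j).lTensor Q z) k =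
        TensorProduct.equivFinsuppOfBasisLeft b z k j := by
    intro z j k
    induction z with
    | zero => simp
    | add x y hx hy => simp only [map_add, Finsupp.add_apply, Pi.add_apply, hx, hy]
    | tmul q m => simp
  constructor
  · intro z z' h
    apply (TensorProduct.equivFinsuppOfBasisLeft b).injective
    ext k j
    rw [← key, ← key]
    exact congrArg (fun t => TensorProduct.equivFinsuppOfBasisLeft b t k) (congrFun h j)
  · intro w
    refine ⟨(TensorProduct.equivFinsuppOfBasisLeft b).symm
      (Finsupp.equivFunOnFinite.symm fun k j => TensorProduct.equivFinsuppOfBasisLeft b (w j) k), ?_⟩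
    funext j
    apply (TensorProduct.equivFinsuppOfBasisLeft b).injective
    ext k
    rw [key, LinearEquiv.apply_symm_apply]
    rfl

variable (P : ChainComplex (ModuleCat.{u} A) ℤ) (hP : ∀ i, Module.Finite A (P.X i) ∧ Module.Free A (P.X i))

include hP in
theorem bijective_TFun_pi (p : ℤ) {J : Type u} (M : J → ModuleCat.{u} A) :
    Function.Bijective (fun (t : T P p (ModuleCat.of A (∀ j, M j))) (j : J) =>
      ((CohIII.TFun P p).map (ModuleCat.ofHom (LinearMap.proj j : (∀ j, M j) →ₗ[A] M j))).hom t) := by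
  classical
  have hn : (ComplexShape.down ℤ).next p = p - 1 := ComplexShape.next_eq' _ (by simp)
  have hi : (ComplexShape.down ℤ).prev p = p + 1 := ComplexShape.prev_eq' _ rfl
  have hb : ∀ i, Function.Bijective (fun (z : P.X i ⊗[A] (∀ j, M j)) (j : J) =>
      (LinearMap.proj j : (∀ j, M j) →ₗ[A] M j).lTensor (P.X i) z) := fun i =>
    haveI := (hP i).1; haveI := (hP i).2; bijective_lTensor_pi _ _
  have hc : ∀ (i i' : ℤ) (j : J) (z : P.X i ⊗[A] (∀ j, M j)),
      (LinearMap.proj j : (∀ j, M j) →ₗ[A] M j).lTensor (P.X i') ((P.d i i').hom.rTensor _ z) =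
        (P.d i i').hom.rTensor _ ((LinearMap.proj j : (∀ j, M j) →ₗ[A] M j).lTensor (P.X i) z) :=
    fun i i' j z => (FCx40.comm_rTensor_lTensor (P.d i i').hom _ z).symm
  constructor
  · intro t t' h
    obtain ⟨z, hz⟩ := FCx40.hcls_surjective (K := tensorObj P (ModuleCat.of A (∀ j, M j))) hn (t - t')
    rw [← sub_eq_zero, ← hz, FCx40.hcls_eq_zero_iff hi hn]
    have h' : ∀ j, ∃ w : P.X (p + 1) ⊗[A] M j, (P.d (p + 1) p).hom.rTensor (M j) w =
        (LinearMap.proj j : (∀ j, M j) →ₗ[A] M j).lTensor (P.X p) z.1 := fun j => by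
      let g : T P p (ModuleCat.of A (∀ j, M j)) →ₗ[A] T P p (M j) :=
        ((CohIII.TFun P p).map (ModuleCat.ofHom (LinearMap.proj j : (∀ j, M j) →ₗ[A] M j))).hom
      have e0 : g t = g t' := congrFun h j
      have e : g (FCx40.hcls (tensorObj P (ModuleCat.of A (∀ j, M j))) p (p - 1) hn z) = 0 :=
        (congrArg g hz).trans ((map_sub g t t').trans (sub_eq_zero.2 e0))
      have e' := (FCx40.hcls_map (CohIII.tensorMap P (ModuleCat.ofHom
        (LinearMap.proj j : (∀ j, M j) →ₗ[A] M j))) hn z).symm.trans e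
      exact (FCx40.hcls_eq_zero_iff hi hn _).1 e'
    choose w hw using h'
    obtain ⟨W, hW⟩ := (hb (p + 1)).2 w
    refine ⟨W, (hb p).1 (funext fun j => ?_)⟩
    show (LinearMap.proj j : (∀ j, M j) →ₗ[A] M j).lTensor (P.X p) ((P.d (p + 1) p).hom.rTensor _ W) = _
    rw [hc, show (LinearMap.proj j : (∀ j, M j) →ₗ[A] M j).lTensor (P.X (p + 1)) W = w j from congrFun hW j]
    exact hw j
  · intro s
    choose z hz using fun j => FCx40.hcls_surjective (K := tensorObj P (M j)) hn (s j)
    obtain ⟨Z, hZ⟩ := (hb p).2 fun j => (z j).1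
    have hZ' : (P.d p (p - 1)).hom.rTensor (∀ j, M j) Z = 0 := (hb (p - 1)).1 (funext fun j => by
      show (LinearMap.proj j : (∀ j, M j) →ₗ[A] M j).lTensor (P.X (p - 1)) _ =
        (LinearMap.proj j : (∀ j, M j) →ₗ[A] M j).lTensor (P.X (p - 1)) 0
      rw [map_zero, hc, show (LinearMap.proj j : (∀ j, M j) →ₗ[A] M j).lTensor (P.X p) Z = (z j).1
        from congrFun hZ j]
      exact (z j).2)
    refine ⟨FCx40.hcls (tensorObj P (ModuleCat.of A (∀ j, M j))) p (p - 1) hn ⟨Z, hZ'⟩, funext fun j => ?_⟩
    refine (FCx40.hcls_map (CohIII.tensorMap P (ModuleCat.ofHom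
        (LinearMap.proj j : (∀ j, M j) →ₗ[A] M j))) hn _).trans ?_
    rw [← hz j]
    exact congrArg _ (Subtype.ext (congrFun hZ j))

include hP in
theorem preservesProducts_TFun (p : ℤ) (J : Type u) :
    PreservesLimitsOfShape (Discrete J) (CohIII.TFun P p) := by
  haveI : ∀ M : J → ModuleCat.{u} A, PreservesLimit (Discrete.functor M) (CohIII.TFun P p) := fun M => ?_
  · exact preservesLimitsOfShape_of_discrete _
  refine preservesLimit_of_preserves_limit_cone (ModuleCat.productConeIsLimit M) ?_
  refine (Fan.isLimitMapConeEquiv _ _ _).symm ?_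
  let e := LinearEquiv.ofBijective (LinearMap.pi fun j =>
    ((CohIII.TFun P p).map (ModuleCat.ofHom (LinearMap.proj j : (∀ j, M j) →ₗ[A] M j))).hom)
    (bijective_TFun_pi P hP p M)
  exact IsLimit.ofIsoLimit (ModuleCat.productConeIsLimit fun j => (CohIII.TFun P p).obj (M j))
    (Fan.ext e.symm.toModuleIso fun j => ModuleCat.hom_ext (LinearMap.ext fun x =>
      (congrFun (e.apply_symm_apply x) j).symm))

end Groth.Agent.Mum71
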