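import Groth.Agent.Mum71.OnCoc
import Groth.Agent.Mum71.BcCrit

/-! Functoriality of the pullback of cohomology classes. -/

set_option autoImplicit false
set_option maxSynthPendingDepth 6
set_option linter.style.haveILetI false
set_option linter.unusedSectionVars false
set_option backward.isDefEq.respectTransparency.types false

universe u

noncomputable section

open CategoryTheory CategoryTheory.Limits AlgebraicGeometry TopologicalSpace Opposite CategoryTheory.Abelian

namespace Groth.Agent.Mum71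

section Cast
variable {C : Type*} [Category C] {D : Type*} [Category D] {X : Scheme.{u}}
  {F : C ⥤ D} {G : D ⥤ X.Modules} {M : C} {N : X.Modules}

/-- A morphism out of a composite functor, with the domain evaluated. -/
def castDom (φ : (F ⋙ G).obj M ⟶ N) : G.obj (F.obj M) ⟶ N := φ

lemma castDom_app (φ : (F ⋙ G).obj M ⟶ N) {W : X.Opens} (x : Γ(G.obj (F.obj M), W)) :
    (castDom φ).app W x = φ.app W x := rfl

/-- Restriction of a morphism, between restrictions. -/
def resMap (W : X.Opens) {M N : X.Modules} (φ : M ⟶ N) : M.restrict W.ι ⟶ N.restrict W.ι :=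
  (Scheme.Modules.restrictFunctor W.ι).map φ

lemma resMap_inv (W : X.Opens) {M N : X.Modules} (φ : M ⟶ N) (O : W.toScheme.Opens) (s : Γ(M, W.ι ''ᵁ O)) :
    (resMap W φ).app O ((M.restrictAppIso W.ι O).inv s) = (N.restrictAppIso W.ι O).inv (φ.app (W.ι ''ᵁ O) s) := rfl

end Cast

variable {X Y Z : Scheme.{u}} (a : X ⟶ Y) (b : Y ⟶ Z)

/-- The comparison of inverse images along a composite. -/
def invComp (M : CohTop.Ab Z.toTopCat) :
    (CohPull.inv a.base).obj ((CohPull.inv b.base).obj M) ⟶ (CohPull.inv (a ≫ b).base).obj M :=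
  ((CohPull.invPushAdj a.base).homEquiv _ _).symm
    (((CohPull.invPushAdj b.base).homEquiv M ((CohTop.push a.base).obj ((CohPull.inv (a ≫ b).base).obj M))).symm
      ((CohPull.invPushAdj (a ≫ b).base).unit.app M))

lemma homEquiv_invComp (M : CohTop.Ab Z.toTopCat) :
    (CohPull.invPushAdj b.base).homEquiv _ _
        ((CohPull.invPushAdj a.base).homEquiv _ _ (invComp a b M)) =
      (CohPull.invPushAdj (a ≫ b).base).unit.app M := by
  refine (congrArg ((CohPull.invPushAdj b.base).homEquiv M _) (Equiv.apply_symm_apply _ _)).trans ?_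
  exact Equiv.apply_symm_apply _ _

lemma invComp_naturality {M N : CohTop.Ab Z.toTopCat} (φ : M ⟶ N) :
    (CohPull.inv a.base).map ((CohPull.inv b.base).map φ) ≫ invComp a b N =
      invComp a b M ≫ (CohPull.inv (a ≫ b).base).map φ := by
  apply ((CohPull.invPushAdj a.base).homEquiv _ _).injective
  apply ((CohPull.invPushAdj b.base).homEquiv _ _).injective
  rw [Adjunction.homEquiv_naturality_left, Adjunction.homEquiv_naturality_left,
    Adjunction.homEquiv_naturality_right, Adjunction.homEquiv_naturality_right, homEquiv_invComp,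
    homEquiv_invComp]
  exact (CohPull.invPushAdj (a ≫ b).base).unit.naturality φ

theorem invComp_pullAb_zero (M : CohTop.Ab Z.toTopCat) (s : Sheaf.H M 0) :
    Sheaf.H.map (invComp a b M) 0 (CohPull.pullAb a.base _ 0 (CohPull.pullAb b.base M 0 s)) =
      CohPull.pullAb (a ≫ b).base M 0 s := by
  apply (Sheaf.H.equiv₀ ((CohPull.inv (a ≫ b).base).obj M) (isTerminalTop (α := X.Opens))).injective
  refine (Sheaf.H.equiv₀_naturality (isTerminalTop (α := X.Opens)) (invComp a b M) _).symm.trans ?_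
  rw [CohPull.equiv₀_pullAb, CohPull.equiv₀_pullAb, CohPull.equiv₀_pullAb]
  have h := congr_arg (fun φ => φ.hom.app (op ⊤) (Sheaf.H.equiv₀ M (isTerminalTop (α := Z.Opens)) s))
    (homEquiv_invComp a b M)
  rw [Adjunction.homEquiv_unit, Adjunction.homEquiv_unit] at h
  exact h

theorem invComp_pullAb (p : ℕ) : ∀ (M : CohTop.Ab Z.toTopCat) (x : Sheaf.H M p),
    Sheaf.H.map (invComp a b M) p (CohPull.pullAb a.base _ p (CohPull.pullAb b.base M p x)) =
      CohPull.pullAb (a ≫ b).base M p x := by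
  induction p with
  | zero => exact invComp_pullAb_zero a b
  | succ p ih =>
    intro M x
    let I : CohTop.Ab Z.toTopCat := Injective.under M
    let S : ShortComplex (CohTop.Ab Z.toTopCat) :=
      ShortComplex.mk (Injective.ι M) (cokernel.π (Injective.ι M)) (cokernel.condition _)
    have hS : S.ShortExact :=
      { exact := ShortComplex.exact_of_g_is_cokernel _ (cokernelIsCokernel _)
        mono_f := inferInstanceAs (Mono (Injective.ι M))
        epi_g := inferInstanceAs (Epi (cokernel.π (Injective.ι M))) }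
    have hsub : Subsingleton (Sheaf.H S.X₂ (p + 1)) := by
      refine ⟨fun y z => ?_⟩
      exact (Ext.eq_zero_of_injective y).trans (Ext.eq_zero_of_injective z).symm
    obtain ⟨y, rfl⟩ := extδ_surjective hS p hsub x
    let φ : (S.map (CohPull.inv b.base)).map (CohPull.inv a.base) ⟶ S.map (CohPull.inv (a ≫ b).base) :=
      ShortComplex.homMk (invComp a b S.X₁) (invComp a b S.X₂) (invComp a b S.X₃)
        (invComp_naturality a b S.f).symm (invComp_naturality a b S.g).symm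
    rw [pullAb_extδ b hS p y]
    erw [pullAb_extδ a (hS.map_of_exact (CohPull.inv b.base)) p (CohPull.pullAb b.base S.X₃ p y),
      pullAb_extδ (a ≫ b) hS p y]
    refine (extδ_natural ((hS.map_of_exact (CohPull.inv b.base)).map_of_exact (CohPull.inv a.base))
      (hS.map_of_exact (CohPull.inv (a ≫ b).base)) φ p _).trans ?_
    exact congrArg (CohCmp.extδ (hS.map_of_exact (CohPull.inv (a ≫ b).base)) p) (ih S.X₃ y)

lemma unit_pullbackComp (F : Z.Modules) :
    (Scheme.Modules.pullbackPushforwardAdjunction b).unit.app F ≫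
        (Scheme.Modules.pushforward b).map
          ((Scheme.Modules.pullbackPushforwardAdjunction a).unit.app ((Scheme.Modules.pullback b).obj F) ≫
            (Scheme.Modules.pushforward a).map ((Scheme.Modules.pullbackComp a b).hom.app F)) =
      (Scheme.Modules.pullbackPushforwardAdjunction (a ≫ b)).unit.app F := by
  refine Scheme.Modules.hom_ext _ _ fun U => ?_
  ext s
  have h := LimTop61.pullbackComp_hom_app_unitSec a b F U s
  simp only [QCPull72.unitSec] at h
  erw [QC70.res_self, QC70.res_self] at h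
  exact h.trans (QC70.res_self _)

lemma theta_comp (F : Z.Modules) :
    (CohPull.inv a.base).map (CohPull.theta b F) ≫ CohPull.theta a ((Scheme.Modules.pullback b).obj F) ≫
        (SheafOfModules.toSheaf X.ringCatSheaf).map ((Scheme.Modules.pullbackComp a b).hom.app F) =
      invComp a b (Coh.toAb F) ≫ CohPull.theta (a ≫ b) F := by
  apply ((CohPull.invPushAdj a.base).homEquiv _ _).injective
  apply ((CohPull.invPushAdj b.base).homEquiv _ _).injective
  rw [Adjunction.homEquiv_naturality_left, Adjunction.homEquiv_naturality_right,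
    Adjunction.homEquiv_naturality_right, Adjunction.homEquiv_naturality_right,
    Adjunction.homEquiv_naturality_right, homEquiv_invComp]
  erw [Equiv.apply_symm_apply, Equiv.apply_symm_apply]
  refine Eq.trans ?_ ((Equiv.apply_symm_apply ((CohPull.invPushAdj (a ≫ b).base).homEquiv (Coh.toAb F)
      (Coh.toAb ((Scheme.Modules.pullback (a ≫ b)).obj F)))
    ((SheafOfModules.toSheaf Z.ringCatSheaf).map
      ((Scheme.Modules.pullbackPushforwardAdjunction (a ≫ b)).unit.app F))).symm.trans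
    ((CohPull.invPushAdj (a ≫ b).base).homEquiv_unit (Coh.toAb F) _ (CohPull.theta (a ≫ b) F)))
  exact congrArg (SheafOfModules.toSheaf Z.ringCatSheaf).map (unit_pullbackComp a b F)

theorem pullMod_comp (F : Z.Modules) (p : ℕ) (x : Coh.HH Z F p) :
    CohPull.mapH ((Scheme.Modules.pullbackComp a b).hom.app F) p
        (CohPull.pullMod a ((Scheme.Modules.pullback b).obj F) p (CohPull.pullMod b F p x)) =
      CohPull.pullMod (a ≫ b) F p x := by
  show Sheaf.H.map _ p (Sheaf.H.map (CohPull.theta a _) p (CohPull.pullAb a.base _ p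
    (Sheaf.H.map (CohPull.theta b F) p (CohPull.pullAb b.base _ p x)))) =
    Sheaf.H.map (CohPull.theta (a ≫ b) F) p (CohPull.pullAb (a ≫ b).base _ p x)
  rw [← invComp_pullAb a b p (Coh.toAb F) x, pullAb_natural]
  exact ((Sheaf.H.map_comp_apply _ _ _).symm.trans (Sheaf.H.map_comp_apply _ _ _).symm).trans
    ((congrArg (fun φ => Sheaf.H.map φ p (CohPull.pullAb a.base _ p (CohPull.pullAb b.base (Coh.toAb F) p x)))
      (theta_comp a b F)).trans (Sheaf.H.map_comp_apply _ _ _))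

lemma pullMod_congr {r r' : X ⟶ Y} (hr : r = r') (M : Y.Modules) (p : ℕ) (x : Coh.HH Y M p) :
    CohPull.mapH ((Scheme.Modules.pullbackCongr hr).hom.app M) p (CohPull.pullMod r M p x) =
      CohPull.pullMod r' M p x := by
  subst hr
  have h : (Scheme.Modules.pullbackCongr (rfl : r = r)).hom.app M = 𝟙 _ := rfl
  rw [h]
  show Sheaf.H.map _ p _ = _
  exact (congrArg (fun φ => Sheaf.H.map φ p (CohPull.pullMod r M p x))
    ((SheafOfModules.toSheaf X.ringCatSheaf).map_id _)).trans (Sheaf.H.map_id_apply _)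

/-- Morphisms out of a double inverse image are determined on units. -/
lemma pullback2_hom_ext {M : Z.Modules} {N : X.Modules}
    {φ ψ : (Scheme.Modules.pullback a).obj ((Scheme.Modules.pullback b).obj M) ⟶ N}
    (h : ∀ (O : Z.Opens) (t : Γ(M, O)),
      φ.app (a ⁻¹ᵁ (b ⁻¹ᵁ O)) (QCPull72.unitSec a _ le_rfl (QCPull72.unitSec b M le_rfl t)) =
        ψ.app (a ⁻¹ᵁ (b ⁻¹ᵁ O)) (QCPull72.unitSec a _ le_rfl (QCPull72.unitSec b M le_rfl t))) : φ = ψ := by
  apply ((Scheme.Modules.pullbackPushforwardAdjunction a).homEquiv _ _).injective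
  apply ((Scheme.Modules.pullbackPushforwardAdjunction b).homEquiv _ _).injective
  simp only [Adjunction.homEquiv_unit]
  refine Scheme.Modules.hom_ext _ _ fun O => ?_
  ext t
  have H := h O t
  simp only [QCPull72.unitSec] at H
  erw [QC70.res_self, QC70.res_self] at H
  exact H

/-- Comparison of two threefold composites out of a double inverse image. -/
lemma pullback2_comp_ext {M : Z.Modules} {A₁ A₂ B₁ B₂ N : X.Modules}
    (φ₁ : (Scheme.Modules.pullback a).obj ((Scheme.Modules.pullback b).obj M) ⟶ A₁) (φ₂ : A₁ ⟶ A₂) (φ₃ : A₂ ⟶ N)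
    (ψ₁ : (Scheme.Modules.pullback a).obj ((Scheme.Modules.pullback b).obj M) ⟶ B₁) (ψ₂ : B₁ ⟶ B₂) (ψ₃ : B₂ ⟶ N)
    (h : ∀ (O : Z.Opens) (t : Γ(M, O)) (e₁ : b ⁻¹ᵁ O ≤ b ⁻¹ᵁ O) (e₂ : a ⁻¹ᵁ (b ⁻¹ᵁ O) ≤ a ⁻¹ᵁ (b ⁻¹ᵁ O)),
      φ₃.app _ (φ₂.app _ (φ₁.app (a ⁻¹ᵁ (b ⁻¹ᵁ O)) (QCPull72.unitSec a _ e₂ (QCPull72.unitSec b M e₁ t)))) =
        ψ₃.app _ (ψ₂.app _ (ψ₁.app (a ⁻¹ᵁ (b ⁻¹ᵁ O))
          (QCPull72.unitSec a _ e₂ (QCPull72.unitSec b M e₁ t))))) :
    φ₁ ≫ φ₂ ≫ φ₃ = ψ₁ ≫ ψ₂ ≫ ψ₃ :=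
  pullback2_hom_ext a b fun O t => h O t le_rfl le_rfl

/-- Comparison of a twofold and a threefold composite out of a double inverse image. -/
lemma pullback2_comp23_ext {M : Z.Modules} {A B₁ B₂ N : X.Modules}
    (φ₁ : (Scheme.Modules.pullback a).obj ((Scheme.Modules.pullback b).obj M) ⟶ A) (φ₂ : A ⟶ N)
    (ψ₁ : (Scheme.Modules.pullback a).obj ((Scheme.Modules.pullback b).obj M) ⟶ B₁) (ψ₂ : B₁ ⟶ B₂) (ψ₃ : B₂ ⟶ N)
    (h : ∀ (O : Z.Opens) (t : Γ(M, O)) (e₁ : b ⁻¹ᵁ O ≤ b ⁻¹ᵁ O) (e₂ : a ⁻¹ᵁ (b ⁻¹ᵁ O) ≤ a ⁻¹ᵁ (b ⁻¹ᵁ O)),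
      φ₂.app _ (φ₁.app (a ⁻¹ᵁ (b ⁻¹ᵁ O)) (QCPull72.unitSec a _ e₂ (QCPull72.unitSec b M e₁ t))) =
        ψ₃.app _ (ψ₂.app _ (ψ₁.app (a ⁻¹ᵁ (b ⁻¹ᵁ O))
          (QCPull72.unitSec a _ e₂ (QCPull72.unitSec b M e₁ t))))) :
    φ₁ ≫ φ₂ = ψ₁ ≫ ψ₂ ≫ ψ₃ :=
  pullback2_hom_ext a b fun O t => h O t le_rfl le_rfl

/-- The comparison of pullbacks along a composite, on the double pullback. -/
def pbc (F : Z.Modules) : (Scheme.Modules.pullback a).obj ((Scheme.Modules.pullback b).obj F) ⟶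
    (Scheme.Modules.pullback (a ≫ b)).obj F :=
  castDom ((Scheme.Modules.pullbackComp a b).hom.app F)

lemma pbc_unitSec (F : Z.Modules) {U : Z.Opens} {V : Y.Opens} {W : X.Opens} (e₁ : W ≤ a ⁻¹ᵁ V) (e₂ : V ≤ b ⁻¹ᵁ U)
    (e : W ≤ (a ≫ b) ⁻¹ᵁ U) (x : Γ(F, U)) :
    (pbc a b F).app W (QCPull72.unitSec a ((Scheme.Modules.pullback b).obj F) e₁ (QCPull72.unitSec b F e₂ x)) =
      QCPull72.unitSec (a ≫ b) F e x :=
  (castDom_app _ _).trans (pullbackComp_unitSec a b F e₁ e₂ e x)


/-- The formal part of functoriality of the pullback of classes. -/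
lemma pullMod_chain {r : X ⟶ Z} (hr : a ≫ b = r) {M : Z.Modules} {N : Y.Modules} {P Q : X.Modules}
    (ιb : (Scheme.Modules.pullback b).obj M ⟶ N) (ιa : (Scheme.Modules.pullback a).obj N ⟶ P) (π : P ⟶ Q)
    (ι : (Scheme.Modules.pullback r).obj M ⟶ Q)
    (hc : (Scheme.Modules.pullback a).map ιb ≫ ιa ≫ π =
      (Scheme.Modules.pullbackComp a b).hom.app M ≫ (Scheme.Modules.pullbackCongr hr).hom.app M ≫ ι)
    (p : ℕ) (x : Coh.HH Z M p) :
    CohPull.mapH π p (CohPull.mapH ιa p (CohPull.pullMod a N p (CohPull.mapH ιb p (CohPull.pullMod b M p x)))) =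
      CohPull.mapH ι p (CohPull.pullMod r M p x) := by
  rw [pullMod_natural a ιb, ← mapH_comp, ← mapH_comp, hc, mapH_comp, pullMod_comp a b, mapH_comp,
    pullMod_congr hr]

section Open

variable {U : Z.Opens} {U' : Y.Opens} {U'' : X.Opens} (hb : U' ≤ b ⁻¹ᵁ U) (ha : U'' ≤ a ⁻¹ᵁ U')
  (h : U'' ≤ (a ≫ b) ⁻¹ᵁ U)

set_option maxRecDepth 4000 in
set_option maxHeartbeats 1000000 in
lemma pullOnIso_comp (F : Z.Modules) (hr : a.resLE U' U'' ha ≫ b.resLE U U' hb = (a ≫ b).resLE U U'' h) :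
    (Scheme.Modules.pullback (a.resLE U' U'' ha)).map (CohPull.pullOnIso b U U' hb F).hom ≫
        (CohPull.pullOnIso a U' U'' ha ((Scheme.Modules.pullback b).obj F)).hom ≫
          resMap U'' (pbc a b F) =
      pbc (a.resLE U' U'' ha) (b.resLE U U' hb) (F.restrict U.ι) ≫
        (Scheme.Modules.pullbackCongr hr).hom.app (F.restrict U.ι) ≫
          (CohPull.pullOnIso (a ≫ b) U U'' h F).hom := by
  refine pullback2_comp_ext (a.resLE U' U'' ha) (b.resLE U U' hb) _ _ _ _ _ _ fun O t e1 e2 => ?_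
  obtain ⟨s, rfl⟩ : ∃ s, (F.restrictAppIso U.ι O).inv s = t :=
    ⟨(F.restrictAppIso U.ι O).hom t, (F.restrictAppIso U.ι O).hom_inv_id_apply t⟩
  have er : (a.resLE U' U'' ha) ⁻¹ᵁ ((b.resLE U U' hb) ⁻¹ᵁ O) ≤ (a ≫ b).resLE U U'' h ⁻¹ᵁ O := by rw [← hr]; rfl
  rw [pullback_map_unitSec, pullOnIso_unitSec, pullOnIso_unitSec, resMap_inv, pbc_unitSec a b F (e := ?e3),
    pbc_unitSec (a.resLE U' U'' ha) (b.resLE U U' hb) (F.restrict U.ι) (e := ?e4),
    pullbackCongr_unitSec hr (e' := ?e5), pullOnIso_unitSec]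
  case e4 => exact le_rfl
  case e5 => exact er

theorem pullOn_comp (F : Z.Modules) (p : ℕ) (x : Coh.HHon Z F U p) :
    CohPull.mapH ((Scheme.Modules.restrictFunctor U''.ι).map (pbc a b F)) p
        (CohPull.pullOn a U' U'' ha ((Scheme.Modules.pullback b).obj F) p (CohPull.pullOn b U U' hb F p x)) =
      CohPull.pullOn (a ≫ b) U U'' h F p x := by
  have hr : a.resLE U' U'' ha ≫ b.resLE U U' hb = (a ≫ b).resLE U U'' h :=
    Scheme.Hom.resLE_comp_resLE _ _ _ _
  exact pullMod_chain (a.resLE U' U'' ha) (b.resLE U U' hb) hr (CohPull.pullOnIso b U U' hb F).hom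
    (CohPull.pullOnIso a U' U'' ha ((Scheme.Modules.pullback b).obj F)).hom
    ((Scheme.Modules.restrictFunctor U''.ι).map (pbc a b F)) (CohPull.pullOnIso (a ≫ b) U U'' h F).hom (pullOnIso_comp a b hb ha h F hr) p x

end Open

section Eps

variable {S : Scheme.{u}} (ξ : X ⟶ S) [HasInjectiveResolutions X.Modules]
  {Δ : RDer.DerivedLES (Scheme.Modules.pushforward ξ)} (E : CohCmp.SectCmp ξ Δ)

/-- Classes pulled back in two steps, as sections of the higher direct image. -/
theorem eps_pullOn_comp {U : Z.Opens} {U' : Y.Opens} {V V' : S.Opens} (hV : V' = V) (hb : U' ≤ b ⁻¹ᵁ U)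
    (ha : ξ ⁻¹ᵁ V ≤ a ⁻¹ᵁ U') (h : ξ ⁻¹ᵁ V' ≤ (a ≫ b) ⁻¹ᵁ U) (F : Z.Modules) (p : ℕ) (x : Coh.HHon Z F U p) :
    HEq (E.ε V' ((Scheme.Modules.pullback (a ≫ b)).obj F) p (CohPull.pullOn (a ≫ b) U (ξ ⁻¹ᵁ V') h F p x))
      (((Coh.Rpush ξ p).map (pbc a b F)).app V
        (E.ε V ((Scheme.Modules.pullback a).obj ((Scheme.Modules.pullback b).obj F)) p
          (CohPull.pullOn a U' (ξ ⁻¹ᵁ V) ha ((Scheme.Modules.pullback b).obj F) p
            (CohPull.pullOn b U U' hb F p x)))) := by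
  subst hV
  exact heq_of_eq ((congrArg (E.ε V' _ p) (pullOn_comp (U'' := ξ ⁻¹ᵁ V') a b hb ha h F p x).symm).trans
    (E.natural V' (pbc a b F) p _))

end Eps

section Bc

/-- The base change map on units is the adjoint map. -/
lemma bc_unitSec {X X' S S' : Scheme.{u}} [HasInjectiveResolutions X.Modules]
    [HasInjectiveResolutions X'.Modules] {f : X ⟶ S} {g : S' ⟶ S} {f' : X' ⟶ S'} {g' : X' ⟶ X}
    {w : g' ≫ f = f' ≫ g} {Δ : RDer.DerivedLES (Scheme.Modules.pushforward f)}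
    {Δ' : RDer.DerivedLES (Scheme.Modules.pushforward f')} {E : CohCmp.SectCmp f Δ} {E' : CohCmp.SectCmp f' Δ'}
    (B : CohCmp.GenBC f g f' g' w E E') (p : ℕ) (F : X.Modules) {V : S.Opens} {V' : S'.Opens}
    (hVV' : V' ≤ g ⁻¹ᵁ V) (r : Γ((Coh.Rpush f p).obj F, V)) :
    (B.bc p F).app V' (QCPull72.unitSec g ((Coh.Rpush f p).obj F) hVV' r) =
      QC70.res ((Coh.Rpush f' p).obj ((Scheme.Modules.pullback g').obj F)) hVV' ((B.φ p F).app V r) := by
  rw [QCPull72.unitSec, QC70.app_res]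
  refine congrArg (QC70.res _ hVV') ?_
  have h : (Scheme.Modules.pullbackPushforwardAdjunction g).unit.app ((Coh.Rpush f p).obj F) ≫
      (Scheme.Modules.pushforward g).map (B.bc p F) = B.φ p F :=
    ((Scheme.Modules.pullbackPushforwardAdjunction g).homEquiv_unit _ _ _).symm.trans
      (Equiv.apply_symm_apply _ _)
  exact congr(Scheme.Modules.Hom.app $h V r)

end Bc

end Groth.Agent.Mum71
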