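import Groth.Agent.Mum71.CechPull
import Groth.Agent.Mum71.RpushLin
import Groth.Prelude.Def_CohCmp

/-! Pullback of classes and connecting maps. -/

set_option autoImplicit false
set_option maxSynthPendingDepth 6
set_option linter.style.haveILetI false
set_option backward.isDefEq.respectTransparency.types false

universe u

noncomputable section

open CategoryTheory CategoryTheory.Limits AlgebraicGeometry TopologicalSpace Opposite CategoryTheory.Abelian

namespace Groth.Agent.Mum71

section Ext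

variable {U : Scheme.{u}} {S S' : ShortComplex (CohTop.Ab U)} (hS : S.ShortExact)

lemma extδ_natural (hS' : S'.ShortExact) (φ : S ⟶ S') (p : ℕ) (x : Sheaf.H S.X₃ p) :
    Sheaf.H.map φ.τ₁ (p + 1) (CohCmp.extδ hS p x) = CohCmp.extδ hS' p (Sheaf.H.map φ.τ₃ p x) := by
  show Ext.comp (Ext.comp x hS.extClass rfl) (Ext.mk₀ φ.τ₁) (add_zero (p + 1)) =
    Ext.comp (Ext.comp x (Ext.mk₀ φ.τ₃) (add_zero p)) hS'.extClass rfl
  rw [Ext.comp_assoc x hS.extClass (Ext.mk₀ φ.τ₁) rfl (add_zero 1) (by omega),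
    hS.extClass_naturality hS' φ, ← Ext.comp_assoc x (Ext.mk₀ φ.τ₃) hS'.extClass (add_zero p)
      (zero_add 1) (by omega)]

lemma extδ_map_g (p : ℕ) (x : Sheaf.H S.X₂ p) : CohCmp.extδ hS p (Sheaf.H.map S.g p x) = 0 := by
  show Ext.comp (Ext.comp x (Ext.mk₀ S.g) (add_zero p)) hS.extClass rfl = 0
  rw [Ext.comp_assoc x (Ext.mk₀ S.g) hS.extClass (add_zero p) (zero_add 1) (by omega),
    hS.comp_extClass, Ext.comp_zero]

lemma extδ_surjective (p : ℕ) (h : Subsingleton (Sheaf.H S.X₂ (p + 1))) :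
    Function.Surjective (CohCmp.extδ hS p) := fun x => by
  obtain ⟨y, hy⟩ := Ext.covariant_sequence_exact₁ _ hS x (Subsingleton.elim _ _) rfl
  exact ⟨y, hy⟩

end Ext

section Pull

variable {X' Y : Scheme.{u}}

lemma theta_natural (g : X' ⟶ Y) {M N : Y.Modules} (φ : M ⟶ N) :
    (CohPull.inv g.base).map ((SheafOfModules.toSheaf Y.ringCatSheaf).map φ) ≫ CohPull.theta g N =
      CohPull.theta g M ≫ (SheafOfModules.toSheaf X'.ringCatSheaf).map ((Scheme.Modules.pullback g).map φ) := by
  apply ((CohPull.invPushAdj g.base).homEquiv _ _).injective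
  rw [Adjunction.homEquiv_naturality_left, Adjunction.homEquiv_naturality_right]
  erw [Equiv.apply_symm_apply, Equiv.apply_symm_apply]
  exact ((SheafOfModules.toSheaf Y.ringCatSheaf).map_comp _ _).symm.trans
    ((congrArg (SheafOfModules.toSheaf Y.ringCatSheaf).map
      ((Scheme.Modules.pullbackPushforwardAdjunction g).unit.naturality φ)).trans
      ((SheafOfModules.toSheaf Y.ringCatSheaf).map_comp _ _))

lemma pullAb_natural {A B : TopCat.{u}} (c : A ⟶ B) {M N : CohTop.Ab B} (φ : M ⟶ N) (p : ℕ)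
    (x : Sheaf.H M p) :
    CohPull.pullAb c N p (Sheaf.H.map φ p x) =
      Sheaf.H.map ((CohPull.inv c).map φ) p (CohPull.pullAb c M p x) := by
  show (Ext.mk₀ _).comp ((Ext.comp x (Ext.mk₀ φ) (add_zero p)).mapExactFunctor (CohPull.inv c)) (zero_add p) =
    ((Ext.mk₀ _).comp _ (zero_add p)).comp (Ext.mk₀ _) (add_zero p)
  rw [Ext.mapExactFunctor_comp, Ext.mapExactFunctor_mk₀,
    Ext.comp_assoc _ _ _ (zero_add p) (add_zero p) (by omega)]
  rfl

lemma pullMod_natural (g : X' ⟶ Y) {M N : Y.Modules} (φ : M ⟶ N) (p : ℕ) (x : Coh.HH Y M p) :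
    CohPull.pullMod g N p (CohPull.mapH φ p x) =
      CohPull.mapH ((Scheme.Modules.pullback g).map φ) p (CohPull.pullMod g M p x) := by
  show Sheaf.H.map (CohPull.theta g N) p (CohPull.pullAb g.base _ p (Sheaf.H.map _ p x)) =
    Sheaf.H.map _ p (Sheaf.H.map (CohPull.theta g M) p _)
  rw [pullAb_natural, ← Sheaf.H.map_comp_apply, ← Sheaf.H.map_comp_apply, theta_natural]

lemma pullAb_extδ (g : X' ⟶ Y) {S : ShortComplex (CohTop.Ab Y)} (hS : S.ShortExact) (p : ℕ)
    (x : Sheaf.H S.X₃ p) :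
    CohPull.pullAb g.base S.X₁ (p + 1) (CohCmp.extδ hS p x) =
      CohCmp.extδ (hS.map_of_exact (CohPull.inv g.base)) p (CohPull.pullAb g.base S.X₃ p x) := by
  show (Ext.mk₀ (CohPull.oneTo g.base)).comp
      ((Ext.comp x hS.extClass rfl).mapExactFunctor (CohPull.inv g.base)) (zero_add (p + 1)) =
    ((Ext.mk₀ (CohPull.oneTo g.base)).comp (x.mapExactFunctor (CohPull.inv g.base)) (zero_add p)).comp _ rfl
  rw [Ext.mapExactFunctor_comp, Ext.mapExactFunctor_extClass]
  exact (Ext.comp_assoc _ _ _ (zero_add p) rfl (by omega)).symm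

end Pull

section Restrict

variable (X : Scheme.{u}) (U : X.Opens)

instance restrict_preservesFiniteLimits :
    PreservesFiniteLimits (Scheme.Modules.restrictFunctor U.ι) := inferInstance

instance restrict_preservesFiniteColimits :
    PreservesFiniteColimits (Scheme.Modules.restrictFunctor U.ι) :=
  haveI := (Scheme.Modules.restrictAdjunction U.ι).isLeftAdjoint
  haveI : PreservesColimitsOfSize.{0, 0} (Scheme.Modules.restrictFunctor U.ι) :=
    (Scheme.Modules.restrictAdjunction U.ι).leftAdjoint_preservesColimits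
  PreservesColimitsOfSize.preservesFiniteColimits _

theorem toAbOn_shortExact {S : ShortComplex X.Modules} (hS : S.ShortExact) :
    (S.map (CohCmp.toAbOn X U)).ShortExact := by
  haveI : PreservesFiniteLimits (CohCmp.toAbOn X U) :=
    comp_preservesFiniteLimits (Scheme.Modules.restrictFunctor U.ι) (QC70.abSheafFunctor U.toScheme)
  haveI : PreservesFiniteColimits (CohCmp.toAbOn X U) :=
    comp_preservesFiniteColimits (Scheme.Modules.restrictFunctor U.ι) (QC70.abSheafFunctor U.toScheme)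
  exact hS.map_of_exact _

variable {X}

/-- Restriction of the inverse image is inverse image of the restriction, naturally. -/
def pullOnNat {Y : Scheme.{u}} (g : Y ⟶ X) (U' : Y.Opens) (h : U' ≤ g ⁻¹ᵁ U) :
    Scheme.Modules.restrictFunctor U.ι ⋙ Scheme.Modules.pullback (g.resLE U U' h) ≅
      Scheme.Modules.pullback g ⋙ Scheme.Modules.restrictFunctor U'.ι :=
  Functor.isoWhiskerRight (Scheme.Modules.restrictFunctorIsoPullback U.ι) _ ≪≫
    Scheme.Modules.pullbackComp (g.resLE U U' h) U.ι ≪≫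
    Scheme.Modules.pullbackCongr (Scheme.Hom.resLE_comp_ι g h) ≪≫
    (Scheme.Modules.pullbackComp U'.ι g).symm ≪≫
    Functor.isoWhiskerLeft _ (Scheme.Modules.restrictFunctorIsoPullback U'.ι).symm

lemma pullOnIso_hom {Y : Scheme.{u}} (g : Y ⟶ X) (U' : Y.Opens) (h : U' ≤ g ⁻¹ᵁ U) (F : X.Modules) :
    (CohPull.pullOnIso g U U' h F).hom = (pullOnNat U g U' h).hom.app F := rfl

variable {Y : Scheme.{u}} (g : Y ⟶ X) (U' : Y.Opens) (h : U' ≤ g ⁻¹ᵁ U)

lemma pullOnIso_natural {F G : X.Modules} (φ : F ⟶ G) :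
    (Scheme.Modules.pullback (g.resLE U U' h)).map ((Scheme.Modules.restrictFunctor U.ι).map φ) ≫
        (CohPull.pullOnIso g U U' h G).hom =
      (CohPull.pullOnIso g U U' h F).hom ≫
        (Scheme.Modules.restrictFunctor U'.ι).map ((Scheme.Modules.pullback g).map φ) := by
  rw [pullOnIso_hom, pullOnIso_hom]
  exact (pullOnNat U g U' h).hom.naturality φ

lemma mapH_comp {M N P : X.Modules} (φ : M ⟶ N) (ψ : N ⟶ P) (p : ℕ) (x : Coh.HH X M p) :
    CohPull.mapH (φ ≫ ψ) p x = CohPull.mapH ψ p (CohPull.mapH φ p x) := by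
  show Sheaf.H.map _ p x = Sheaf.H.map _ p (Sheaf.H.map _ p x)
  rw [← Sheaf.H.map_comp_apply, ← Functor.map_comp]
  rfl

lemma pullOn_natural {F G : X.Modules} (φ : F ⟶ G) (p : ℕ) (x : Coh.HHon X F U p) :
    CohPull.pullOn g U U' h G p (CohPull.mapH ((Scheme.Modules.restrictFunctor U.ι).map φ) p x) =
      CohPull.mapH ((Scheme.Modules.restrictFunctor U'.ι).map ((Scheme.Modules.pullback g).map φ)) p
        (CohPull.pullOn g U U' h F p x) := by
  refine (congrArg (CohPull.mapH (CohPull.pullOnIso g U U' h G).hom p)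
    (pullMod_natural (g.resLE U U' h) ((Scheme.Modules.restrictFunctor U.ι).map φ) p x)).trans ?_
  refine (mapH_comp _ _ p _).symm.trans ?_
  refine (congrArg (fun ψ => CohPull.mapH ψ p (CohPull.pullMod (g.resLE U U' h) (F.restrict U.ι) p x))
    (pullOnIso_natural U g U' h φ)).trans ?_
  exact mapH_comp _ _ p _

/-- Pullback commutes with the connecting maps, the pulled back sequence being exact. -/
theorem pullOn_extδ (S : ShortComplex X.Modules) (hA : (S.map (CohCmp.toAbOn X U)).ShortExact)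
    (hA' : ((S.map (Scheme.Modules.pullback g)).map (CohCmp.toAbOn Y U')).ShortExact) (p : ℕ)
    (x : Coh.HHon X S.X₃ U p) :
    CohPull.pullOn g U U' h S.X₁ (p + 1) (CohCmp.extδ hA p x) =
      CohCmp.extδ hA' p (CohPull.pullOn g U U' h S.X₃ p x) := by
  let r := g.resLE U U' h
  let T := SheafOfModules.toSheaf U'.toScheme.ringCatSheaf
  let τ : ∀ F : X.Modules, (CohPull.inv r.base).obj (Coh.toAb (F.restrict U.ι)) ⟶
      Coh.toAb (((Scheme.Modules.pullback g).obj F).restrict U'.ι) := fun F =>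
    CohPull.theta r (F.restrict U.ι) ≫ T.map (CohPull.pullOnIso g U U' h F).hom
  have hτ : ∀ {F G : X.Modules} (φ : F ⟶ G),
      (CohPull.inv r.base).map ((CohCmp.toAbOn X U).map φ) ≫ τ G =
        τ F ≫ (CohCmp.toAbOn Y U').map ((Scheme.Modules.pullback g).map φ) := fun {F G} φ => by
    refine (Category.assoc _ _ _).symm.trans ?_
    refine (congrArg (· ≫ _) (theta_natural r ((Scheme.Modules.restrictFunctor U.ι).map φ))).trans ?_
    refine (Category.assoc _ _ _).trans (Eq.trans ?_ (Category.assoc _ _ _).symm)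
    refine congrArg (CohPull.theta r (F.restrict U.ι) ≫ ·) ?_
    exact (T.map_comp _ _).symm.trans ((congrArg T.map (pullOnIso_natural U g U' h φ)).trans (T.map_comp _ _))
  let φ : (S.map (CohCmp.toAbOn X U)).map (CohPull.inv r.base) ⟶
      (S.map (Scheme.Modules.pullback g)).map (CohCmp.toAbOn Y U') :=
    ShortComplex.homMk (τ S.X₁) (τ S.X₂) (τ S.X₃) (hτ S.f).symm (hτ S.g).symm
  have e : ∀ (F : X.Modules) (q : ℕ) (y : Coh.HHon X F U q),
      CohPull.pullOn g U U' h F q y = Sheaf.H.map (τ F) q (CohPull.pullAb r.base _ q y) := fun F q y => by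
    show Sheaf.H.map _ q (Sheaf.H.map _ q _) = _
    rw [← Sheaf.H.map_comp_apply]
  rw [e, e]
  refine (congrArg (Sheaf.H.map (τ S.X₁) (p + 1)) (pullAb_extδ r hA p x)).trans ?_
  exact extδ_natural (hA.map_of_exact (CohPull.inv r.base)) hA' φ p _

end Restrict

end Groth.Agent.Mum71
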