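import Groth.Agent.Mum71.SectCmpBij
import Groth.Agent.RD97.LES

/-! The edge map `H^p(Y, f_* G) → H^p(X, G)` is bijective when the higher direct images vanish. -/

set_option autoImplicit false
set_option maxSynthPendingDepth 6
set_option linter.style.haveILetI false
set_option backward.isDefEq.respectTransparency.types false

universe u

noncomputable section

open CategoryTheory CategoryTheory.Limits AlgebraicGeometry TopologicalSpace Opposite CategoryTheory.Abelian

namespace Groth.Agent.Mum71

variable {X Y : Scheme.{u}} (f : X ⟶ Y)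

/-- The counit of inverse and direct image of abelian sheaves. -/
abbrev abCou (M : CohTop.Ab X) : (CohPull.inv f.base).obj ((CohTop.push f.base).obj M) ⟶ M :=
  (CohPull.invPushAdj f.base).counit.app M

lemma theta_counit (G : X.Modules) :
    CohPull.theta f ((Scheme.Modules.pushforward f).obj G) ≫
        (SheafOfModules.toSheaf X.ringCatSheaf).map
          ((Scheme.Modules.pullbackPushforwardAdjunction f).counit.app G) =
      abCou f (Coh.toAb G) := by
  apply ((CohPull.invPushAdj f.base).homEquiv _ _).injective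
  rw [Adjunction.homEquiv_naturality_right, show (CohPull.invPushAdj f.base).homEquiv _ _ (CohPull.theta f
    ((Scheme.Modules.pushforward f).obj G)) = _ from Equiv.apply_symm_apply _ _]
  refine Eq.trans ?_ (((CohPull.invPushAdj f.base).homEquiv_unit _ _ _).trans
    ((CohPull.invPushAdj f.base).right_triangle_components (Coh.toAb G))).symm
  show (SheafOfModules.toSheaf Y.ringCatSheaf).map
      ((Scheme.Modules.pullbackPushforwardAdjunction f).unit.app ((Scheme.Modules.pushforward f).obj G)) ≫
    (SheafOfModules.toSheaf Y.ringCatSheaf).map ((Scheme.Modules.pushforward f).map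
      ((Scheme.Modules.pullbackPushforwardAdjunction f).counit.app G)) = _
  refine ((SheafOfModules.toSheaf Y.ringCatSheaf).map_comp _ _).symm.trans ?_
  refine (congrArg (SheafOfModules.toSheaf Y.ringCatSheaf).map
    ((Scheme.Modules.pullbackPushforwardAdjunction f).right_triangle_components G)).trans ?_
  exact (SheafOfModules.toSheaf Y.ringCatSheaf).map_id _

/-- The edge map of abelian sheaves. -/
def edgeAb (M : CohTop.Ab X) (p : ℕ) : Sheaf.H ((CohTop.push f.base).obj M) p →+ Sheaf.H M p :=
  (Sheaf.H.map (abCou f M) p).comp (CohPull.pullAb f.base ((CohTop.push f.base).obj M) p)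

lemma edgeAb_extδ {S : ShortComplex (CohTop.Ab X)} (hS : S.ShortExact)
    (hB : (S.map (CohTop.push f.base)).ShortExact) (p : ℕ) (x : Sheaf.H ((CohTop.push f.base).obj S.X₃) p) :
    edgeAb f S.X₁ (p + 1) (CohCmp.extδ hB p x) = CohCmp.extδ hS p (edgeAb f S.X₃ p x) := by
  let φ : (S.map (CohTop.push f.base)).map (CohPull.inv f.base) ⟶ S :=
    { τ₁ := abCou f S.X₁
      τ₂ := abCou f S.X₂
      τ₃ := abCou f S.X₃
      comm₁₂ := ((CohPull.invPushAdj f.base).counit.naturality S.f).symm
      comm₂₃ := ((CohPull.invPushAdj f.base).counit.naturality S.g).symm }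
  exact (congrArg (Sheaf.H.map (abCou f S.X₁) (p + 1)) (pullAb_extδ f hB p x)).trans
    (extδ_natural (hB.map_of_exact (CohPull.inv f.base)) hS φ p _)

lemma pushEdge_eq (G : X.Modules) (p : ℕ) (x : Coh.HH Y ((Scheme.Modules.pushforward f).obj G) p) :
    CohPull.pushEdge f G p x = edgeAb f (Coh.toAb G) p x :=
  (Sheaf.H.map_comp_apply _ _ _).symm.trans
    (congrArg (fun φ => Sheaf.H.map φ p _) (theta_counit f G))

/-- The underlying sequence of abelian sheaves. -/
abbrev abSeq {Z : Scheme.{u}} (T : ShortComplex Z.Modules) : ShortComplex (CohTop.Ab Z) :=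
  T.map (QC70.abSheafFunctor Z)

lemma edgeAb_natural {M M' : CohTop.Ab X} (φ : M ⟶ M') (p : ℕ) (x : Sheaf.H ((CohTop.push f.base).obj M) p) :
    edgeAb f M' p (Sheaf.H.map ((CohTop.push f.base).map φ) p x) = Sheaf.H.map φ p (edgeAb f M p x) := by
  show Sheaf.H.map (abCou f M') p (CohPull.pullAb f.base _ p _) = Sheaf.H.map φ p (Sheaf.H.map (abCou f M) p _)
  rw [pullAb_natural, ← Sheaf.H.map_comp_apply, ← Sheaf.H.map_comp_apply]
  exact congrArg (fun ψ => Sheaf.H.map ψ p _) ((CohPull.invPushAdj f.base).counit.naturality φ)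

/-- The five lemma for the edge maps. -/
theorem edgeAb_bijective_succ {S : ShortComplex (CohTop.Ab X)} (hS : S.ShortExact)
    (hB : (S.map (CohTop.push f.base)).ShortExact) (p : ℕ) (vX : Subsingleton (Sheaf.H S.X₂ (p + 1)))
    (vY : Subsingleton (Sheaf.H (S.map (CohTop.push f.base)).X₂ (p + 1)))
    (h2 : Function.Surjective (edgeAb f S.X₂ p)) (h3 : Function.Bijective (edgeAb f S.X₃ p)) :
    Function.Bijective (edgeAb f S.X₁ (p + 1)) := by
  refine ⟨(injective_iff_map_eq_zero _).2 fun x hx => ?_, fun y => ?_⟩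
  · obtain ⟨z, rfl⟩ := extδ_surjective hB p vY x
    obtain ⟨w, hw⟩ := Ext.covariant_sequence_exact₃ _ hS (edgeAb f S.X₃ p z) rfl
      ((edgeAb_extδ f hS hB p z).symm.trans hx)
    obtain ⟨v, rfl⟩ := h2 w
    exact (congrArg (CohCmp.extδ hB p) (h3.1 (hw.symm.trans (edgeAb_natural f S.g p v).symm) :
      z = Sheaf.H.map (S.map (CohTop.push f.base)).g p v)).trans (extδ_map_g hB p v)
  · obtain ⟨w, rfl⟩ := extδ_surjective hS p vX y
    obtain ⟨z, rfl⟩ := h3.2 w
    exact ⟨CohCmp.extδ hB p z, edgeAb_extδ f hS hB p z⟩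

theorem edgeAb_bijective_congr {M M' : CohTop.Ab X} (e : M ≅ M') (p : ℕ)
    (h : Function.Bijective (edgeAb f M' p)) : Function.Bijective (edgeAb f M p) := by
  have hi : ∀ {Z : TopCat.{u}} {A B : CohTop.Ab Z} (e : A ≅ B), Function.Bijective (Sheaf.H.map e.hom p) :=
    fun {Z A B} e => ConcreteCategory.bijective_of_isIso
      (((Sheaf.functorH (Opens.grothendieckTopology Z) p).mapIso e).hom)
  refine (Function.Bijective.of_comp_iff' (hi e) _).1 ?_
  rw [show (Sheaf.H.map e.hom p) ∘ (edgeAb f M p) =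
      (edgeAb f M' p) ∘ (Sheaf.H.map ((CohTop.push f.base).map e.hom) p) from
    funext fun x => (edgeAb_natural f e.hom p x).symm]
  exact h.comp (hi ((CohTop.push f.base).mapIso e))

theorem edgeAb_zero_bijective (M : CohTop.Ab X) : Function.Bijective (edgeAb f M 0) := by
  have h : ∀ x, Sheaf.H.equiv₀ M (isTerminalTop (α := X.Opens)) (edgeAb f M 0 x) =
      Sheaf.H.equiv₀ ((CohTop.push f.base).obj M) (isTerminalTop (α := Y.Opens)) x := fun x => by
    refine (Sheaf.H.equiv₀_naturality (isTerminalTop (α := X.Opens)) _ _).symm.trans ?_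
    refine (congrArg _ (CohPull.equiv₀_pullAb f.base _ x)).trans ?_
    exact ConcreteCategory.congr_hom (NatTrans.congr_app (congrArg (fun ψ => ψ.hom)
      ((CohPull.invPushAdj f.base).right_triangle_components M)) (op ⊤)) _
  have h' : ⇑(edgeAb f M 0) = fun x => (Sheaf.H.equiv₀ M (isTerminalTop (α := X.Opens))).symm
      (Sheaf.H.equiv₀ ((CohTop.push f.base).obj M) (isTerminalTop (α := Y.Opens)) x) :=
    funext fun x => by rw [← h, AddEquiv.symm_apply_apply]
  rw [h']
  exact (AddEquiv.bijective _).comp (AddEquiv.bijective _)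

variable [HasInjectiveResolutions X.Modules]

theorem isZero_rpush_ses {Δ : RDer.DerivedLES (Scheme.Modules.pushforward f)} (R : CycRes X) (q : ℕ)
    (h : IsZero ((Coh.Rpush f (q + 2)).obj (R.Z 0))) : IsZero ((Coh.Rpush f (q + 1)).obj (R.Z 1)) :=
  (Δ.exact₃ (R.ses 0) (R.shortExact 0) (q + 1) (q + 2) rfl).isZero_X₂
    (((Scheme.Modules.pushforward f).isZero_rightDerived_obj_injective_succ q (R.I 0)).eq_of_src _ _)
    (h.eq_of_tgt _ _)

theorem push_shortExact_ses {Δ : RDer.DerivedLES (Scheme.Modules.pushforward f)} (R : CycRes X)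
    (h : IsZero ((Coh.Rpush f 1).obj (R.Z 0))) :
    ((R.ses 0).map (Scheme.Modules.pushforward f)).ShortExact := by
  let P := Scheme.Modules.pushforward f
  let T := R.ses 0
  haveI : P.IsRightAdjoint := (Scheme.Modules.pullbackPushforwardAdjunction f).isRightAdjoint
  haveI : PreservesFiniteLimits P := inferInstance
  haveI : Epi ((P.rightDerived 0).map T.g) :=
    (Δ.exact₃ T (R.shortExact 0) 0 1 rfl).epi_f (h.eq_of_tgt _ _)
  haveI : Epi (T.map P).g := by
    let e₂ := asIso (P.toRightDerivedZero.app T.X₂)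
    let e₃ := asIso (P.toRightDerivedZero.app T.X₃)
    have h : (T.map P).g = (e₂.hom ≫ (P.rightDerived 0).map T.g) ≫ e₃.inv :=
      (Iso.eq_comp_inv e₃).2 (P.toRightDerivedZero.naturality T.g)
    rw [h]
    haveI : Epi (e₂.hom ≫ (P.rightDerived 0).map T.g) := epi_comp' (inferInstanceAs (Epi e₂.hom)) ‹_›
    exact epi_comp' this (inferInstanceAs (Epi e₃.inv))
  exact
    { exact := (((Functor.preservesFiniteLimits_iff_forall_exact_map_and_mono P).mp inferInstance) T
        (R.shortExact 0)).1
      mono_f := (((Functor.preservesFiniteLimits_iff_forall_exact_map_and_mono P).mp inferInstance) T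
        (R.shortExact 0)).2
      epi_g := inferInstance }

/-- Vanishing higher direct images make the edge map of abelian sheaves bijective. -/
theorem edgeAb_bijective (p : ℕ) : ∀ (G : X.Modules),
    (∀ q : ℕ, 0 < q → IsZero ((Coh.Rpush f q).obj G)) → Function.Bijective (edgeAb f (Coh.toAb G) p) := by
  induction p with
  | zero => exact fun G _ => edgeAb_zero_bijective f _
  | succ p ih =>
    intro G hG
    obtain ⟨R, ⟨i⟩⟩ := exists_cycRes G
    obtain ⟨Δ⟩ := RD97.nonempty_derivedLES (Scheme.Modules.pushforward f)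
    have hG' : ∀ q, 0 < q → IsZero ((Coh.Rpush f q).obj (R.Z 0)) := fun q hq =>
      (hG q hq).of_iso ((Coh.Rpush f q).mapIso i).symm
    have hQ : ∀ q, 0 < q → IsZero ((Coh.Rpush f q).obj (R.Z 1)) := fun q hq => by
      obtain ⟨m, rfl⟩ : ∃ m, q = m + 1 := ⟨q - 1, by omega⟩
      exact isZero_rpush_ses f (Δ := Δ) R m (hG' (m + 2) (by omega))
    refine edgeAb_bijective_congr f ((SheafOfModules.toSheaf X.ringCatSheaf).mapIso i) (p + 1) ?_
    have hP := push_shortExact_ses f (Δ := Δ) R (hG' 1 Nat.one_pos)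
    have hfl : TopCat.Sheaf.IsFlasque (Coh.toAb (R.I 0)) := isFlasque_of_injective (R.I 0)
    refine edgeAb_bijective_succ f ((R.shortExact 0).map_of_exact (QC70.abSheafFunctor X))
      (hP.map_of_exact (QC70.abSheafFunctor Y)) p (@TopCoh49.subsingleton_H_of_isFlasque X.toTopCat p _ hfl)
      (@TopCoh49.subsingleton_H_of_isFlasque Y.toTopCat p _
        (@TopCat.Sheaf.IsFlasque.pushforward_isFlasque _ _ _ _ (Coh.toAb (R.I 0)) hfl f.base)) ?_ (ih _ hQ)
    cases p with
    | zero => exact (edgeAb_zero_bijective f _).2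
    | succ q => exact fun y => ⟨0, (map_zero _).trans
        (@Subsingleton.elim _ (@TopCoh49.subsingleton_H_of_isFlasque X.toTopCat q _ hfl) _ _)⟩

/-- Vanishing higher direct images make the edge map bijective. -/
theorem pushEdge_bijective (p : ℕ) (G : X.Modules)
    (hG : ∀ q : ℕ, 0 < q → IsZero ((Coh.Rpush f q).obj G)) : Function.Bijective (CohPull.pushEdge f G p) := by
  rw [show ⇑(CohPull.pushEdge f G p) = edgeAb f (Coh.toAb G) p from funext (pushEdge_eq f G p)]
  exact edgeAb_bijective f p G hG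

end Groth.Agent.Mum71
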