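import Groth.Agent.Mum71.SectCmpBij

/-! Sections of higher direct images are locally classes, uniquely up to restriction. -/

set_option autoImplicit false
set_option maxSynthPendingDepth 6
set_option linter.style.haveILetI false
set_option backward.isDefEq.respectTransparency.types false

universe u

noncomputable section

open CategoryTheory CategoryTheory.Limits AlgebraicGeometry TopologicalSpace Opposite

namespace Groth.Agent.Mum71

open Coh69

variable {X Y : Scheme.{u}} (f : X ⟶ Y) [HasInjectiveResolutions X.Modules]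
  {Δ : RDer.DerivedLES (Scheme.Modules.pushforward f)} (E : CohCmp.SectCmp f Δ) (F : X.Modules)

/-- Sections of higher direct images are locally classes. -/
theorem exists_oeps_eq_res (p : ℕ) (V : Y.Opens) (t : Γ((Coh.Rpush f p).obj F, V)) (y : Y) (hy : y ∈ V) :
    ∃ (W : Y.Opens) (hWV : W ≤ V), y ∈ W ∧
      ∃ x : Coh.HHon X F (f ⁻¹ᵁ W) p, oeps f E W F p x = QC70.res ((Coh.Rpush f p).obj F) hWV t := by
  cases p with
  | zero =>
    obtain ⟨s, hs⟩ := (app_bijective (asIso ((Scheme.Modules.pushforward f).toRightDerivedZero.app F)) V).2 t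
    exact ⟨V, le_rfl, hy, osect F (f ⁻¹ᵁ V) s, ((oeps_zero f E V F s).trans hs).trans (QC70.res_self t).symm⟩
  | succ k =>
    obtain ⟨R, ⟨i⟩⟩ := exists_cycRes F
    obtain ⟨D, L, w, he, hepi, h1, h2, h3, h4, h5⟩ := exists_shift f E R k 0 k (Nat.zero_add k).symm
    haveI := hepi
    let j := (Coh.Rpush f (k + 1)).mapIso i
    obtain ⟨W, hWV, s, hyW, hs⟩ := QC70.exists_local_lift D (j.hom.app V t) hy
    obtain ⟨x, hx⟩ := (omap_bijective i (f ⁻¹ᵁ W) (k + 1)).2 (L W s)
    refine ⟨W, hWV, hyW, x, (app_bijective j W).1 ?_⟩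
    refine (oeps_natural f E W i.hom (k + 1) x).symm.trans ?_
    rw [hx, h1, hs]
    exact (QC70.app_res j.hom hWV t).symm

/-- Classes with zero section restrict to zero locally. -/
theorem exists_ores_eq_zero (p : ℕ) (V : Y.Opens) (x : Coh.HHon X F (f ⁻¹ᵁ V) p)
    (hx : oeps f E V F p x = 0) (y : Y) (hy : y ∈ V) :
    ∃ (W : Y.Opens) (hWV : W ≤ V), y ∈ W ∧ ores F (f.preimage_mono hWV) p x = 0 := by
  cases p with
  | zero =>
    refine ⟨V, le_rfl, hy, ?_⟩
    obtain ⟨s, rfl⟩ := (osect F (f ⁻¹ᵁ V)).surjective x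
    have hs : s = 0 := (app_bijective (asIso ((Scheme.Modules.pushforward f).toRightDerivedZero.app F)) V).1
      (((oeps_zero f E V F s).symm.trans hx).trans (map_zero _).symm)
    rw [hs, map_zero, map_zero]
  | succ k =>
    obtain ⟨R, ⟨i⟩⟩ := exists_cycRes F
    obtain ⟨D, L, w, he, hepi, h1, h2, h3, h4, h5⟩ := exists_shift f E R k 0 k (Nat.zero_add k).symm
    obtain ⟨s, hs⟩ := h2 V (omap (f ⁻¹ᵁ V) i.hom (k + 1) x)
    have hDs : D.app V s = 0 := by
      rw [← h1, hs, oeps_natural, hx, map_zero]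
    obtain ⟨z, hz⟩ := QC70.exists_kernel_app_eq D V s hDs
    haveI : Epi (kernel.lift D ((Scheme.Modules.pushforward f).map (R.π k)) w) := he.epi_kernelLift
    obtain ⟨W, hWV, t, hyW, ht⟩ := QC70.exists_local_lift (kernel.lift D _ w) z hy
    refine ⟨W, hWV, hyW, (omap_bijective i (f ⁻¹ᵁ W) (k + 1)).1 ?_⟩
    rw [← ores_natural i.hom, ← hs, h5, map_zero]
    have h6 : QC70.res (R.Z (k + 1)) (f.preimage_mono hWV) s = (R.π k).app (f ⁻¹ᵁ W) t := by
      have h7 : ((Scheme.Modules.pushforward f).map (R.π k)).app W t =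
          QC70.res ((Scheme.Modules.pushforward f).obj (R.Z (k + 1))) hWV ((kernel.ι D).app V z) := by
        rw [← QC70.app_res, ← ht]
        exact (congr(Scheme.Modules.Hom.app $(kernel.lift_ι D _ w) W t)).symm
      exact (h7.trans (congrArg (QC70.res ((Scheme.Modules.pushforward f).obj (R.Z (k + 1))) hWV) hz)).symm
    rw [h6]
    exact h3 W t

end Groth.Agent.Mum71
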