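import Groth.Agent.Fit14.Local
import Groth.Agent.Mum71.Split
import Mathlib.RingTheory.LocalProperties.Projective
import Mathlib.RingTheory.LocalProperties.Basic
import Mathlib.RingTheory.Spectrum.Prime.FreeLocus
import Mathlib.LinearAlgebra.TensorProduct.RightExactness

/-!
Linear algebra for the strata of constant rank of the zeroth homology of three-term complexes: the module
`(coker e) × (coker d)` is locally free of rank `n + r` exactly when `e` splits and the homology is locally
free of rank `r`, `n` being the rank of the target of `e`.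
-/

set_option autoImplicit false
set_option backward.isDefEq.respectTransparency.types false
set_option linter.style.haveILetI false
set_option linter.unusedSectionVars false

universe u

open TensorProduct

noncomputable section

namespace Groth.Agent.Mum71.StratAlg

open Split

variable {A : Type u} [CommRing A]

/-- Locally free of rank `m`, through Fitting ideals. -/
def LFR (M : Type u) [AddCommGroup M] [Module A M] (m : ℕ) : Prop :=
  (∀ k, k < m → Fitt.ideal A M k = ⊥) ∧ ∀ k, m ≤ k → Fitt.ideal A M k = ⊤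

theorem lfr_iff (M : Type u) [AddCommGroup M] [Module A M] [Module.FinitePresentation A M] (m : ℕ) :
    LFR (A := A) M m ↔ Module.Projective A M ∧ ∀ p, Module.rankAtStalk (R := A) M p = m := by
  constructor
  · rintro ⟨h1, h2⟩
    have key : ∀ (p : Ideal A) [p.IsPrime],
        Nonempty (Module.Basis (Fin m) (Localization.AtPrime p) (LocalizedModule p.primeCompl M)) := by
      intro p _
      obtain ⟨g, hg⟩ := (Fit14.exists_gens_atPrime_iff p m).2
        (by rw [h2 m le_rfl]; exact fun h => Ideal.IsPrime.ne_top' (top_le_iff.1 h))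
      exact Fit14.free_of_gens_of_ideal_eq_bot g hg fun k hk =>
        (Fit14.ideal_localizedModule p.primeCompl k).trans (by rw [h1 k hk, Ideal.map_bot])
    refine ⟨Module.projective_of_localization_maximal fun p _ => ?_, fun p => ?_⟩
    · obtain ⟨b⟩ := key p
      haveI := Module.Free.of_basis b
      infer_instance
    · obtain ⟨b⟩ := key p.asIdeal
      exact (Module.finrank_eq_card_basis b).trans (Fintype.card_fin m)
  · rintro ⟨hp, hr⟩
    haveI := hp
    have key : ∀ (p : Ideal A) [p.IsPrime] (k : ℕ),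
        (Fitt.ideal A M k).map (algebraMap A (Localization.AtPrime p)) = if m ≤ k then ⊤ else ⊥ := by
      intro p _ k
      haveI : Module.Finite (Localization.AtPrime p) (LocalizedModule p.primeCompl M) :=
        Module.Finite.of_isLocalizedModule p.primeCompl (LocalizedModule.mkLinearMap p.primeCompl M)
      haveI : Module.Free (Localization.AtPrime p) (LocalizedModule p.primeCompl M) :=
        Module.free_of_flat_of_isLocalRing
      rw [← Fit14.ideal_localizedModule, Fit14.ideal_of_free,
        show Module.finrank (Localization.AtPrime p) (LocalizedModule p.primeCompl M) = m from hr ⟨p, inferInstance⟩]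
    refine ⟨fun k hk => ideal_eq_bot_of_localization' _ fun J _ => ?_, fun k hk => ?_⟩
    · rw [key J k, if_neg (by omega)]
    · by_contra hne
      obtain ⟨J, hJ, hle⟩ := Ideal.exists_le_maximal _ hne
      have h0 := key J k
      rw [if_pos hk, ← not_ne_iff, IsLocalization.map_algebraMap_ne_top_iff_disjoint J.primeCompl] at h0
      exact h0 (Set.disjoint_left.2 fun x hx hx' => hx (hle hx'))

theorem lfr_congr {M N : Type u} [AddCommGroup M] [Module A M] [AddCommGroup N] [Module A N]
    [Module.Finite A M] (φ : M ≃ₗ[A] N) (m : ℕ) : LFR (A := A) M m ↔ LFR (A := A) N m := by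
  simp only [LFR, Fit14.ideal_congr φ]

theorem lfr_baseChange_iff (B : Type u) [CommRing B] [Algebra A B] (M : Type u) [AddCommGroup M] [Module A M]
    [Module.Finite A M] (m : ℕ) :
    LFR (A := B) (B ⊗[A] M) m ↔
      (∀ k, k < m → Fitt.ideal A M k ≤ RingHom.ker (algebraMap A B)) ∧
        (Fitt.ideal A M m).map (algebraMap A B) = ⊤ := by
  simp only [LFR, Fit14.ideal_baseChange, Ideal.map_eq_bot_iff_le_ker]
  exact ⟨fun h => ⟨h.1, h.2 m le_rfl⟩, fun h => ⟨h.1, fun k hk =>
    top_le_iff.1 (h.2.symm.le.trans (Ideal.map_mono (Fit14.ideal_mono hk)))⟩⟩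

section Complex

variable {P₀ P Q : Type u} [AddCommGroup P₀] [Module A P₀] [AddCommGroup P] [Module A P]
  [AddCommGroup Q] [Module A Q] (d : P₀ →ₗ[A] P) (e : P →ₗ[A] Q)

/-- The module whose Fitting ideals cut out the strata. -/
abbrev Eobj : Type u := (Q ⧸ LinearMap.range e) × (P ⧸ LinearMap.range d)

/-- The scalars at which a map splits form an ideal. -/
def splitIdeal : Ideal A where
  carrier := {a | SplitsAt e a}
  add_mem' := by
    rintro a b ⟨s, hs⟩ ⟨t, ht⟩
    exact ⟨s + t, by rw [LinearMap.add_comp, LinearMap.comp_add, hs, ht, add_smul]⟩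
  zero_mem' := ⟨0, by simp⟩
  smul_mem' := fun c _ ha => ha.mul c

theorem splitsAt_one_of_forall (h : ∀ p : PrimeSpectrum A, ∃ a, a ∉ p.asIdeal ∧ SplitsAt e a) :
    SplitsAt e 1 := by
  suffices ht : splitIdeal e = ⊤ from (Ideal.eq_top_iff_one _).1 ht
  by_contra hne
  obtain ⟨J, hJ, hle⟩ := Ideal.exists_le_maximal _ hne
  obtain ⟨a, ha, hs⟩ := h ⟨J, hJ.isPrime⟩
  exact ha (hle hs)

theorem splitsAt_one_of_projective [Module.Projective A Q] [Module.Projective A (Q ⧸ LinearMap.range e)] :
    SplitsAt e 1 := by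
  obtain ⟨σ, hσ⟩ := Module.projective_lifting_property (LinearMap.range e).mkQ LinearMap.id
    (Submodule.mkQ_surjective _)
  let π : Q →ₗ[A] LinearMap.range e :=
    (LinearMap.id - σ ∘ₗ (LinearMap.range e).mkQ).codRestrict _ fun x => by
      rw [← Submodule.Quotient.mk_eq_zero]
      show (LinearMap.range e).mkQ (x - σ ((LinearMap.range e).mkQ x)) = 0
      rw [map_sub, show (LinearMap.range e).mkQ (σ ((LinearMap.range e).mkQ x)) = (LinearMap.range e).mkQ x from
        LinearMap.congr_fun hσ _, sub_self]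
  obtain ⟨s, hs⟩ := Module.projective_lifting_property e.rangeRestrict π e.surjective_rangeRestrict
  refine ⟨s, LinearMap.ext fun x => ?_⟩
  have h := congrArg Subtype.val (LinearMap.congr_fun hs (e x))
  have h0 : (LinearMap.range e).mkQ (e x) = 0 :=
    (Submodule.Quotient.mk_eq_zero _).2 (LinearMap.mem_range_self e x)
  show e (s (e x)) = (1 : A) • e x
  rw [one_smul]
  refine h.trans ?_
  show e x - σ ((LinearMap.range e).mkQ (e x)) = e x
  rw [h0, map_zero, sub_zero]

variable {d e}

/-- Where `e` splits the module is the homology plus the target. -/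
theorem exists_equiv (hde : e ∘ₗ d = 0) (he : SplitsAt e 1) : Nonempty (Eobj d e ≃ₗ[A] Hom0 d e × Q) := by
  obtain ⟨s, hs⟩ := he
  have hs' : ∀ x, e (s (e x)) = e x := fun x => by
    have h := LinearMap.congr_fun hs x
    simpa using h
  have hd : ∀ x, e (d x) = 0 := fun x => LinearMap.congr_fun hde x
  let π : P →ₗ[A] LinearMap.ker e :=
    (LinearMap.id - s ∘ₗ e).codRestrict _ fun x => by simp [hs']
  let φH : P ⧸ LinearMap.range d →ₗ[A] Hom0 d e :=
    Submodule.liftQ _ ((Submodule.mkQ _) ∘ₗ π) (by
      rintro _ ⟨w, rfl⟩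
      show Submodule.Quotient.mk (π (d w)) = 0
      rw [Submodule.Quotient.mk_eq_zero]
      show (π (d w)).1 ∈ LinearMap.range d
      exact ⟨w, by simp [π, hd]⟩)
  let φQ₁ : Q ⧸ LinearMap.range e →ₗ[A] Q :=
    Submodule.liftQ _ (LinearMap.id - e ∘ₗ s) (by
      rintro _ ⟨w, rfl⟩
      simp [hs'])
  let φQ₂ : P ⧸ LinearMap.range d →ₗ[A] Q :=
    Submodule.liftQ _ e (by
      rintro _ ⟨w, rfl⟩
      exact hd w)
  let φ : Eobj d e →ₗ[A] Hom0 d e × Q :=
    (φH ∘ₗ LinearMap.snd _ _ _).prod (φQ₁ ∘ₗ LinearMap.fst _ _ _ + φQ₂ ∘ₗ LinearMap.snd _ _ _)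
  let ψH : Hom0 d e →ₗ[A] P ⧸ LinearMap.range d :=
    Submodule.liftQ _ ((Submodule.mkQ _) ∘ₗ (LinearMap.ker e).subtype) (by
      intro x hx
      exact (Submodule.Quotient.mk_eq_zero _).2 hx)
  let ψ : Hom0 d e × Q →ₗ[A] Eobj d e :=
    ((Submodule.mkQ _) ∘ₗ LinearMap.snd _ _ _).prod
      (ψH ∘ₗ LinearMap.fst _ _ _ + (Submodule.mkQ _) ∘ₗ s ∘ₗ e ∘ₗ s ∘ₗ LinearMap.snd _ _ _)
  refine ⟨LinearEquiv.ofLinear φ ψ (LinearMap.ext ?_) (LinearMap.ext ?_)⟩
  · rintro ⟨h, z⟩
    obtain ⟨h, rfl⟩ := Submodule.mkQ_surjective _ h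
    have hh : e h.1 = 0 := h.2
    refine Prod.ext ?_ ?_
    · show Submodule.Quotient.mk (π (h.1 + s (e (s z)))) = Submodule.Quotient.mk h
      congr 1
      exact Subtype.ext (by simp [π, hs', hh])
    · show (z - e (s z)) + e (h.1 + s (e (s z))) = z
      simp [hs', hh]
  · rintro ⟨y, x⟩
    obtain ⟨y, rfl⟩ := Submodule.mkQ_surjective _ y
    obtain ⟨x, rfl⟩ := Submodule.mkQ_surjective _ x
    refine Prod.ext ?_ ?_
    · show Submodule.Quotient.mk ((y - e (s y)) + e x) = Submodule.Quotient.mk y
      rw [Submodule.Quotient.eq]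
      exact ⟨x - s y, by simp [map_sub]; abel⟩
    · show Submodule.Quotient.mk (p := LinearMap.range d) (x - s (e x)) +
          Submodule.Quotient.mk (p := LinearMap.range d) (s (e (s ((y - e (s y)) + e x)))) =
        Submodule.Quotient.mk (p := LinearMap.range d) x
      rw [← Submodule.Quotient.mk_add]
      congr 1
      simp [map_sub, hs']

variable (hde : e ∘ₗ d = 0) [Module.Finite A Q] [Module.Free A Q] [Module.Finite A P] [Module.Free A P]
  [Module.Finite A P₀]

instance finitePresentation_Eobj : Module.FinitePresentation A (Eobj d e) := by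
  have h : ∀ {M N : Type u} [AddCommGroup M] [Module A M] [AddCommGroup N] [Module A N] [Module.Finite A M]
      [Module.FinitePresentation A N] (g : M →ₗ[A] N), Module.FinitePresentation A (N ⧸ LinearMap.range g) :=
    fun {M N} _ _ _ _ _ _ g => Module.finitePresentation_of_surjective _ (Submodule.mkQ_surjective _) (by
      rw [Submodule.ker_mkQ, LinearMap.range_eq_map]
      exact Module.Finite.fg_top.map _)
  haveI : Module.FinitePresentation A Q := Module.finitePresentation_of_projective A Q
  haveI : Module.FinitePresentation A P := Module.finitePresentation_of_projective A P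
  haveI := h e
  haveI := h d
  exact Module.FinitePresentation.prod _ _

include hde in
theorem lfr_Eobj_iff (hd : SplitsAt d 1) (r : ℕ) :
    LFR (A := A) (Eobj d e) (Module.finrank A Q + r) ↔
      SplitsAt e 1 ∧ ∀ p, Module.rankAtStalk (R := A) (Hom0 d e) p = r := by
  have hH : SplitsAt e 1 → Module.Projective A (Hom0 d e) ∧ Module.Finite A (Hom0 d e) := fun he => by
    obtain ⟨h1, h2⟩ := projective_of_splitsAt hde A he hd (by simp)
    exact ⟨Module.Projective.of_equiv' (TensorProduct.lid A (Hom0 d e)),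
      Module.Finite.equiv (TensorProduct.lid A (Hom0 d e))⟩
  have hsum : SplitsAt e 1 → ∀ p, Module.rankAtStalk (R := A) (Eobj d e) p =
      Module.rankAtStalk (R := A) (Hom0 d e) p + Module.finrank A Q := fun he p => by
    obtain ⟨φ⟩ := exists_equiv hde he
    haveI := (hH he).1
    haveI := (hH he).2
    rw [Module.rankAtStalk_eq_of_equiv φ, Module.rankAtStalk_prod, Module.rankAtStalk_eq_finrank_of_free (M := Q)]
    rfl
  rw [lfr_iff]
  constructor
  · rintro ⟨hp, hr⟩
    haveI := hp
    haveI : Module.Projective A (Q ⧸ LinearMap.range e) :=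
      Module.Projective.of_split (LinearMap.inl A (Q ⧸ LinearMap.range e) (P ⧸ LinearMap.range d))
        (LinearMap.fst A _ _) (LinearMap.fst_comp_inl A _ _)
    have he := splitsAt_one_of_projective e
    refine ⟨he, fun p => ?_⟩
    have := hr p
    have := hsum he p
    omega
  · rintro ⟨he, hr⟩
    obtain ⟨φ⟩ := exists_equiv hde he
    haveI := (hH he).1
    refine ⟨Module.Projective.of_equiv' φ.symm, fun p => ?_⟩
    rw [hsum he p, hr p, add_comm]

theorem finrank_residue_Eobj (K : Type u) [Field K] [Algebra A K] :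
    Module.finrank K (K ⊗[A] Eobj d e) + rk K e + rk K d = Module.finrank A Q + Module.finrank A P := by
  have hq : ∀ {M N : Type u} [AddCommGroup M] [Module A M] [AddCommGroup N] [Module A N] [Module.Finite A N]
      [Module.Free A N] (g : M →ₗ[A] N),
      Module.finrank K (K ⊗[A] (N ⧸ LinearMap.range g)) + rk K g = Module.finrank A N := by
    intro M N _ _ _ _ _ _ g
    haveI : Nontrivial A := (algebraMap A K).domain_nontrivial
    let φ := (LinearMap.range g).mkQ.baseChange K
    have h1 : Function.Exact (g.baseChange K) φ :=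
      lTensor_exact K (LinearMap.exact_map_mkQ_range g) (Submodule.mkQ_surjective _)
    have hs : Function.Surjective φ := LinearMap.lTensor_surjective K (Submodule.mkQ_surjective _)
    have h2 := φ.finrank_range_add_finrank_ker
    rw [LinearMap.range_eq_top.2 hs, finrank_top, LinearMap.exact_iff.1 h1] at h2
    exact h2.trans Module.finrank_baseChange
  rw [(TensorProduct.prodRight A K K (Q ⧸ LinearMap.range e) (P ⧸ LinearMap.range d)).finrank_eq, Module.finrank_prod]
  have := hq e
  have := hq d
  omega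

end Complex

section BaseChange

variable {P₀ P Q : Type u} [AddCommGroup P₀] [Module A P₀] [AddCommGroup P] [Module A P]
  [AddCommGroup Q] [Module A Q] (d : P₀ →ₗ[A] P) (e : P →ₗ[A] Q) (B : Type u) [CommRing B] [Algebra A B]
  {P₀' P' Q' : Type u} [AddCommGroup P₀'] [Module B P₀'] [AddCommGroup P'] [Module B P']
  [AddCommGroup Q'] [Module B Q'] (d' : P₀' →ₗ[B] P') (e' : P' →ₗ[B] Q')
  (φ₀ : P₀' ≃ₗ[B] B ⊗[A] P₀) (φ : P' ≃ₗ[B] B ⊗[A] P) (ψ : Q' ≃ₗ[B] B ⊗[A] Q)

include φ₀ φ ψ in
/-- The module of a base change. -/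
theorem exists_Eobj_baseChange (hd : ∀ x, φ (d' x) = d.baseChange B (φ₀ x))
    (he : ∀ x, ψ (e' x) = e.baseChange B (φ x)) :
    Nonempty (Eobj d' e' ≃ₗ[B] B ⊗[A] Eobj d e) := by
  have key : ∀ {M N : Type u} [AddCommGroup M] [Module A M] [AddCommGroup N] [Module A N] (g : M →ₗ[A] N)
      {M' N' : Type u} [AddCommGroup M'] [Module B M'] [AddCommGroup N'] [Module B N'] (g' : M' →ₗ[B] N')
      (α : M' ≃ₗ[B] B ⊗[A] M) (β : N' ≃ₗ[B] B ⊗[A] N), (∀ x, β (g' x) = g.baseChange B (α x)) →
      Nonempty ((N' ⧸ LinearMap.range g') ≃ₗ[B] B ⊗[A] (N ⧸ LinearMap.range g)) := by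
    intro M N _ _ _ _ g M' N' _ _ _ _ g' α β h
    let π := (LinearMap.range g).mkQ.baseChange B ∘ₗ β.toLinearMap
    have h1 : Function.Exact (g.baseChange B) ((LinearMap.range g).mkQ.baseChange B) :=
      lTensor_exact B (LinearMap.exact_map_mkQ_range g) (Submodule.mkQ_surjective _)
    have hπ : Function.Surjective π :=
      (LinearMap.lTensor_surjective B (Submodule.mkQ_surjective _)).comp β.surjective
    refine ⟨(Submodule.quotEquivOfEq _ (LinearMap.ker π) ?_).trans (π.quotKerEquivOfSurjective hπ)⟩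
    ext y
    show _ ↔ (LinearMap.range g).mkQ.baseChange B (β y) = 0
    rw [h1 (β y)]
    constructor
    · rintro ⟨x, rfl⟩
      exact ⟨α x, (h x).symm⟩
    · rintro ⟨x, hx⟩
      exact ⟨α.symm x, β.injective (by rw [h, α.apply_symm_apply, hx])⟩
  obtain ⟨a⟩ := key e e' φ ψ he
  obtain ⟨b⟩ := key d d' φ₀ φ hd
  exact ⟨(a.prodCongr b).trans (TensorProduct.prodRight A B B _ _).symm⟩

end BaseChange

end Groth.Agent.Mum71.StratAlg
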