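import Groth.Agent.Mum71.ModelBC
import Groth.Agent.Mum71.BcZero
import Groth.Agent.Mum71.BcRank
import Groth.Agent.Mum71.StratAlg
import Groth.Agent.LimTop61.ModDescent

/-! The stratum where the direct image is locally free of given rank and commutes with base change. -/

set_option autoImplicit false
set_option maxSynthPendingDepth 6
set_option synthInstance.maxHeartbeats 200000
set_option linter.style.haveILetI false
set_option linter.unusedSectionVars false
set_option backward.isDefEq.respectTransparency.types false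

universe u

noncomputable section

open CategoryTheory CategoryTheory.Limits AlgebraicGeometry TopologicalSpace Opposite TensorProduct

namespace Groth.Agent.Mum71.Strat

open Split (SplitsAt)
open StratAlg (LFR Eobj)

variable {X S : Scheme.{u}}

/-- Locally free direct image of rank `r`, commuting with base change. -/
def CondR (f : X ⟶ S) (F : X.Modules) (r : ℕ) : Prop :=
  FlatMod.IsFinLocFreeOfRank r ((Scheme.Modules.pushforward f).obj F) ∧
    ∀ ⦃X'' S' : Scheme.{u}⦄ (v' : X'' ⟶ X) (f'' : X'' ⟶ S') (u' : S' ⟶ S) (h : IsPullback v' f'' f u'),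
      IsIso (CohBC.bc0 f u' f'' v' h.w F)

section OneModel

variable {f : X ⟶ S} {F : X.Modules} {V : S.Opens} (hV : IsAffineOpen V) (M : CohModel f F V)

/-- The differential out of degree zero. -/
abbrev dOut : M.K.X ((0 : ℕ) : ℤ) →ₗ[Γ(S, V)] M.K.X (((0 : ℕ) : ℤ) + 1) :=
  (M.K.d ((0 : ℕ) : ℤ) (((0 : ℕ) : ℤ) + 1)).hom

/-- The differential into degree zero. -/
abbrev dIn : M.K.X (((0 : ℕ) : ℤ) - 1) →ₗ[Γ(S, V)] M.K.X ((0 : ℕ) : ℤ) :=
  (M.K.d (((0 : ℕ) : ℤ) - 1) ((0 : ℕ) : ℤ)).hom

/-- The module cutting out the strata. -/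
abbrev stratMod : Type u := Eobj (dIn M) (dOut M)

/-- The rank of the target. -/
abbrev nOne : ℕ := Module.finrank Γ(S, V) (M.K.X (((0 : ℕ) : ℤ) + 1))

instance finitePresentation_stratMod : Module.FinitePresentation Γ(S, V) (stratMod M) :=
  haveI := M.finite
  haveI := M.free
  StratAlg.finitePresentation_Eobj

include hV in
theorem primeIdealOf_fromSpec (p : PrimeSpectrum Γ(S, V)) (h : hV.fromSpec p ∈ V) :
    hV.primeIdealOf ⟨hV.fromSpec p, h⟩ = p :=
  hV.fromSpec.isOpenEmbedding.injective (hV.fromSpec_primeIdealOf ⟨_, h⟩)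

include hV in
theorem mem_of_prime (p : PrimeSpectrum Γ(S, V)) : hV.fromSpec p ∈ V :=
  hV.range_fromSpec.subset ⟨p, rfl⟩

include hV in
theorem splitsAt_one_in : SplitsAt (dIn M) 1 := by
  refine StratAlg.splitsAt_one_of_forall _ fun p => ?_
  obtain ⟨a, ha, hs⟩ := exists_splitsAt_neg_one M (mem_of_prime hV p)
  refine ⟨a, ?_, splitsAt_d_congr M (by omega) (by omega) hs⟩
  have h := (QC70.mem_basicOpen_iff_primeCompl hV (mem_of_prime hV p) a).1 ha
  rwa [primeIdealOf_fromSpec hV p] at h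

/-- Sections of the direct image are the homology. -/
theorem nonempty_sections_equiv :
    Nonempty (Split.Hom0 (dIn M) (dOut M) ≃ₗ[Γ(S, V)] Γ((Scheme.Modules.pushforward f).obj F, V)) :=
  ⟨(Submodule.quotEquivOfEq _ (LinearMap.ker (secZero M)) (by
    ext z
    exact (secZero_eq_zero_iff M z).symm)).trans
      ((secZero M).quotKerEquivOfSurjective (secZero_surjective M))⟩

theorem rankAtStalk_eq_fib {A : Type u} [CommRing A] (H : Type u) [AddCommGroup H] [Module A H]
    [Module.Finite A H] [Module.Projective A H] (p : PrimeSpectrum A) :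
    Module.rankAtStalk (R := A) H p = FCx40.fib H p := by
  let q : PrimeSpectrum p.asIdeal.ResidueField := ⟨⊥, Ideal.isPrime_bot⟩
  have hq : q.comap (algebraMap A p.asIdeal.ResidueField) = p := by
    refine PrimeSpectrum.ext ?_
    exact p.asIdeal.ker_algebraMap_residueField
  have h := Module.rankAtStalk_baseChange (R := A) (M := H) (S := p.asIdeal.ResidueField) q
  rw [Module.rankAtStalk_eq_finrank_of_free, hq] at h
  exact h.symm

variable [F.IsQuasicoherent] [QuasiCompact f] [QuasiSeparated f]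

include hV in
theorem lfr_of_condR {r : ℕ} (h : CondR f F r) : LFR (A := Γ(S, V)) (stratMod M) (nOne M + r) := by
  haveI := M.finite
  haveI := M.free
  haveI := QCqs72.isQuasicoherent_pushforward F f
  have hde : dOut M ∘ₗ dIn M = 0 := d_comp M _ _ _
  have hd := splitsAt_one_in hV M
  have he : SplitsAt (dOut M) 1 := by
    refine StratAlg.splitsAt_one_of_forall _ fun p => ?_
    let t := hV.fromSpec p
    have hiso := h.2 (f.fiberι t) (f.fiberToSpecResidueField t) (S.fromSpecResidueField t)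
      (IsPullback.of_hasPullback _ _)
    obtain ⟨a, ha, hs⟩ := exists_splitsAt_of_epi_bc0 hV M (mem_of_prime hV p)
      (inferInstance : Epi (CohBC.bc0 f (S.fromSpecResidueField t) (f.fiberToSpecResidueField t) (f.fiberι t)
        (f.fiber_fac t) F))
    refine ⟨a, ?_, hs⟩
    have h := (QC70.mem_basicOpen_iff_primeCompl hV (mem_of_prime hV p) a).1 ha
    rwa [primeIdealOf_fromSpec hV p] at h
  refine (StratAlg.lfr_Eobj_iff hde hd r).2 ⟨he, fun p => ?_⟩
  obtain ⟨hp, hf⟩ := Split.projective_of_splitsAt hde Γ(S, V) he hd (by simp)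
  haveI : Module.Projective Γ(S, V) (Split.Hom0 (dIn M) (dOut M)) :=
    Module.Projective.of_equiv' (TensorProduct.lid _ _)
  haveI : Module.Finite Γ(S, V) (Split.Hom0 (dIn M) (dOut M)) := Module.Finite.equiv (TensorProduct.lid _ _)
  obtain ⟨φ⟩ := nonempty_sections_equiv M
  haveI : Module.Projective Γ(S, V) Γ((Scheme.Modules.pushforward f).obj F, V) := Module.Projective.of_equiv' φ
  haveI : Module.Finite Γ(S, V) Γ((Scheme.Modules.pushforward f).obj F, V) := Module.Finite.equiv φ
  rw [rankAtStalk_eq_fib, FCx40.fib_congr φ]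
  obtain ⟨U, htU, ⟨e₁⟩⟩ := exists_free_nhd hV ((Scheme.Modules.pushforward f).obj F) (mem_of_prime hV p)
  obtain ⟨U', htU', ⟨e₂⟩⟩ := h.1 (hV.fromSpec p)
  obtain ⟨s₁, hs₁⟩ := Props58.LocFree.exists_stalkBasis_of_iso e₁
  obtain ⟨s₂, hs₂⟩ := Props58.LocFree.exists_stalkBasis_of_iso e₂
  have := (hs₁.fiberRank_eq _ htU).symm.trans (hs₂.fiberRank_eq _ htU')
  rwa [primeIdealOf_fromSpec hV p] at this

include hV in
theorem local_of_lfr {r : ℕ} (h : LFR (A := Γ(S, V)) (stratMod M) (nOne M + r)) {t : S} (ht : t ∈ V) :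
    (∃ U : S.Opens, t ∈ U ∧
      Nonempty (((Scheme.Modules.pushforward f).obj F).restrict U.ι ≅ FlatMod.freeMod (↑U : Scheme.{u}) r)) ∧
      Good f F ((0 : ℕ) : ℤ) t := by
  haveI := M.finite
  haveI := M.free
  haveI := QCqs72.isQuasicoherent_pushforward F f
  have hde : dOut M ∘ₗ dIn M = 0 := d_comp M _ _ _
  have hd := splitsAt_one_in hV M
  obtain ⟨he, hr⟩ := (StratAlg.lfr_Eobj_iff hde hd r).1 h
  refine ⟨?_, good_of_splitsAt hV M (a := 1) (by rw [Scheme.basicOpen_of_isUnit _ isUnit_one]; exact ht) he⟩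
  obtain ⟨hp, hf⟩ := Split.projective_of_splitsAt hde Γ(S, V) he hd (by simp)
  haveI : Module.Projective Γ(S, V) (Split.Hom0 (dIn M) (dOut M)) :=
    Module.Projective.of_equiv' (TensorProduct.lid _ _)
  haveI : Module.Finite Γ(S, V) (Split.Hom0 (dIn M) (dOut M)) := Module.Finite.equiv (TensorProduct.lid _ _)
  obtain ⟨φ⟩ := nonempty_sections_equiv M
  haveI : Module.Projective Γ(S, V) Γ((Scheme.Modules.pushforward f).obj F, V) := Module.Projective.of_equiv' φ
  haveI : Module.Finite Γ(S, V) Γ((Scheme.Modules.pushforward f).obj F, V) := Module.Finite.equiv φ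
  obtain ⟨U, htU, he₁⟩ := exists_free_nhd hV ((Scheme.Modules.pushforward f).obj F) ht
  refine ⟨U, htU, ?_⟩
  rwa [← FCx40.fib_congr φ, ← rankAtStalk_eq_fib, hr] at he₁

include hV in
theorem fib_stratMod {s : S} (hs : s ∈ V) :
    FCx40.fib (stratMod M) (hV.primeIdealOf ⟨s, hs⟩) = nOne M + CohIII.fiberRank f F 0 s := by
  haveI := M.finite
  haveI := M.free
  have h1 := StratAlg.finrank_residue_Eobj (d := dIn M) (e := dOut M) (hV.primeIdealOf ⟨s, hs⟩).asIdeal.ResidueField
  have h2 := fiberRank_add M 0 hs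
  rw [rkAt_eq_rk M hV _ _ hs, rkAt_eq_rk M hV _ _ hs] at h2
  show Module.finrank _ _ = _
  simp only [nOne, dIn, dOut, stratMod] at h1 ⊢
  omega

end OneModel

section Charts

variable (f : X ⟶ S) [IsProper f] [LocallyOfFinitePresentation f] (F : X.Modules) [F.IsQuasicoherent]
  (hfp : CohB1.IsFP F) (hfl : FlatMod.IsFlatOver f F) (r : ℕ) (V : S.affineOpens)

/-- The chosen model. -/
def chart : CohModel f F V.1 := (exists_cohModel_bc hfp hfl V.2).choose

/-- The rank tested. -/
def chartRank : ℕ := nOne (chart f F hfp hfl V) + r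

/-- The ideal of the stratum. -/
def chartI : Ideal Γ(S, V.1) :=
  ⨆ k : Fin (chartRank f F hfp hfl r V), Fitt.ideal Γ(S, V.1) (stratMod (chart f F hfp hfl V)) k

/-- The ideal of the complement. -/
def chartG : Ideal Γ(S, V.1) :=
  Fitt.ideal Γ(S, V.1) (stratMod (chart f F hfp hfl V)) (chartRank f F hfp hfl r V)

theorem chartI_fg : (chartI f F hfp hfl r V).FG :=
  Submodule.fg_iSup _ fun _ => Fit14.fg_of_finitePresentation _

theorem chartG_fg : (chartG f F hfp hfl r V).FG := Fit14.fg_of_finitePresentation _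

/-- The condition on a base change. -/
def CondT {T : Scheme.{u}} (u : T ⟶ S) : Prop :=
  CondR (pullback.snd f u) ((Scheme.Modules.pullback (pullback.fst f u)).obj F) r

include hfl in
omit hfp in
theorem flat_bc {X' T : Scheme.{u}} {g' : X' ⟶ X} {f' : X' ⟶ T} {u : T ⟶ S} (h : IsPullback g' f' f u) :
    FlatMod.IsFlatOver f' ((Scheme.Modules.pullback g').obj F) := fun x =>
  FlatMor66.isFlatOverAt_baseChange h F inferInstance x (hfl _)

theorem map_test_iff {T : Scheme.{u}} {u : T ⟶ S} {V' : T.Opens} (hV' : IsAffineOpen V') (e : V' ≤ u ⁻¹ᵁ V.1) :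
    ∃ M' : CohModel (pullback.snd f u) ((Scheme.Modules.pullback (pullback.fst f u)).obj F) V',
      LFR (A := Γ(T, V')) (stratMod M') (nOne M' + r) ↔
        chartI f F hfp hfl r V ≤ RingHom.ker (u.appLE V.1 V' e).hom ∧
          (chartG f F hfp hfl r V).map (u.appLE V.1 V' e).hom = ⊤ := by
  letI := (u.appLE V.1 V' e).hom.toAlgebra
  let M := chart f F hfp hfl V
  obtain ⟨M', φ, hφ⟩ := (exists_cohModel_bc hfp hfl V.2).choose_spec (pullback.fst f u) (pullback.snd f u) u
    (IsPullback.of_hasPullback _ _) V' hV' e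
  refine ⟨M', ?_⟩
  haveI := M'.finite
  haveI := M'.free
  haveI := M.finite
  haveI := M.free
  obtain ⟨ε⟩ := StratAlg.exists_Eobj_baseChange (dIn M) (dOut M) Γ(T, V') (dIn M') (dOut M') (φ _) (φ _) (φ _)
    (fun x => hφ _ _ x) (fun x => hφ _ _ x)
  rcases subsingleton_or_nontrivial Γ(T, V') with hB | hB
  · have h0 : ∀ I J : Ideal Γ(T, V'), I = J := fun I J => Subsingleton.elim _ _
    exact iff_of_true ⟨fun _ _ => h0 _ _, fun _ _ => h0 _ _⟩
      ⟨fun x _ => Subsingleton.elim _ _, h0 _ _⟩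
  · haveI : Nontrivial Γ(S, V.1) := (algebraMap Γ(S, V.1) Γ(T, V')).domain_nontrivial
    have hn : nOne M' = nOne M :=
      ((φ (((0 : ℕ) : ℤ) + 1)).finrank_eq).trans Module.finrank_baseChange
    rw [hn, StratAlg.lfr_congr ε, StratAlg.lfr_baseChange_iff]
    refine and_congr ⟨fun h => iSup_le fun k => h k k.2, fun h k hk => le_trans ?_ h⟩ Iff.rfl
    exact le_iSup (fun k : Fin (chartRank f F hfp hfl r V) =>
      Fitt.ideal Γ(S, V.1) (stratMod (chart f F hfp hfl V)) k) ⟨k, hk⟩

theorem condT_necessary {T : Scheme.{u}} {u : T ⟶ S} (h : CondT f F r u) {V' : T.Opens} (hV' : IsAffineOpen V')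
    (e : V' ≤ u ⁻¹ᵁ V.1) :
    chartI f F hfp hfl r V ≤ RingHom.ker (u.appLE V.1 V' e).hom ∧
      (chartG f F hfp hfl r V).map (u.appLE V.1 V' e).hom = ⊤ := by
  haveI : ((Scheme.Modules.pullback (pullback.fst f u)).obj F).IsQuasicoherent :=
    QCPull72.isQuasicoherent_pullback _ _
  obtain ⟨M', hM'⟩ := map_test_iff f F hfp hfl r V hV' e
  exact hM'.1 (lfr_of_condR hV' M' h)

theorem condT_of_tests {T : Scheme.{u}} {u : T ⟶ S}
    (h : ∀ t : T, ∃ (V : S.affineOpens) (V' : T.Opens) (_ : IsAffineOpen V') (e : V' ≤ u ⁻¹ᵁ V.1), t ∈ V' ∧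
      chartI f F hfp hfl r V ≤ RingHom.ker (u.appLE V.1 V' e).hom ∧
        (chartG f F hfp hfl r V).map (u.appLE V.1 V' e).hom = ⊤) :
    CondT f F r u := by
  let G := (Scheme.Modules.pullback (pullback.fst f u)).obj F
  haveI : G.IsQuasicoherent := QCPull72.isQuasicoherent_pullback _ _
  have key : ∀ t : T, (∃ U : T.Opens, t ∈ U ∧ Nonempty (((Scheme.Modules.pushforward (pullback.snd f u)).obj
      G).restrict U.ι ≅ FlatMod.freeMod (↑U : Scheme.{u}) r)) ∧ Good (pullback.snd f u) G ((0 : ℕ) : ℤ) t := by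
    intro t
    obtain ⟨V, V', hV', e, ht, hIG⟩ := h t
    obtain ⟨M', hM'⟩ := map_test_iff f F hfp hfl r V hV' e
    exact local_of_lfr hV' M' (hM'.2 hIG) ht
  exact ⟨fun t => (key t).1, fun X'' T' v' f'' u' hX =>
    isIso_bc0_of_good (pullback.snd f u) G v' f'' u' hX fun z => (key (u' z)).2⟩

theorem mem_G_iff {s : S} (hs : s ∈ V.1) :
    ¬ chartG f F hfp hfl r V ≤ (V.2.primeIdealOf ⟨s, hs⟩).asIdeal ↔ CohIII.fiberRank f F 0 s ≤ r := by
  refine (Fit14.not_le_iff_finrank_le _ _).trans ?_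
  show FCx40.fib (stratMod (chart f F hfp hfl V)) _ ≤ _ ↔ _
  rw [fib_stratMod V.2 _ hs, chartRank]
  omega

theorem mem_I_iff {s : S} (hs : s ∈ V.1) :
    chartI f F hfp hfl r V ≤ (V.2.primeIdealOf ⟨s, hs⟩).asIdeal ↔ r ≤ CohIII.fiberRank f F 0 s := by
  have key : ∀ k, Fitt.ideal Γ(S, V.1) (stratMod (chart f F hfp hfl V)) k ≤ (V.2.primeIdealOf ⟨s, hs⟩).asIdeal ↔
      k < nOne (chart f F hfp hfl V) + CohIII.fiberRank f F 0 s := fun k => by
    have h := Fit14.not_le_iff_finrank_le (M := stratMod (chart f F hfp hfl V))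
      (V.2.primeIdealOf ⟨s, hs⟩).asIdeal k
    have h' : FCx40.fib (stratMod (chart f F hfp hfl V)) (V.2.primeIdealOf ⟨s, hs⟩) =
        nOne (chart f F hfp hfl V) + CohIII.fiberRank f F 0 s := fib_stratMod V.2 _ hs
    rw [← not_iff_not, h, not_lt, ← h']
    rfl
  rw [chartI, iSup_le_iff]
  simp only [key]
  constructor
  · intro h
    by_contra hlt
    have := h ⟨nOne (chart f F hfp hfl V) + CohIII.fiberRank f F 0 s, by unfold chartRank; omega⟩
    exact lt_irrefl _ this
  · intro h k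
    have := k.2
    unfold chartRank at this
    omega

end Charts

end Groth.Agent.Mum71.Strat
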